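import Cfsg.Agent.Omega.NO3b.Exit.MU
import Cfsg.Agent.Omega.NO3b.Exit.AllLocal
import Cfsg.Agent.Omega.NO3b.TheoremL.Ne

/-!
# The bridge group → module for the local exit of NotFF, part 2: the X-side

`Sit V F T X U` : the panel `X` over `T` acts on the elementary abelian `U ≥ V`.  `h : H ≤ N_G(U)`, `X ≤ H`,
`X̄ = im h X ≤ XX h`, `imx h X A` the image of `A ≤ X` as a subgroup of `X̄`.

* `Sit.of_fl` : from `Fl`, `Par` (`NoEmp.Lines`);
* `Sit.sylb` : the Sylow 2-subgroup `T̄` of `X̄`; `core_eq` : `O₂(X̄)` is the image of `O₂(X)`;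
* `Sit.datU` : `DatU T̄ V F` for `X̄` on `MU hc` (344's input of THEOREM L);
* `Sit.mbu` : an optimal offender `A ≤ T` of `U`, `A ≰ O₂(X)`, is a minimal best offender of `X̄`, not in `O₂(X̄)`;
* `Sit.tight` : TIGHT for `X̄`; `GTight`, `Sit.gtight` : TIGHT in `G`.
-/

set_option autoImplicit false

namespace Cfsg.Agent.Omega.NO3b.Exit.Bridge

open Subgroup Cfsg
open Cfsg.Agent.ZN (o2 zc zl)
open Cfsg.Agent.ZN.ChoiceBase (cj mem_cj cj_mono cj_eq_of_mem_normalizer mem_normalizer_iff_cj)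
open Cfsg.Agent.ZN.ChoiceSit (Syl syl_iff syl_not_dvd o2_le_syl)
open Cfsg.Agent.MinSimple.MinParabolic (IsMinPar)
open Cfsg.Agent.MinSimple.VModule (oddGen oddGen_le le_normalizer_o2 o2_isPGroup le_o2 o2_le)
open Cfsg.Agent.Omega.FF.Basic (fx mm EA)
open Cfsg.Agent.Omega.NO3b.EZero (NotFF Par oddGen_sup_syl)
open Cfsg.Agent.Omega.NO3b.Alpha (Fl)
open Cfsg.Agent.Omega.NO3b.Exit.TT (cf nf mem_cf mem_nf mem_smul)
open Cfsg.Agent.Omega.FFBr (XX pr im mem_im card_im coe_pr_smul pr_eq_one pr_surjective)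
open Cfsg.Agent.Omega.NOThreeL.Star (Opt Ok ff)
open Cfsg.Agent.Omega.NO3b.TheoremL.Tight (DatU MBU TightAt Tight)
open scoped Pointwise

universe u

variable {G : Type u} [Group G]

/-- The panel `X` over `T` acts on `U ≥ V`. -/
structure Sit (V F T X U : Subgroup G) [Finite G] : Prop where
  cm : U ≤ centralizer (U : Set G)
  sq : ∀ u ∈ U, u ^ 2 = 1
  VU : V ≤ U
  XU : X ≤ normalizer (U : Set G)
  nff : NotFF V
  FV : F ≤ V
  XF : X ≤ centralizer (F : Set G)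
  syl : Syl T X
  mp : IsMinPar T X
  TV : T ≤ normalizer (V : Set G)
  nle : ¬ X ≤ normalizer (V : Set G)
  min : ∀ M : Subgroup G, T ≤ M → M ≤ X → M ≠ X → M ≤ normalizer (V : Set G)
  ti : ∀ x ∈ X, x ∉ normalizer (V : Set G) → V ⊓ cj x V ≤ F

variable {H U X : Subgroup G} (h : H ≤ normalizer (U : Set G)) (hX : X ≤ H)

/-- `X →* X̄` -/
def phi : X →* ↥(im h X) where
  toFun x := ⟨pr h ⟨x, hX x.2⟩, ⟨x, hX x.2⟩, x.2, rfl⟩
  map_one' := Subtype.ext (map_one (pr h))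
  map_mul' x y := Subtype.ext (map_mul (pr h) ⟨x, hX x.2⟩ ⟨y, hX y.2⟩)

@[simp] theorem coe_phi (x : X) : ((phi h hX x : ↥(im h X)) : XX h) = pr h ⟨x, hX x.2⟩ := rfl

theorem phi_surjective : Function.Surjective (phi h hX) := by
  rintro ⟨_, ⟨g, hg, rfl⟩⟩
  exact ⟨⟨g, hg⟩, rfl⟩

/-- the image of `A` in `X̄` -/
def imx (X A : Subgroup G) : Subgroup ↥(im h X) := (im h A).subgroupOf (im h X)

theorem imx_eq_map {A : Subgroup G} (hA : A ≤ X) : imx h X A = (A.subgroupOf X).map (phi h hX) := by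
  ext y
  constructor
  · rintro ⟨g, hg, hgy⟩
    exact ⟨⟨g, hA hg⟩, hg, Subtype.ext hgy⟩
  · rintro ⟨x, hx, rfl⟩
    exact ⟨⟨x, hX x.2⟩, hx, rfl⟩

theorem mem_imx {A : Subgroup G} {y : ↥(im h X)} : y ∈ imx h X A ↔ ∃ a : H, (a : G) ∈ A ∧ pr h a = y := Iff.rfl

theorem phi_mem_imx {A : Subgroup G} {x : X} (hx : (x : G) ∈ A) : phi h hX x ∈ imx h X A :=
  ⟨⟨x, hX x.2⟩, hx, rfl⟩

theorem exists_of_mem_imx {A : Subgroup G} (hA : A ≤ X) {y : ↥(im h X)} (hy : y ∈ imx h X A) :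
    ∃ x : X, (x : G) ∈ A ∧ phi h hX x = y := by
  rw [imx_eq_map h hX hA] at hy
  exact hy

theorem imx_mono {A B : Subgroup G} (hAB : A ≤ B) : imx h X A ≤ imx h X B := by
  rintro y ⟨g, hg, hgy⟩
  exact ⟨g, hAB hg, hgy⟩

theorem isPGroup_imx {A : Subgroup G} (hA : IsPGroup 2 A) (hAX : A ≤ X) (hX : X ≤ H) : IsPGroup 2 (imx h X A) := by
  rw [imx_eq_map h hX hAX]
  exact (hA.comap_of_injective _ X.subtype_injective).map _

variable {hc : U ≤ centralizer (U : Set G)}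

theorem card_imx [Finite G] {A : Subgroup G} (hA : A ≤ X) (hX : X ≤ H) :
    Nat.card (imx h X A) * Nat.card ↥(A ⊓ centralizer (U : Set G)) = Nat.card A := by
  rw [← card_im h (hA.trans hX)]
  congr 1
  exact Nat.card_congr (subgroupOfEquivOfLe (fun _ hy => by
    obtain ⟨g, hg, rfl⟩ := hy
    exact ⟨g, hA hg, rfl⟩)).toEquiv

theorem card_imx' [Finite G] {A : Subgroup G} (hA : A ≤ X) (hX : X ≤ H) :
    Nat.card (imx h X A) = (centralizer (U : Set G)).relIndex A := by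
  have h1 := card_imx h hA hX
  have h2 := NOThreeL.Star.rel_mul_card A (centralizer (U : Set G))
  rw [← h1] at h2
  exact (Nat.eq_of_mul_eq_mul_right Nat.card_pos h2).symm

/-- the pointwise action of `X̄` -/
theorem sm_phi (x : X) (K : Subgroup G) : sm (phi h hX x) (ad hc K) = ad hc (cj (x : G) K) := by
  ext w
  rw [sm, mem_smul]
  change (pr h ⟨x, hX x.2⟩)⁻¹ • w ∈ ad hc K ↔ _
  rw [mem_ad, mem_ad, val_smul_inv, mem_cj]

theorem phi_mem_nf_iff {x : X} {K : Subgroup G} (hK : K ≤ U) :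
    phi h hX x ∈ nf ↥(im h X) (ad hc K) ↔ (x : G) ∈ normalizer (K : Set G) := by
  have h1 := cj_mono (x : G) hK
  rw [cj_eq_of_mem_normalizer (h (hX x.2))] at h1
  have h2 : phi h hX x ∈ nf ↥(im h X) (ad hc K) ↔ sm (phi h hX x) (ad hc K) = ad hc K := mem_nf
  rw [h2, sm_phi, mem_normalizer_iff_cj, ad_inj h1 hK]

theorem val_phi (x : X) (w : MU hc) : val (phi h hX x • w) = x * val w * (x : G)⁻¹ := rfl

theorem val_phi_sub (x : X) (w : MU hc) :
    val (phi h hX x • w - w) = x * val w * (x : G)⁻¹ * (val w)⁻¹ := by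
  rw [val_sub, val_phi]

theorem phi_smul_eq_iff {x : X} {w : MU hc} : phi h hX x • w = w ↔ (x : G) * val w = val w * x :=
  pr_smul_eq_iff' h (g := ⟨x, hX x.2⟩)

theorem phi_mem_cf_iff {x : X} {K : Subgroup G} (hK : K ≤ U) :
    phi h hX x ∈ cf ↥(im h X) (ad hc K) ↔ (x : G) ∈ centralizer (K : Set G) := by
  rw [mem_cf, mem_centralizer_iff]
  constructor
  · intro h1 k hk
    exact ((phi_smul_eq_iff h hX).1 (h1 (mk hc (hK hk)) hk)).symm
  · intro h1 w hw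
    exact (phi_smul_eq_iff h hX).2 (h1 _ hw).symm

theorem fx_imx {A : Subgroup G} (hA : A ≤ X) (hX : X ≤ H) :
    fx (MU hc) (imx h X A) = ad hc (centralizer (A : Set G)) := by
  ext w
  rw [mem_ad, mem_centralizer_iff]
  constructor
  · intro hw a ha
    exact (phi_smul_eq_iff h hX).1 (hw (phi h hX ⟨a, hA ha⟩) (phi_mem_imx h hX ha))
  · intro hw y hy
    obtain ⟨x, hx, rfl⟩ := exists_of_mem_imx h hX hA hy
    exact (phi_smul_eq_iff h hX).2 (hw x hx)

theorem mm_imx [Finite G] {A : Subgroup G} (hA : A ≤ X) (hX : X ≤ H) : mm (MU hc) (imx h X A) = ff U A := by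
  rw [mm, card_imx' h hA hX, fx_imx h hA hX, card_ad, ff]

theorem phi_eq_one {x : X} : phi h hX x = 1 ↔ (x : G) ∈ centralizer (U : Set G) := by
  rw [← pr_eq_one h (g := ⟨x, hX x.2⟩)]
  exact Subtype.ext_iff

/-- every 2-subgroup of `X̄` is the image of a 2-subgroup of `X` -/
theorem exists_imx [Finite G] {A : Subgroup ↥(im h X)} (hA : IsPGroup 2 A) (hX : X ≤ H) :
    ∃ A₀ : Subgroup G, A₀ ≤ X ∧ IsPGroup 2 A₀ ∧ imx h X A₀ = A := by
  have hfact : Fact (Nat.Prime 2) := ⟨Nat.prime_two⟩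
  set K : Subgroup X := A.comap (phi h hX) with hK
  let ψ : K →* A := ((phi h hX).comp K.subtype).codRestrict A fun x => x.2
  have hψ : Function.Surjective ψ := by
    rintro ⟨y, hy⟩
    obtain ⟨x, rfl⟩ := phi_surjective h hX y
    exact ⟨⟨x, hy⟩, rfl⟩
  obtain ⟨P⟩ := (inferInstance : Nonempty (Sylow 2 K))
  have h1 : (P.mapSurjective hψ : Subgroup A) = ⊤ := by
    apply (P.mapSurjective hψ).3 _ le_top |>.symm
    exact hA.of_equiv Subgroup.topEquiv.symm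
  refine ⟨((P : Subgroup K).map K.subtype).map X.subtype, map_subtype_le _, (P.2.map _).map _, ?_⟩
  rw [imx_eq_map h hX (map_subtype_le _)]
  have e : (((P : Subgroup K).map K.subtype).map X.subtype).subgroupOf X = (P : Subgroup K).map K.subtype :=
    comap_map_eq_self_of_injective X.subtype_injective _
  rw [e]
  apply le_antisymm
  · rintro _ ⟨_, ⟨k, -, rfl⟩, rfl⟩
    exact k.2
  · intro y hy
    have h2 : (⟨y, hy⟩ : A) ∈ (P.mapSurjective hψ : Subgroup A) := by rw [h1]; exact mem_top _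
    rw [Sylow.coe_mapSurjective] at h2
    obtain ⟨k, hk, hky⟩ := h2
    exact ⟨k, ⟨k, hk, rfl⟩, congrArg Subtype.val hky⟩

variable [Finite G] {V F T : Subgroup G}

/-- from the panels of ALPHA -/
theorem Sit.of_fl {S : Sylow 2 G} {J : Subgroup G} (hG : IsCharacteristicTwoType G) (l : NoEmp.Lines S J V)
    (f : Fl S V F T) (p : Par V F T X) (cm : U ≤ centralizer (U : Set G)) (sq : ∀ u ∈ U, u ^ 2 = 1) (VU : V ≤ U)
    (XU : X ≤ normalizer (U : Set G)) : Sit V F T X U where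
  cm := cm
  sq := sq
  VU := VU
  XU := XU
  nff := l.nff
  FV := f.le
  XF := p.le
  syl := f.sylX p
  mp := f.isMinPar l p
  TV := f.T_le.trans l.S_le
  nle := p.nle
  min := p.min
  ti := fun x hx hn => ((pan f l p fun g hg => Alpha.ti hG l g hg).line x hx hn).le

namespace Sit

variable (s : Sit V F T X U)
include s

theorem two (w : MU s.cm) : w + w = 0 := by
  apply val_inj
  rw [val_add, val_zero, ← pow_two]
  exact s.sq _ (val_mem w)

omit [Finite G] s in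
theorem faith_x (hc : U ≤ centralizer (U : Set G)) (x : ↥(im h X)) (hx : ∀ w : MU hc, x • w = w) : x = 1 :=
  Subtype.ext (faith h (x : XX h) hx)

include hX

/-- the Sylow 2-subgroup `T̄` -/
theorem exists_syl : ∃ P : Sylow 2 ↥(im h X), (P : Subgroup ↥(im h X)) = imx h X T := by
  have hfact : Fact (Nat.Prime 2) := ⟨Nat.prime_two⟩
  obtain ⟨P, hP⟩ := syl_iff.1 s.syl
  refine ⟨P.mapSurjective (phi_surjective h hX), ?_⟩
  rw [Sylow.coe_mapSurjective, imx_eq_map h hX s.syl.1]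
  congr 1
  rw [← hP]
  exact (comap_map_eq_self_of_injective X.subtype_injective _).symm

theorem SV {P : Sylow 2 ↥(im h X)} (hP : (P : Subgroup ↥(im h X)) = imx h X T) :
    (P : Subgroup ↥(im h X)) ≤ nf ↥(im h X) (ad s.cm V) := by
  rw [hP]
  intro y hy
  obtain ⟨x, hx, rfl⟩ := exists_of_mem_imx h hX s.syl.1 hy
  exact (phi_mem_nf_iff h hX s.VU).2 (s.TV hx)

theorem ne_bar : nf ↥(im h X) (ad s.cm V) ≠ ⊤ := by
  intro h0
  apply s.nle
  intro x hx
  have h1 : phi h hX ⟨x, hx⟩ ∈ nf ↥(im h X) (ad s.cm V) := by rw [h0]; exact mem_top _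
  exact (phi_mem_nf_iff h hX s.VU).1 h1

theorem uniq {P : Sylow 2 ↥(im h X)} (hP : (P : Subgroup ↥(im h X)) = imx h X T) (K : Subgroup ↥(im h X))
    (hPK : (P : Subgroup ↥(im h X)) ≤ K) (hK : K ≠ ⊤) : K ≤ nf ↥(im h X) (ad s.cm V) := by
  have h1 := s.min ((K.comap (phi h hX)).map X.subtype) (by
    intro t ht
    refine ⟨⟨t, s.syl.1 ht⟩, ?_, rfl⟩
    apply hPK
    rw [hP]
    exact phi_mem_imx h hX ht) (map_subtype_le _) (fun h0 => hK (by
      rw [eq_top_iff]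
      intro y _
      obtain ⟨x, rfl⟩ := phi_surjective h hX y
      have h2 : (x : G) ∈ (K.comap (phi h hX)).map X.subtype := by rw [h0]; exact x.2
      obtain ⟨x', hx', h3⟩ := h2
      rwa [Subtype.ext h3] at hx'))
  intro y hy
  obtain ⟨x, rfl⟩ := phi_surjective h hX y
  exact (phi_mem_nf_iff h hX s.VU).2 (h1 ⟨x, hy, rfl⟩)

omit hX in
theorem FV_bar : ad s.cm F ≤ ad s.cm V := ad_mono s.FV

theorem Fx_bar (y : ↥(im h X)) (w : MU s.cm) (hw : w ∈ ad s.cm F) : y • w = w := by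
  obtain ⟨x, rfl⟩ := phi_surjective h hX y
  refine (phi_smul_eq_iff h hX).2 ?_
  exact (mem_centralizer_iff.1 (s.XF x.2) _ hw).symm

theorem ti_bar (y : ↥(im h X)) (hy : sm y (ad s.cm V) ≠ ad s.cm V) : ad s.cm V ⊓ sm y (ad s.cm V) ≤ ad s.cm F := by
  obtain ⟨x, rfl⟩ := phi_surjective h hX y
  rw [sm_phi] at hy ⊢
  rw [← ad_inf]
  refine ad_mono (s.ti x x.2 fun h0 => hy ?_)
  rw [cj_eq_of_mem_normalizer h0]

theorem nff_bar (A : Subgroup ↥(im h X)) (hA : IsPGroup 2 A) (hn : A ≤ nf ↥(im h X) (ad s.cm V))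
    (hsq : ∀ a ∈ A, ∀ v ∈ ad s.cm V, a • a • v = v) (hne : ¬ A ≤ cf ↥(im h X) (ad s.cm V)) :
    Nat.card A * Nat.card ↥(ad s.cm V ⊓ fx (MU s.cm) A) <
      Nat.card (ad s.cm V) * Nat.card ↥(A ⊓ cf ↥(im h X) (ad s.cm V)) := by
  obtain ⟨A₀, hA₀X, hA₀p, rfl⟩ := exists_imx h hA hX
  have hAV : A₀ ≤ normalizer (V : Set G) := fun a ha =>
    (phi_mem_nf_iff h hX (hc := s.cm) s.VU (x := ⟨a, hA₀X ha⟩)).1 (hn (phi_mem_imx h hX ha))
  have key : ∀ a ∈ A₀, ∀ v ∈ V, a * (a * v * a⁻¹) * a⁻¹ = v := by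
    intro a ha v hv
    have h1 := hsq (phi h hX ⟨a, hA₀X ha⟩) (phi_mem_imx h hX ha) (Bridge.mk s.cm (s.VU hv)) hv
    exact congrArg val h1
  have hsq' : ∀ a ∈ A₀, a ^ 2 ∈ centralizer (V : Set G) := by
    intro a ha
    rw [mem_centralizer_iff]
    intro v hv
    have h1 := key a ha v hv
    have e : v * a ^ 2 = (a * (a * v * a⁻¹) * a⁻¹) * a ^ 2 := by rw [h1]
    rw [e, pow_two]; group
  have hcomm : ∀ a ∈ A₀, ∀ b ∈ A₀, a * b * a⁻¹ * b⁻¹ ∈ centralizer (V : Set G) := by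
    intro a ha b hb
    have hVn : (centralizer (V : Set G)).subgroupOf (normalizer (V : Set G)) |>.Normal := inferInstance
    have h1 := hsq' a ha
    have h2 := hsq' b hb
    have h3 := hsq' (a * b) (mul_mem ha hb)
    have e : a * b * a⁻¹ * b⁻¹ = (a * b) ^ 2 * ((b⁻¹ * (a ^ 2)⁻¹ * b)) * (b ^ 2)⁻¹ := by
      rw [pow_two, pow_two, pow_two]; group
    rw [e]
    refine mul_mem (mul_mem h3 ?_) (inv_mem h2)
    have h4 := hVn.conj_mem ⟨(a ^ 2)⁻¹, inv_mem (centralizer_le_normalizer _ h1)⟩ (inv_mem h1)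
      (⟨b, hAV hb⟩⁻¹ : ↥(normalizer (V : Set G)))
    have h5 : b⁻¹ * (a ^ 2)⁻¹ * (b⁻¹)⁻¹ ∈ centralizer (V : Set G) := h4
    rwa [inv_inv] at h5
  have hnc : ¬ A₀ ≤ centralizer (V : Set G) := fun h0 => hne fun y hy => by
    obtain ⟨x, hx, rfl⟩ := exists_of_mem_imx h hX hA₀X hy
    exact (phi_mem_cf_iff h hX s.VU).2 (h0 hx)
  have h1 := s.nff A₀ hA₀p hAV hsq' hcomm hnc
  have e1 : ad s.cm V ⊓ fx (MU s.cm) (imx h X A₀) = ad s.cm (V ⊓ centralizer (A₀ : Set G)) := by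
    rw [fx_imx h hA₀X hX, ad_inf]
  have e2 : imx h X A₀ ⊓ cf ↥(im h X) (ad s.cm V) = imx h X (A₀ ⊓ centralizer (V : Set G)) := by
    ext y
    constructor
    · rintro ⟨h2, h3⟩
      obtain ⟨x, hx, rfl⟩ := exists_of_mem_imx h hX hA₀X h2
      exact phi_mem_imx h hX ⟨hx, (phi_mem_cf_iff h hX s.VU).1 h3⟩
    · intro h2
      obtain ⟨x, hx, rfl⟩ := exists_of_mem_imx h hX (inf_le_left.trans hA₀X) h2
      exact ⟨phi_mem_imx h hX hx.1, (phi_mem_cf_iff h hX s.VU).2 hx.2⟩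
  rw [e1, e2, card_ad_of_le (inf_le_left.trans s.VU), card_ad_of_le s.VU]
  have c1 := card_imx h hA₀X hX
  have c2 := card_imx h (inf_le_left.trans hA₀X : A₀ ⊓ centralizer (V : Set G) ≤ X) hX
  have e3 : A₀ ⊓ centralizer (V : Set G) ⊓ centralizer (U : Set G) = A₀ ⊓ centralizer (U : Set G) := by
    rw [inf_assoc, inf_eq_right.2 (centralizer_le s.VU)]
  rw [e3] at c2
  have r1 := NOThreeL.Star.rel_mul_card A₀ (centralizer (V : Set G))
  have r2 := NOThreeL.Star.rel_mul_card V (centralizer (A₀ : Set G))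
  have p0 : 0 < Nat.card ↥(A₀ ⊓ centralizer (U : Set G)) := Nat.card_pos
  have p1 : 0 < Nat.card ↥(A₀ ⊓ centralizer (V : Set G)) := Nat.card_pos
  have p2 : 0 < Nat.card ↥(V ⊓ centralizer (A₀ : Set G)) := Nat.card_pos
  refine lt_of_mul_lt_mul_right ?_ p0.le
  calc Nat.card (imx h X A₀) * Nat.card ↥(V ⊓ centralizer (A₀ : Set G)) * Nat.card ↥(A₀ ⊓ centralizer (U : Set G))
      = (Nat.card (imx h X A₀) * Nat.card ↥(A₀ ⊓ centralizer (U : Set G))) *
          Nat.card ↥(V ⊓ centralizer (A₀ : Set G)) := by ring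
    _ = (centralizer (V : Set G)).relIndex A₀ *
          (Nat.card ↥(A₀ ⊓ centralizer (V : Set G)) * Nat.card ↥(V ⊓ centralizer (A₀ : Set G))) := by
        rw [c1, ← r1]; ring
    _ < (centralizer (A₀ : Set G)).relIndex V *
          (Nat.card ↥(A₀ ⊓ centralizer (V : Set G)) * Nat.card ↥(V ⊓ centralizer (A₀ : Set G))) :=
        Nat.mul_lt_mul_of_pos_right h1 (Nat.mul_pos p1 p2)
    _ = Nat.card V * Nat.card ↥(A₀ ⊓ centralizer (V : Set G)) := by rw [← r2]; ring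
    _ = _ := by rw [← c2]; ring

/-! ### `O₂(X̄)` -/

theorem cap_core : T ⊓ ((pCore 2 ↥(im h X)).comap (phi h hX)).map X.subtype ≤ o2 X := by
  have hfact : Fact (Nat.Prime 2) := ⟨Nat.prime_two⟩
  have hN : (pCore 2 ↥(im h X)).Normal := Lib.Cores.pCore_normal 2
  have hN' : ((pCore 2 ↥(im h X)).comap (phi h hX)).Normal := hN.comap _
  have hXn : X ≤ normalizer ((((pCore 2 ↥(im h X)).comap (phi h hX)).map X.subtype : Subgroup G) : Set G) := by
    have h1 := (normalizer_eq_top_iff (H := (pCore 2 ↥(im h X)).comap (phi h hX))).2 hN'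
    have h2 := le_normalizer_map (H := (pCore 2 ↥(im h X)).comap (phi h hX)) X.subtype
    rw [h1, ← MonoidHom.range_eq_map, range_subtype] at h2
    exact h2
  rcases K0.min_or s.syl s.mp (map_subtype_le _) hXn with h1 | h1
  · exfalso
    apply s.nle
    rw [← oddGen_sup_syl s.syl]
    refine sup_le (le_trans ?_ ((centralizer_le s.VU).trans (centralizer_le_normalizer _))) s.TV
    rw [MinSimple.VModule.oddGen_def, closure_le]
    rintro x ⟨hx, hodd⟩
    have h2 := h1 (MinSimple.VModule.mem_oddGen hx hodd)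
    obtain ⟨x', hx', rfl⟩ := h2
    refine (phi_eq_one h hX).1 ?_
    have h3 : IsPGroup 2 (pCore 2 ↥(im h X)) := Lib.Cores.pCore_isPGroup 2
    have h4 : orderOf (phi h hX x') ∣ orderOf x' := orderOf_map_dvd _ _
    have h5 : orderOf (x' : G) = orderOf x' := orderOf_coe x'
    obtain ⟨k, hk⟩ := IsPGroup.iff_orderOf.1 h3 ⟨phi h hX x', hx'⟩
    have h6 : orderOf (phi h hX x') = 2 ^ k := by rw [← hk]; exact (orderOf_mk _ _).symm
    have hodd' : Odd (orderOf (phi h hX x')) := Odd.of_dvd_nat (by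
      rw [← h5]; exact hodd) h4
    rw [h6] at hodd'
    rcases Nat.eq_zero_or_pos k with h7 | h7
    · rw [h7, pow_zero] at h6
      exact orderOf_eq_one_iff.1 h6
    · exact absurd hodd' (Nat.not_odd_iff_even.2 ((Nat.even_pow.2 ⟨even_two, h7.ne'⟩)))
  · exact h1

/-- `O₂(X̄)` is the image of `O₂(X)`. -/
theorem core_eq : imx h X (o2 X) = pCore 2 ↥(im h X) := by
  have hfact : Fact (Nat.Prime 2) := ⟨Nat.prime_two⟩
  apply le_antisymm
  · have h1 : (imx h X (o2 X)).Normal := by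
      rw [imx_eq_map h hX (o2_le X)]
      refine Normal.map ?_ _ (phi_surjective h hX)
      exact normal_subgroupOf_of_le_normalizer (le_normalizer_o2 X)
    exact le_sSup ⟨h1, isPGroup_imx h (o2_isPGroup X) (o2_le X) hX⟩
  · intro y hy
    obtain ⟨P, hP⟩ := s.exists_syl h hX
    have h1 : y ∈ imx h X T := by
      rw [← hP]
      exact Lib.Cores.pCore_le_sylow P hy
    obtain ⟨x, hx, rfl⟩ := exists_of_mem_imx h hX s.syl.1 h1
    exact phi_mem_imx h hX (s.cap_core h hX ⟨hx, ⟨x, hy, rfl⟩⟩)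

/-! ### The optimal offender -/

variable {A : Subgroup G} (o : Opt U A)
include o

omit [Finite G] s in
theorem ea_bar (hA : A ≤ X) : EA (imx h X A) := by
  intro y hy
  obtain ⟨x, hx, rfl⟩ := exists_of_mem_imx h hX hA hy
  rw [← map_mul, phi_eq_one]
  have h1 := o.sq _ hx
  rw [pow_two] at h1
  exact h1

omit o in
theorem nle_bar (hA : A ≤ T) (hQ : ¬ A ≤ o2 X) : ¬ imx h X A ≤ pCore 2 ↥(im h X) := by
  intro h0
  apply hQ
  intro a ha
  refine s.cap_core h hX ⟨hA ha, ⟨⟨a, s.syl.1 (hA ha)⟩, h0 ?_, rfl⟩⟩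
  exact phi_mem_imx h hX ha

omit s in
theorem off_bar (hA : A ≤ X) (hc : U ≤ centralizer (U : Set G)) :
    Nat.card (MU hc) ≤ mm (MU hc) (imx h X A) := by
  rw [mm_imx h hA hX, card_MU]
  have h1 : Ok U (⊥ : Subgroup G) :=
    { sq := fun a ha => by rw [mem_bot.1 ha, one_pow]; exact one_mem _
      comm := fun a ha b hb => by
        rw [mem_bot.1 ha, mem_bot.1 hb, inv_one, mul_one, mul_one, mul_one]; exact one_mem _
      pg := IsPGroup.of_bot
      norm := bot_le }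
  refine le_trans ?_ (o.max _ h1)
  unfold ff
  rw [relIndex_bot_right, one_mul, coe_bot, centralizer_eq_top_iff_subset.2 (by
    intro x hx
    rw [Set.mem_singleton_iff.1 hx]
    exact one_mem _), inf_top_eq]

omit s in
theorem min_bar (hA : A ≤ X) (hc : U ≤ centralizer (U : Set G)) (E : Subgroup ↥(im h X))
    (hE : E < imx h X A) (hE1 : E ≠ ⊥) : mm (MU hc) E < mm (MU hc) (imx h X A) := by
  set A₁ : Subgroup G := A ⊓ (E.comap (phi h hX)).map X.subtype with hA₁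
  have hA₁A : A₁ ≤ A := inf_le_left
  have hAX : A₁ ≤ X := hA₁A.trans hA
  have e : imx h X A₁ = E := by
    apply le_antisymm
    · intro y hy
      obtain ⟨x, hx, rfl⟩ := exists_of_mem_imx h hX hAX hy
      obtain ⟨x', hx', h1⟩ := hx.2
      rwa [Subtype.ext h1] at hx'
    · intro y hy
      obtain ⟨x, hx, rfl⟩ := exists_of_mem_imx h hX hA (hE.le hy)
      exact phi_mem_imx h hX ⟨hx, ⟨x, hy, rfl⟩⟩
  have ok : Ok U A₁ := o.toOk.mono hA₁A
  have hnc : ¬ A₁ ≤ centralizer (U : Set G) := by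
    intro h0
    apply hE1
    rw [← e, eq_bot_iff]
    intro y hy
    obtain ⟨x, hx, rfl⟩ := exists_of_mem_imx h hX hAX hy
    exact mem_bot.2 ((phi_eq_one h hX).2 (h0 hx))
  have h1 := o.max _ ok
  rw [← e, mm_imx h hA hX, mm_imx h hAX hX]
  refine lt_of_le_of_ne h1 fun h2 => ?_
  have h3 := o.min _ ok hnc h2
  rw [← card_imx' h hA hX, ← card_imx' h hAX hX, e] at h3
  exact absurd (eq_of_le_of_card_ge hE.le h3) hE.ne

omit o in
/-- **the input of THEOREM L** -/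
theorem datU {P : Sylow 2 ↥(im h X)} (hP : (P : Subgroup ↥(im h X)) = imx h X T) :
    DatU P (ad s.cm V) (ad s.cm F) where
  two := s.two
  faith := faith_x h s.cm
  SV := s.SV h hX hP
  ne := s.ne_bar h hX
  uniq := s.uniq h hX hP
  FV := s.FV_bar
  Fx := fun x f hf => s.Fx_bar h hX x f hf
  ti := s.ti_bar h hX
  nff := s.nff_bar h hX

theorem mbu (hA : A ≤ T) (hQ : ¬ A ≤ o2 X) : MBU (MU s.cm) (imx h X A) where
  ea := ea_bar h hX o (hA.trans s.syl.1)
  nle := s.nle_bar h hX hA hQ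
  off := off_bar h hX o (hA.trans s.syl.1) s.cm
  min := fun E h1 h2 => min_bar h hX o (hA.trans s.syl.1) s.cm E h1 h2

/-- **TIGHT** -/
theorem tight (hA : A ≤ T) (hQ : ¬ A ≤ o2 X) : Tight (imx h X A) (ad s.cm V) (ad s.cm F) := by
  obtain ⟨P, hP⟩ := s.exists_syl h hX
  exact TheoremL.Tight.tight (s.datU h hX hP) (s.mbu h hX o hA hQ)

end Sit

/-! ### TIGHT in `G` -/

/-- **TIGHT**, for the line `V^x`, in `G` -/
structure GTightAt (V F X U A : Subgroup G) (x : G) : Prop where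
  sup : cj x V ⊔ (U ⊓ centralizer (A : Set G)) = U
  inf : cj x V ⊓ centralizer (A : Set G) = F
  nf_iff : ∀ a ∈ A, a ∈ normalizer ((cj x V : Subgroup G) : Set G) ↔ a ∈ o2 X
  cf : ∀ a ∈ A, a ∈ o2 X → a ∈ centralizer ((cj x V : Subgroup G) : Set G) → a ∈ centralizer (U : Set G)

/-- **TIGHT** in `G` -/
structure GTight (V F X U A : Subgroup G) : Prop where
  ff_eq : ff U A = Nat.card U
  card : (centralizer (U : Set G)).relIndex A * Nat.card F = Nat.card V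
  quad : ∀ a ∈ A, ∀ b ∈ A, ∀ u ∈ U, b * (a * u * a⁻¹ * u⁻¹) = a * u * a⁻¹ * u⁻¹ * b
  fx : ¬ A ⊓ o2 X ≤ centralizer (U : Set G) →
    U ⊓ centralizer ((A ⊓ o2 X : Subgroup G) : Set G) = U ⊓ centralizer (A : Set G)
  comm : ∀ a ∈ A, a ∈ o2 X → ∀ u ∈ U, a * u * a⁻¹ * u⁻¹ ∈ F
  ex : ∃ x ∈ X, ¬ A ≤ normalizer ((cj x V : Subgroup G) : Set G)
  all : ∀ x ∈ X, ¬ A ≤ normalizer ((cj x V : Subgroup G) : Set G) → GTightAt V F X U A x

namespace Sit

variable (s : Sit V F T X U) {A : Subgroup G} (o : Opt U A)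
include s hX

theorem mem_core_iff {a : X} (ha : (a : G) ∈ T) : phi h hX a ∈ pCore 2 ↥(im h X) ↔ (a : G) ∈ o2 X := by
  constructor
  · intro h1
    exact s.cap_core h hX ⟨ha, ⟨a, h1, rfl⟩⟩
  · intro h1
    rw [← s.core_eq h hX]
    exact phi_mem_imx h hX h1

include o
omit hX

theorem gtight (hA : A ≤ T) (hQ : ¬ A ≤ o2 X) : GTight V F X U A := by
  have h : X ≤ normalizer (U : Set G) := s.XU
  have hX : X ≤ X := le_rfl
  have t := s.tight h hX o hA hQ
  have m := s.mbu h hX o hA hQ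
  have hAX : A ≤ X := hA.trans s.syl.1
  have cjU : ∀ x ∈ X, cj x V ≤ U := fun x hx => by
    have h1 := cj_mono x s.VU
    rwa [cj_eq_of_mem_normalizer (s.XU hx)] at h1
  have hnf : ∀ (x : X) (a : G) (ha : a ∈ A), phi h hX ⟨a, hAX ha⟩ ∈ nf ↥(im h X) (sm (phi h hX x) (ad s.cm V)) ↔
      a ∈ normalizer ((cj (x : G) V : Subgroup G) : Set G) := by
    intro x a ha
    rw [sm_phi]
    exact phi_mem_nf_iff h hX (cjU x x.2)
  have hmv : ∀ x : X, ¬ A ≤ normalizer ((cj (x : G) V : Subgroup G) : Set G) ↔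
      ¬ imx h X A ≤ nf ↥(im h X) (sm (phi h hX x) (ad s.cm V)) := by
    intro x
    rw [not_iff_not]
    constructor
    · intro h1 y hy
      obtain ⟨a, ha, rfl⟩ := exists_of_mem_imx h hX hAX hy
      exact (hnf x a ha).2 (h1 ha)
    · intro h1 a ha
      exact (hnf x a ha).1 (h1 (phi_mem_imx h hX ha))
  have eAQ : imx h X A ⊓ pCore 2 ↥(im h X) = imx h X (A ⊓ o2 X) := by
    ext y
    constructor
    · rintro ⟨h1, h2⟩
      obtain ⟨a, ha, rfl⟩ := exists_of_mem_imx h hX hAX h1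
      exact phi_mem_imx h hX ⟨ha, (s.mem_core_iff h hX (hA ha)).1 h2⟩
    · intro h1
      obtain ⟨a, ha, rfl⟩ := exists_of_mem_imx h hX (inf_le_left.trans hAX) h1
      exact ⟨phi_mem_imx h hX ha.1, (s.mem_core_iff h hX (hA ha.1)).2 ha.2⟩
  refine ⟨?_, ?_, ?_, ?_, ?_, ?_, ?_⟩
  · rw [← mm_imx (hc := s.cm) h hAX hX, t.mm_eq, card_MU]
  · have h1 := t.card
    rwa [card_imx' h hAX hX, card_ad_of_le (s.FV.trans s.VU), card_ad_of_le s.VU] at h1
  · intro a ha b hb u hu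
    have h1 := TT.quad' s.two m.ea m.ne_bot m.off m.min _ (phi_mem_imx h hX (x := ⟨a, hAX ha⟩) ha) _
      (phi_mem_imx h hX (x := ⟨b, hAX hb⟩) hb) (Bridge.mk s.cm hu)
    have h2 := (phi_smul_eq_iff h hX).1 h1
    rw [val_phi_sub] at h2
    exact h2
  · intro h1
    have h2 := t.fx_eq (by
      rw [eAQ]
      intro h0
      apply h1
      intro a ha
      have h3 : phi h hX ⟨a, hAX ha.1⟩ ∈ imx h X (A ⊓ o2 X) := phi_mem_imx h hX ha
      rw [h0, mem_bot, phi_eq_one] at h3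
      exact h3)
    rw [eAQ, fx_imx h (inf_le_left.trans hAX) hX, fx_imx h hAX hX, ← ad_inf_U, ← ad_inf_U (centralizer (A : Set G)),
      ad_inj inf_le_left inf_le_left] at h2
    exact h2
  · intro a ha haQ u hu
    have h1 := t.comm (phi h hX ⟨a, hAX ha⟩) ⟨phi_mem_imx h hX ha, (s.mem_core_iff h hX (hA ha)).2 haQ⟩
      (Bridge.mk s.cm hu)
    rw [mem_ad, val_phi_sub] at h1
    exact h1
  · obtain ⟨y, hy⟩ := t.ex
    obtain ⟨x, rfl⟩ := phi_surjective h hX y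
    exact ⟨x, x.2, (hmv x).2 hy⟩
  · intro x hx hx1
    have t1 := t.all (phi h hX ⟨x, hx⟩) ((hmv ⟨x, hx⟩).1 hx1)
    have e0 : phi h hX ⟨x, hx⟩ • ad s.cm V = ad s.cm (cj x V) := sm_phi h hX ⟨x, hx⟩ V
    have e1 : imx h X A ⊓ nf ↥(im h X) (ad s.cm (cj x V)) = imx h X A ⊓ pCore 2 ↥(im h X) := by
      rw [← e0]; exact t1.nf_eq
    have e2 : imx h X A ⊓ pCore 2 ↥(im h X) ⊓ cf ↥(im h X) (ad s.cm (cj x V)) = ⊥ := by
      rw [← e0]; exact t1.cf_eq
    refine ⟨?_, ?_, ?_, ?_⟩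
    · apply le_antisymm (sup_le (cjU x hx) inf_le_left)
      intro u hu
      have h2 : Bridge.mk s.cm hu ∈ ad s.cm (cj x V) ⊔ ad s.cm (centralizer (A : Set G)) := by
        rw [← e0, ← fx_imx h hAX hX]
        have h3 := t1.sup
        have h4 : Bridge.mk s.cm hu ∈ (⊤ : AddSubgroup (MU s.cm)) := AddSubgroup.mem_top _
        rw [← h3] at h4
        exact h4
      obtain ⟨v, hv, w, hw, h3⟩ := AddSubgroup.mem_sup.1 h2
      have h4 := congrArg val h3
      rw [val_add, val_mk] at h4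
      rw [← h4]
      exact mul_mem (mem_sup_left hv) (mem_sup_right ⟨val_mem w, hw⟩)
    · have h2 := t1.inf
      have h3 : ad s.cm (cj x V) ⊓ ad s.cm (centralizer (A : Set G)) = ad s.cm F := by
        rw [← e0, ← fx_imx h hAX hX]; exact h2
      rw [← ad_inf, ad_inj (inf_le_left.trans (cjU x hx)) (s.FV.trans s.VU)] at h3
      exact h3
    · intro a ha
      rw [← s.mem_core_iff h hX (a := ⟨a, hAX ha⟩) (hA ha), ← phi_mem_nf_iff (hc := s.cm) h hX (x := ⟨a, hAX ha⟩) (cjU x hx)]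
      have h2 : phi h hX ⟨a, hAX ha⟩ ∈ imx h X A := phi_mem_imx h hX ha
      constructor
      · intro h3
        have h4 : phi h hX ⟨a, hAX ha⟩ ∈ imx h X A ⊓ nf ↥(im h X) (ad s.cm (cj x V)) := ⟨h2, h3⟩
        rw [e1] at h4
        exact h4.2
      · intro h3
        have h4 : phi h hX ⟨a, hAX ha⟩ ∈ imx h X A ⊓ pCore 2 ↥(im h X) := ⟨h2, h3⟩
        rw [← e1] at h4
        exact h4.2
    · intro a ha haQ hac
      have h2 : phi h hX ⟨a, hAX ha⟩ ∈ imx h X A ⊓ pCore 2 ↥(im h X) ⊓ cf ↥(im h X) (ad s.cm (cj x V)) :=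
        ⟨⟨phi_mem_imx h hX ha, (s.mem_core_iff h hX (hA ha)).2 haQ⟩, (phi_mem_cf_iff h hX (cjU x hx)).2 hac⟩
      rw [e2, mem_bot, phi_eq_one] at h2
      exact h2

/-- FULL -/
theorem gfull (hA : A ≤ T) (hQ : ¬ A ≤ o2 X) {κ : G} (hκ : κ ∈ X)
    (h1 : U ⊓ centralizer (A : Set G) ≤ centralizer {κ}) (h2 : ∀ u ∈ U, κ * u * κ⁻¹ * u⁻¹ ∈ F) :
    ∃ a ∈ A, a⁻¹ * κ ∈ centralizer (U : Set G) := by
  have h : X ≤ normalizer (U : Set G) := s.XU
  have hX : X ≤ X := le_rfl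
  obtain ⟨P, hP⟩ := s.exists_syl h hX
  have hAX : A ≤ X := hA.trans s.syl.1
  have h3 := TheoremL.Tight.full (s.datU h hX hP) (s.mbu h hX o hA hQ) (κ := phi h hX ⟨κ, hκ⟩) (by
    intro u hu
    rw [fx_imx h hAX hX] at hu
    refine (phi_smul_eq_iff h hX).2 ?_
    have h3 := h1 ⟨val_mem u, hu⟩
    exact mem_centralizer_iff.1 h3 κ rfl) (fun u => by
      rw [mem_ad, val_phi_sub]
      exact h2 _ (val_mem u))
  obtain ⟨a, ha, h4⟩ := exists_of_mem_imx h hX hAX h3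
  refine ⟨a, ha, ?_⟩
  have h5 : phi h hX (a⁻¹ * ⟨κ, hκ⟩) = 1 := by rw [map_mul, map_inv, h4, inv_mul_cancel]
  exact (phi_eq_one h hX).1 h5

end Sit

end Cfsg.Agent.Omega.NO3b.Exit.Bridge
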