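import Cfsg.Agent.Omega.NO3b.Exit.RedOf
import Cfsg.Agent.Omega.NO3b.Exit.MU
import Cfsg.Agent.MinSimple.EmptyE.Trans

/-!
# LOC, piece L2': the M-side of the bridge group → module

`U` an abelian subgroup, `h : H ≤ N_G(U)`, `XX h` the group induced by `H` on `U` (`Exit/MU.lean`).

* `syl_im` : the image of a Sylow 2-subgroup;
* `im_smul`, `im_fix`, `im_conj`, ... : images of `M ≤ H` on `ad hc V`;
* `red_im` : `S` a Sylow 2-subgroup of `M ≤ H`, `Z ≤ V` centralised by `S`, every subgroup of `G` over `Z` normalised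
  by `M` contains `V`: then `Red (im h M) (ad hc V)`.
-/

set_option autoImplicit false

namespace Cfsg.Agent.Omega.NO3b.Exit.LocBar

open Subgroup Cfsg
open Cfsg.Agent.ZN.ChoiceSit (Syl)
open Cfsg.Agent.Omega.NO3b.Exit.Bridge
open Cfsg.Agent.Omega.NO3b.Exit.TDat (Red red_of)
open Cfsg.Agent.Omega.FFBr (XX pr im mem_im card_im coe_pr_smul pr_eq_one pr_surjective)
open Cfsg.Agent.Omega.FF.Basic (fx)

universe u

variable {G : Type u} [Group G] {H U : Subgroup G} (h : H ≤ normalizer (U : Set G))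

theorem pr_mem_im {A : Subgroup G} {a : G} (ha : a ∈ A) (haH : a ∈ H) : pr h ⟨a, haH⟩ ∈ im h A :=
  mem_im.2 ⟨⟨a, haH⟩, ha, rfl⟩

theorem im_mono {A B : Subgroup G} (hAB : A ≤ B) : im h A ≤ im h B := by
  rintro _ ⟨a, ha, rfl⟩
  exact ⟨a, hAB ha, rfl⟩

theorem syl_im [Finite G] {S M : Subgroup G} (hS : Syl S M) (hM : M ≤ H) : Syl (im h S) (im h M) :=
  Cfsg.Agent.MinSimple.EmptyE.Trans.syl_im (pr h) hS hM

theorem isPGroup_im {A : Subgroup G} (hA : IsPGroup 2 A) : IsPGroup 2 (im h A) :=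
  (hA.comap_of_injective _ H.subtype_injective).map _

variable {hc : U ≤ centralizer (U : Set G)}

/-- the image of `M ≤ N(V)` normalises `V` -/
theorem im_smul {M V : Subgroup G} (hV : M ≤ normalizer (V : Set G)) {m : XX h} (hm : m ∈ im h M) {v : MU hc}
    (hv : v ∈ ad hc V) : m • v ∈ ad hc V := by
  obtain ⟨a, ha, rfl⟩ := mem_im.1 hm
  rw [mem_ad, val_smul]
  exact (mem_normalizer_iff.1 (hV ha) _).1 hv

/-- the image of `M ≤ C(V)` centralises `V` -/
theorem im_fix {M V : Subgroup G} (hV : M ≤ centralizer (V : Set G)) {m : XX h} (hm : m ∈ im h M) {v : MU hc}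
    (hv : v ∈ ad hc V) : m • v = v := by
  obtain ⟨a, ha, rfl⟩ := mem_im.1 hm
  exact (pr_smul_eq_iff' h).2 (mem_centralizer_iff.1 (hV ha) _ hv).symm

/-- the image of `M ≤ N(D)` normalises the image of `D` -/
theorem im_conj {M D : Subgroup G} (hD : M ≤ normalizer (D : Set G)) {m d : XX h} (hm : m ∈ im h M)
    (hd : d ∈ im h D) : m * d * m⁻¹ ∈ im h D := by
  obtain ⟨a, ha, rfl⟩ := mem_im.1 hm
  obtain ⟨b, hb, rfl⟩ := mem_im.1 hd
  exact mem_im.2 ⟨a * b * a⁻¹, (mem_normalizer_iff.1 (hD ha) _).1 hb, by rw [map_mul, map_mul, map_inv]⟩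

/-- `O₂(M / C_M(V)) = 1` for `V = ⟨Z^M⟩` -/
theorem red_im [Finite G] {M S V Z : Subgroup G} (hM : M ≤ H) (hS : Syl S M) (hVU : V ≤ U)
    (hMV : M ≤ normalizer (V : Set G)) (hZV : Z ≤ V) (hZ : S ≤ centralizer (Z : Set G))
    (hV : ∀ W : Subgroup G, Z ≤ W → M ≤ normalizer (W : Set G) → V ≤ W) : Red (im h M) (ad hc V) := by
  refine red_of (S := im h S) (Z := ad hc Z) (syl_im h hS hM) (fun m hm v hv => im_smul h hMV hm hv) (ad_mono hZV)
    (fun s hs z hz => im_fix h hZ hs hz) fun W hW hZW => ?_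
  have h1 : V ≤ un W := by
    refine hV _ (fun z hz => ?_) fun m hm => ?_
    · have hzU := hVU (hZV hz)
      have h2 : mk hc hzU ∈ W := hZW hz
      exact ⟨_, h2, rfl⟩
    · have hmH := hM hm
      have key : ∀ a : G, a ∈ M → ∀ w ∈ un W, a * w * a⁻¹ ∈ un W := by
        rintro a ha _ ⟨w, hw, rfl⟩
        exact ⟨pr h ⟨a, hM ha⟩ • w, hW _ (pr_mem_im h ha (hM ha)) w hw, rfl⟩
      rw [mem_normalizer_iff]
      intro w
      refine ⟨key m hm w, fun hw => ?_⟩
      have h2 := key m⁻¹ (inv_mem hm) _ hw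
      have e : m⁻¹ * (m * w * m⁻¹) * m⁻¹⁻¹ = w := by group
      rwa [e] at h2
  intro v hv
  exact val_mem_un.1 (h1 hv)

end Cfsg.Agent.Omega.NO3b.Exit.LocBar
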