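import Cfsg.Agent.Omega.NO3b.Exit.TenSchur

/-!
# The second half of LOC (#18653, helper776), part 4: `V₀ = A ⊗_K E`, abstract form

`Y` acts on the finite additive groups `A` (irreducible), `U ≥ C ≥ V ≥ F`; `β : A → Hom(U, V)`, `β a u = [u, a]`,
is additive and `β (k a) u = k β a u`, trivial on `C`; `A₀ ≤ A`; `Q ≤ Y` centralises `F`, `A₀`, `A / A₀`;
`[a, Q] = A₀`, `V = β(a, U) + F` and `β a u ∈ F ⇒ u ∈ C` for `a ∉ A₀` (`structure Mdl`).  `K = KK Y A = End_Y(A)`
(a finite field), `E = HomY Y A U = Hom_Y(A, U)` (a `K`-space).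

* `Mdl.val_inj` : `f a ∈ F`, `a ∉ A₀` implies `f = 0`; `Mdl.psi : U →+ E`; `psi_surj`, `psi_eq_zero` : `U / C = E`;
* `Mdl.smul_mem` : `A₀` is a `K`-subspace; `Mdl.line` : `A = K a + A₀` for `a ∉ A₀`;
* `Mdl.trans` : every `K`-transvection with axis `A₀` is induced by `Q`; `Mdl.axis`, `Mdl.trans'` : every
  transvection of `A` is induced by a conjugate of an element of `Q`;
* `Mdl.act` : **(8)** an automorphism of `U` normalising `Y`, trivial on `F`, acts on `V₀ = A ⊗ E` as `g ⊗ 1`, where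
  `g` is `K`-linear and trivial on `A₀`.
-/

set_option autoImplicit false

namespace Cfsg.Agent.Omega.NO3b.Exit.Ten

universe u v w

/-- The abstract situation. -/
structure Mdl {Y : Type u} {A : Type v} {U : Type w} [Group Y] [AddCommGroup A] [DistribMulAction Y A]
    [AddCommGroup U] [DistribMulAction Y U] (V F C : AddSubgroup U) (A₀ : AddSubgroup A) (Q : Subgroup Y)
    (β : A →+ U →+ U) : Prop where
  eq : ∀ (k : Y) (a : A) (u : U), β (k • a) u = k • β a u
  mem : ∀ a u, β a u ∈ V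
  inF : ∀ a ∈ A₀, ∀ u, β a u ∈ F
  bC : ∀ a, ∀ c ∈ C, β a c = 0
  faith : ∀ a, (∀ u, β a u = 0) → a = 0
  FV : F ≤ V
  VC : V ≤ C
  inC : ∀ a ∉ A₀, ∀ u, β a u ∈ F → u ∈ C
  span : ∀ a ∉ A₀, ∀ v ∈ V, ∃ u, v - β a u ∈ F
  yV : ∀ (k : Y) (u : U), k • u - u ∈ V
  qA : ∀ d ∈ Q, ∀ a ∈ A₀, d • a = a
  qF : ∀ d ∈ Q, ∀ f ∈ F, d • f = f
  qU : ∀ d ∈ Q, ∀ u : U, d • u - u ∈ F
  com : ∀ d ∈ Q, ∀ a, d • a - a ∈ A₀
  surj : ∀ a ∉ A₀, ∀ s ∈ A₀, ∃ d ∈ Q, d • a - a = s
  ne : ∃ s ∈ A₀, s ≠ 0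
  nt : ∃ a, a ∉ A₀

namespace Mdl

variable {Y : Type u} {A : Type v} {U : Type w} [Group Y] [AddCommGroup A] [DistribMulAction Y A]
  [AddCommGroup U] [DistribMulAction Y U] {V F C : AddSubgroup U} {A₀ : AddSubgroup A} {Q : Subgroup Y}
  {β : A →+ U →+ U}

/-- `ψ : U → E = Hom_Y(A, U)` -/
def psi (D : Mdl V F C A₀ Q β) : U →+ HomY Y A U where
  toFun u := ⟨AddMonoidHom.mk' (fun a => β a u) fun a b => by rw [map_add, AddMonoidHom.add_apply], fun k a => D.eq k a u⟩
  map_zero' := by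
    apply Subtype.ext; ext a
    exact map_zero (β a)
  map_add' u v := by
    apply Subtype.ext; ext a
    exact map_add (β a) u v

variable (D : Mdl V F C A₀ Q β)

theorem psi_apply (u : U) (a : A) : (D.psi u : A →+ U) a = β a u := rfl

include D

/-- `f a ∈ F`, `a ∉ A₀` implies `f = 0`. -/
theorem val_inj [IsIrr Y A] {f : HomY Y A U} {a : A} (ha : a ∉ A₀) (hf : (f : A →+ U) a ∈ F) : f = 0 := by
  obtain ⟨s, hs, hs0⟩ := D.ne
  obtain ⟨d, hd, rfl⟩ := D.surj a ha s hs
  refine HomY.eq_zero (a := d • a - a) ?_ hs0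
  rw [map_sub, f.2, D.qF d hd _ hf, sub_self]

/-- the values of `f ∈ E` lie in `V` -/
theorem val_mem [hI : IsIrr Y A] (f : HomY Y A U) (a : A) : (f : A →+ U) a ∈ V := by
  let N : AddSubgroup A := AddSubgroup.closure {x | ∃ (k : Y) (b : A), x = k • b - b}
  have hN : N = ⊤ := by
    rcases hI.irr N (fun k n hn => by
      have e : k • n = (k • n - n) + n := by abel
      rw [e]
      exact N.add_mem (AddSubgroup.subset_closure ⟨k, n, rfl⟩) hn) with h | h
    · exfalso
      obtain ⟨s, hs, hs0⟩ := D.ne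
      obtain ⟨b, hb⟩ := D.nt
      obtain ⟨d, hd, rfl⟩ := D.surj b hb s hs
      apply hs0
      have : d • b - b ∈ N := AddSubgroup.subset_closure ⟨d, b, rfl⟩
      rw [h] at this
      exact this
    · exact h
  have h1 : a ∈ N := by rw [hN]; trivial
  induction h1 using AddSubgroup.closure_induction with
  | mem x hx =>
    obtain ⟨k, b, rfl⟩ := hx
    rw [map_sub, f.2]
    exact D.yV k _
  | zero => rw [map_zero]; exact zero_mem _
  | add x y _ _ hx hy => rw [map_add]; exact V.add_mem hx hy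
  | neg x _ hx => rw [map_neg]; exact V.neg_mem hx

theorem psi_eq_zero {u : U} : D.psi u = 0 ↔ u ∈ C := by
  constructor
  · intro h
    obtain ⟨a, ha⟩ := D.nt
    refine D.inC a ha u ?_
    have h1 : (D.psi u : A →+ U) a = 0 := by rw [h]; rfl
    rw [psi_apply] at h1
    rw [h1]; exact zero_mem _
  · intro hu
    apply Subtype.ext; ext a
    exact D.bC a u hu

/-- `U / C = E` -/
theorem psi_surj [IsIrr Y A] (f : HomY Y A U) : ∃ u, D.psi u = f := by
  obtain ⟨a, ha⟩ := D.nt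
  obtain ⟨u, hu⟩ := D.span a ha _ (D.val_mem f a)
  refine ⟨u, ?_⟩
  have h1 : f - D.psi u = 0 := D.val_inj ha (by
    rw [AddSubgroup.coe_sub, AddMonoidHom.sub_apply, psi_apply]
    exact hu)
  exact (sub_eq_zero.1 h1).symm

/-- `E → V / F`, `f ↦ f a`, is bijective. -/
theorem val_surj [IsIrr Y A] {a : A} (ha : a ∉ A₀) {v : U} (hv : v ∈ V) :
    ∃ f : HomY Y A U, v - (f : A →+ U) a ∈ F := by
  obtain ⟨u, hu⟩ := D.span a ha v hv
  exact ⟨D.psi u, hu⟩

theorem exists_ne : ∃ f : HomY Y A U, f ≠ 0 := by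
  obtain ⟨s, -, hs0⟩ := D.ne
  by_contra hcon
  push Not at hcon
  apply hs0
  refine D.faith s fun u => ?_
  rw [← D.psi_apply, hcon (D.psi u)]
  rfl

variable [Finite A] [hI : IsIrr Y A]

/-- `A₀` is a `K`-subspace -/
theorem smul_mem (κ : KK Y A) {s : A} (hs : s ∈ A₀) : κ • s ∈ A₀ := by
  by_contra hcon
  obtain ⟨t, ht, ht0⟩ := D.ne
  obtain ⟨d, hd, rfl⟩ := D.surj _ hcon t ht
  apply ht0
  rw [smul_comm, ← smul_sub, D.qA d hd s hs, sub_self, smul_zero]

/-- `A₀` as a `K`-subspace -/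
def sub : Submodule (KK Y A) A where
  carrier := A₀
  zero_mem' := zero_mem _
  add_mem' := fun ha hb => A₀.add_mem ha hb
  smul_mem' := fun κ _ hs => D.smul_mem κ hs

theorem mem_sub {a : A} : a ∈ D.sub ↔ a ∈ A₀ := Iff.rfl

/-- `A = K a + A₀` -/
theorem line {a b : A} (ha : a ∉ A₀) : ∃ κ : KK Y A, b - κ • a ∈ A₀ := by
  by_cases hb : b ∈ A₀
  · exact ⟨0, by rwa [zero_smul, sub_zero]⟩
  obtain ⟨f, hf⟩ := D.exists_ne
  obtain ⟨g, hg⟩ := D.val_surj ha (D.val_mem f b)
  obtain ⟨s, hs, hs0⟩ := D.ne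
  obtain ⟨d, hd, rfl⟩ := D.surj b hb s hs
  have h1 : (f : A →+ U) (d • b - b) = (g : A →+ U) (d • a - a) := by
    rw [map_sub, map_sub, f.2, g.2]
    have h2 := D.qF d hd _ hg
    rw [smul_sub] at h2
    rw [sub_eq_sub_iff_sub_eq_sub, h2]
  obtain ⟨κ, hκ⟩ := HomY.fact h1 hs0
  have hκ0 : κ ≠ 0 := by
    rintro rfl
    rw [zero_smul] at hκ
    exact hf hκ
  refine ⟨κ⁻¹, ?_⟩
  by_contra hcon
  apply hf
  refine D.val_inj hcon ?_
  have h3 : (f : A →+ U) (κ⁻¹ • a) = (g : A →+ U) a := by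
    rw [hκ, HomY.smul_apply, smul_smul, mul_inv_cancel₀ hκ0, one_smul]
  rw [map_sub, h3]
  exact hg

/-- every transvection with axis `A₀` is induced by `Q`. -/
theorem trans (φ : A →ₗ[KK Y A] A) (h1 : ∀ a, φ a ∈ A₀) (h2 : ∀ s ∈ A₀, φ s = 0) :
    ∃ d ∈ Q, ∀ a, d • a = a + φ a := by
  obtain ⟨a, ha⟩ := D.nt
  obtain ⟨d, hd, hda⟩ := D.surj a ha _ (h1 a)
  refine ⟨d, hd, fun b => ?_⟩
  obtain ⟨κ, hκ⟩ := D.line (b := b) ha
  have e : b = κ • a + (b - κ • a) := by abel
  have h3 := D.qA d hd _ hκ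
  have h4 : d • (κ • a) = κ • a + κ • φ a := by
    rw [smul_comm, ← hda, ← smul_add]
    congr 1
    abel
  have h5 : φ b = κ • φ a := by
    conv_lhs => rw [e]
    rw [map_add, map_smul, h2 _ hκ, add_zero]
  conv_lhs => rw [e]
  rw [smul_add, h3, h4, h5]
  abel

/-- `Q` acts on `A` as a group of transvections with axis `A₀`. -/
theorem exists_trans {d : Y} (hd : d ∈ Q) : ∃ φ : A →ₗ[KK Y A] A, (∀ a, φ a ∈ A₀) ∧ (∀ s ∈ A₀, φ s = 0) ∧
    ∀ a, d • a = a + φ a := by
  refine ⟨{ toFun := fun a => d • a - a, map_add' := fun a b => by rw [smul_add]; abel,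
            map_smul' := fun κ a => by rw [RingHom.id_apply, smul_comm, ← smul_sub] }, ?_, ?_, ?_⟩
  · exact fun a => D.com d hd a
  · intro s hs
    change d • s - s = 0
    rw [D.qA d hd s hs, sub_self]
  · intro a
    change d • a = a + (d • a - a)
    abel

/-- **(8)** -/
theorem act [Finite U] (μ : U →+ U) (hμ : Function.Injective μ) (h1 : ∀ k : Y, ∃ k' : Y, ∀ u, μ (k • u) = k' • μ u)
    (h2 : ∀ k' : Y, ∃ k : Y, ∀ u, μ (k • u) = k' • μ u) (hF : ∀ f ∈ F, μ f = f) :
    ∃ g : A →ₗ[KK Y A] A, Function.Injective g ∧ (∀ s ∈ A₀, g s = s) ∧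
      ∀ (f : HomY Y A U) (a : A), μ ((f : A →+ U) a) = (f : A →+ U) (g a) := by
  classical
  obtain ⟨s₀, hs₀, hs0⟩ := D.ne
  have hfF : ∀ (f : HomY Y A U) {s : A}, s ∈ A₀ → (f : A →+ U) s ∈ F := by
    intro f s hs
    obtain ⟨u, rfl⟩ := D.psi_surj f
    exact D.inF s hs u
  -- `μ f A ≤ f A`
  have h3 : ∀ (f : HomY Y A U) (a : A), ∃ b : A, μ ((f : A →+ U) a) = (f : A →+ U) b := by
    intro f
    let N : AddSubgroup A := ((f : A →+ U).range).comap (μ.comp (f : A →+ U))
    have hN : N = ⊤ := by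
      rcases hI.irr N (fun k n hn => by
        obtain ⟨b, hb⟩ := hn
        obtain ⟨k', hk'⟩ := h1 k
        refine ⟨k' • b, ?_⟩
        rw [f.2, hb, AddMonoidHom.comp_apply, AddMonoidHom.comp_apply, f.2, hk']) with h | h
      · exfalso
        apply hs0
        have : s₀ ∈ N := ⟨s₀, (hF _ (hfF f hs₀)).symm⟩
        rw [h] at this
        exact this
      · exact h
    intro a
    have : a ∈ N := by rw [hN]; trivial
    obtain ⟨b, hb⟩ := this
    exact ⟨b, hb.symm⟩
  choose G hG using h3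
  have hGadd : ∀ (f : HomY Y A U), f ≠ 0 → ∀ a b, G f (a + b) = G f a + G f b := fun f hf a b =>
    HomY.inj hf (by rw [← hG, map_add, map_add, map_add, ← hG, ← hG])
  have hGA : ∀ (f : HomY Y A U), f ≠ 0 → ∀ s ∈ A₀, G f s = s := fun f hf s hs =>
    HomY.inj hf (by rw [← hG, hF _ (hfF f hs)])
  -- commutation with `K`
  have hGK : ∀ (f : HomY Y A U), f ≠ 0 → ∀ (κ : KK Y A) a, G f (κ • a) = κ • G f a := by
    intro f hf κ
    let g : A →+ A := AddMonoidHom.mk' (G f) (hGadd f hf)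
    have hgi : Function.Injective g := by
      intro a b hab
      have hab' : G f a = G f b := hab
      exact HomY.inj hf (hμ (by rw [hG, hG, hab']))
    have hgb : Function.Bijective g := ⟨hgi, Finite.injective_iff_surjective.1 hgi⟩
    obtain ⟨r, hr⟩ := hgb.2.hasRightInverse
    have hr' : ∀ a, r (g a) = a := fun a => hgi (hr _)
    have hradd : ∀ a b, r (a + b) = r a + r b := fun a b => hgi (by rw [hr, map_add, hr, hr])
    have hgk : ∀ k : Y, ∃ k₁ : Y, ∀ a, g (k₁ • a) = k • g a := by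
      intro k
      obtain ⟨k₁, hk₁⟩ := h2 k
      refine ⟨k₁, fun a => HomY.inj hf ?_⟩
      change (f : A →+ U) (G f (k₁ • a)) = (f : A →+ U) (k • G f a)
      rw [← hG, f.2, f.2, hk₁, hG]
    have hrk : ∀ k : Y, ∃ k₁ : Y, (∀ a, g (k₁ • a) = k • g a) ∧ ∀ a, r (k • a) = k₁ • r a := by
      intro k
      obtain ⟨k₁, hk₁⟩ := hgk k
      exact ⟨k₁, hk₁, fun a => hgi (by rw [hr, hk₁, hr])⟩
    let κ' : KK Y A := KK.mk Y A (AddMonoidHom.mk' (fun a => g (κ • r a)) fun a b => by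
      rw [hradd, smul_add, map_add]) fun k a => by
        obtain ⟨k₁, hk₁, hk₁'⟩ := hrk k
        change g (κ • r (k • a)) = k • g (κ • r a)
        rw [hk₁', KK.smul_smul_comm, hk₁]
    have hκ' : ∀ a, κ' • a = g (κ • r a) := fun a => rfl
    have hrs : r s₀ = s₀ := hgi (by rw [hr]; exact (hGA f hf s₀ hs₀).symm)
    have h5 : κ' • s₀ = κ • s₀ := by
      rw [hκ', hrs]
      exact hGA f hf _ (D.smul_mem κ hs₀)
    have h6 : κ' = κ := by
      by_contra hne
      apply hs0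
      have h7 : (κ' - κ) • s₀ = 0 := by rw [sub_smul, h5, sub_self]
      have h8 : (κ' - κ) ≠ 0 := sub_ne_zero.2 hne
      rw [← one_smul (KK Y A) s₀, ← inv_mul_cancel₀ h8, mul_smul, h7, smul_zero]
    intro a
    have h9 := hκ' (g a)
    rw [h6, hr'] at h9
    exact h9.symm
  -- all `G f` are equal
  obtain ⟨f₀, hf₀⟩ := D.exists_ne
  have hall : ∀ f : HomY Y A U, f ≠ 0 → ∀ a, G f a = G f₀ a := by
    intro f hf a
    by_cases hdep : ∃ κ : KK Y A, f = κ • f₀
    · obtain ⟨κ, hκ⟩ := hdep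
      apply HomY.inj hf
      rw [← hG, hκ, HomY.smul_apply, HomY.smul_apply, hG, hGK f₀ hf₀]
    · have hli : LinearIndependent (KK Y A) ![f, f₀] := by
        rw [LinearIndependent.pair_iff]
        intro x y hxy
        have hx : x = 0 := by
          by_contra hx
          apply hdep
          refine ⟨-(x⁻¹ * y), ?_⟩
          rw [neg_smul, mul_smul, eq_neg_of_add_eq_zero_right hxy, smul_neg, neg_neg, smul_smul,
            inv_mul_cancel₀ hx, one_smul]
        refine ⟨hx, ?_⟩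
        by_contra hy
        rw [hx, zero_smul, zero_add] at hxy
        apply hf₀
        rw [← one_smul (KK Y A) f₀, ← inv_mul_cancel₀ hy, mul_smul, hxy, smul_zero]
      have hsum : f + f₀ ≠ 0 := by
        intro h0
        apply hdep
        exact ⟨-1, by rw [neg_smul, one_smul]; exact eq_neg_of_add_eq_zero_left h0⟩
      have h4 := HomY.ind hli Finset.univ ![G (f + f₀) a - G f a, G (f + f₀) a - G f₀ a] (by
        rw [Fin.sum_univ_two]
        simp only [Matrix.cons_val_zero, Matrix.cons_val_one]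
        have h5 := hG (f + f₀) a
        rw [AddSubgroup.coe_add, AddMonoidHom.add_apply, map_add, hG, hG, AddMonoidHom.add_apply] at h5
        rw [map_sub, map_sub]
        rw [sub_add_sub_comm, ← h5, sub_self])
      have h6 := h4 0 (Finset.mem_univ _)
      have h7 := h4 1 (Finset.mem_univ _)
      simp only [Matrix.cons_val_zero, Matrix.cons_val_one] at h6 h7
      rw [← sub_eq_zero.1 h6, sub_eq_zero.1 h7]
  refine ⟨{ toFun := G f₀, map_add' := hGadd f₀ hf₀, map_smul' := fun κ a => hGK f₀ hf₀ κ a }, ?_, ?_, ?_⟩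
  · intro a b hab
    have hab' : G f₀ a = G f₀ b := hab
    exact HomY.inj hf₀ (hμ (by rw [hG, hG, hab']))
  · exact fun s hs => hGA f₀ hf₀ s hs
  · intro f a
    change μ ((f : A →+ U) a) = (f : A →+ U) (G f₀ a)
    by_cases hf : f = 0
    · rw [hf]
      change μ 0 = 0
      exact map_zero μ
    · rw [hG, hall f hf]

/-- `A / A₀ = K`: the functional with kernel `A₀` -/
theorem exists_dual : ∃ φ : Module.Dual (KK Y A) A, φ ≠ 0 ∧ ∀ a, φ a = 0 ↔ a ∈ A₀ := by
  obtain ⟨a, ha⟩ := D.nt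
  have huniq : ∀ κ κ' : KK Y A, ∀ b, b - κ • a ∈ A₀ → b - κ' • a ∈ A₀ → κ = κ' := by
    intro κ κ' b h1 h2
    by_contra hne
    have h3 : κ - κ' ≠ 0 := sub_ne_zero.2 hne
    apply ha
    have h4 : (κ - κ') • a ∈ A₀ := by
      have e : (κ - κ') • a = (b - κ' • a) - (b - κ • a) := by rw [sub_smul]; abel
      rw [e]
      exact A₀.sub_mem h2 h1
    have h5 := D.smul_mem (κ - κ')⁻¹ h4
    rwa [smul_smul, inv_mul_cancel₀ h3, one_smul] at h5
  have h1 : ∀ b, ∃ κ : KK Y A, b - κ • a ∈ A₀ := fun b => D.line ha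
  choose c hc using h1
  let φ : Module.Dual (KK Y A) A :=
    { toFun := c
      map_add' := fun x y => huniq _ _ (x + y) (hc _) (by
        have e : x + y - (c x + c y) • a = (x - c x • a) + (y - c y • a) := by rw [add_smul]; abel
        rw [e]
        exact A₀.add_mem (hc x) (hc y))
      map_smul' := fun κ x => huniq _ _ (κ • x) (hc _) (by
        rw [RingHom.id_apply, smul_eq_mul, mul_smul, ← smul_sub]
        exact D.smul_mem κ (hc x)) }
  have hφ : ∀ x, φ x = c x := fun _ => rfl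
  refine ⟨φ, ?_, ?_⟩
  · intro h
    have h2 := hc a
    rw [← hφ, h, LinearMap.zero_apply, zero_smul, sub_zero] at h2
    exact ha h2
  · intro x
    rw [hφ]
    constructor
    · intro h
      have h2 := hc x
      rwa [h, zero_smul, sub_zero] at h2
    · intro h
      exact huniq _ _ x (hc x) (by rwa [zero_smul, sub_zero])

/-- a transvection whose axis is a conjugate of `A₀` -/
theorem trans_of {k : Y} {φ : Module.Dual (KK Y A) A} (h1 : ∀ a, φ a = 0 ↔ k⁻¹ • a ∈ A₀) {a : A} (ha : φ a = 0) :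
    ∃ d ∈ Q, ∀ x, (k * d * k⁻¹) • x = x + φ x • a := by
  let χ : A →ₗ[KK Y A] A :=
    { toFun := fun x => φ (k • x) • (k⁻¹ • a)
      map_add' := fun x y => by rw [smul_add, map_add, add_smul]
      map_smul' := fun κ x => by
        rw [RingHom.id_apply, smul_comm k κ x, map_smul, smul_eq_mul, mul_smul] }
  have hχ : ∀ x, χ x = φ (k • x) • (k⁻¹ • a) := fun _ => rfl
  obtain ⟨d, hd, hd'⟩ := D.trans χ (fun x => by
    rw [hχ]
    exact D.smul_mem _ ((h1 a).1 ha)) (fun s hs => by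
    rw [hχ, (h1 (k • s)).2 (by rwa [inv_smul_smul]), zero_smul])
  refine ⟨d, hd, fun x => ?_⟩
  rw [mul_smul, mul_smul, hd', hχ, smul_add, smul_inv_smul, smul_comm k (φ x) (k⁻¹ • a), smul_inv_smul]

/-- every hyperplane is a conjugate of `A₀` -/
theorem axis {φ : Module.Dual (KK Y A) A} (hφ : φ ≠ 0) : ∃ k : Y, ∀ a, φ a = 0 ↔ k⁻¹ • a ∈ A₀ := by
  classical
  have hadd : ∀ φ χ : Module.Dual (KK Y A) A, (∃ k : Y, ∀ a, φ a = 0 ↔ k⁻¹ • a ∈ A₀) →
      (∃ k : Y, ∀ a, χ a = 0 ↔ k⁻¹ • a ∈ A₀) → (∃ a, φ a = 0 ∧ χ a ≠ 0) →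
      ∃ k : Y, ∀ a, (φ + χ) a = 0 ↔ k⁻¹ • a ∈ A₀ := by
    rintro φ χ ⟨k, hk⟩ ⟨l, hl⟩ ⟨a, ha, ha'⟩
    obtain ⟨d, -, hd⟩ := D.trans_of hk (a := (χ a)⁻¹ • a) (by rw [map_smul, ha, smul_zero])
    refine ⟨(k * d * k⁻¹)⁻¹ * l, fun x => ?_⟩
    have h1 : χ ((k * d * k⁻¹) • x) = (φ + χ) x := by
      rw [hd, map_add, map_smul, map_smul, smul_eq_mul, smul_eq_mul, inv_mul_cancel₀ ha', mul_one, add_comm]
      rfl
    rw [← h1, hl, mul_inv_rev, inv_inv, mul_smul l⁻¹]
  obtain ⟨φ₀, hφ₀, hφ₀'⟩ := D.exists_dual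
  let Λ : Submodule (KK Y A) (Module.Dual (KK Y A) A) :=
    { carrier := {φ | φ = 0 ∨ ∃ k : Y, ∀ a, φ a = 0 ↔ k⁻¹ • a ∈ A₀}
      zero_mem' := Or.inl rfl
      smul_mem' := by
        rintro κ φ (rfl | ⟨k, hk⟩)
        · left; exact smul_zero κ
        · by_cases hκ : κ = 0
          · left; rw [hκ]; exact zero_smul (KK Y A) φ
          · right
            refine ⟨k, fun a => ?_⟩
            rw [LinearMap.smul_apply, smul_eq_mul, mul_eq_zero, or_iff_right hκ, hk]
      add_mem' := by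
        rintro φ χ (rfl | h1) (rfl | h2)
        · left; exact add_zero 0
        · right; rw [zero_add]; exact h2
        · right; rw [add_zero]; exact h1
        · by_cases hx : ∃ a, φ a = 0 ∧ χ a ≠ 0
          · right; exact hadd φ χ h1 h2 hx
          · push Not at hx
            by_cases hs : φ + χ = 0
            · left; exact hs
            · right
              obtain ⟨k, hk⟩ := h1
              refine ⟨k, fun a => ?_⟩
              rw [← hk]
              constructor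
              · intro ha
                by_contra hne
                apply hs
                -- `x - (φ a)⁻¹ φ x • a ∈ ker φ ≤ ker (φ + χ)`
                ext x
                have h3 : φ (x - (φ x * (φ a)⁻¹) • a) = 0 := by
                  rw [map_sub, map_smul, smul_eq_mul, mul_assoc, inv_mul_cancel₀ hne, mul_one, sub_self]
                have h4 : (φ + χ) (x - (φ x * (φ a)⁻¹) • a) = 0 := by
                  rw [LinearMap.add_apply, h3, hx _ h3, add_zero]
                rw [map_sub, map_smul, ha, smul_zero, sub_zero] at h4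
                rw [h4]; rfl
              · intro ha
                rw [LinearMap.add_apply, ha, hx _ ha, add_zero] }
  have hΛ : Λ.dualCoannihilator = ⊥ := by
    let N : AddSubgroup A :=
      { carrier := {a | ∀ φ ∈ Λ, φ a = 0}
        zero_mem' := fun φ _ => map_zero φ
        add_mem' := fun {a b} ha hb φ hφ => by rw [map_add, ha φ hφ, hb φ hφ, add_zero]
        neg_mem' := fun {a} ha φ hφ => by rw [map_neg, ha φ hφ, neg_zero] }
    have hN : N = ⊥ := by
      rcases hI.irr N (by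
        intro k n hn φ hφ
        let φ' : Module.Dual (KK Y A) A :=
          { toFun := fun x => φ (k • x)
            map_add' := fun x y => by rw [smul_add, map_add]
            map_smul' := fun κ x => by rw [RingHom.id_apply, smul_comm k κ x, map_smul] }
        have h1 : φ' ∈ Λ := by
          rcases hφ with rfl | ⟨l, hl⟩
          · left; rfl
          · right
            refine ⟨k⁻¹ * l, fun a => ?_⟩
            change φ (k • a) = 0 ↔ _
            rw [hl, mul_inv_rev, inv_inv, mul_smul]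
        exact hn φ' h1) with h | h
      · exact h
      · exfalso
        apply hφ₀
        ext x
        have h1 : x ∈ N := by rw [h]; trivial
        exact h1 φ₀ (Or.inr ⟨1, fun a => by rw [inv_one, one_smul, hφ₀']⟩)
    rw [eq_bot_iff]
    intro a ha
    rw [Submodule.mem_dualCoannihilator] at ha
    have h1 : a ∈ N := ha
    rw [hN] at h1
    exact h1
  have hfin : Module.Finite (KK Y A) A := Module.Finite.of_finite
  have hT : Λ = ⊤ := by
    rw [← Subspace.dualCoannihilator_dualAnnihilator_eq (W := Λ), hΛ, Submodule.dualAnnihilator_bot]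
  have h1 : φ ∈ Λ := by rw [hT]; trivial
  exact h1.resolve_left hφ

/-- every transvection is induced by a conjugate of an element of `Q` -/
theorem trans' (φ : Module.Dual (KK Y A) A) {a : A} (ha : φ a = 0) :
    ∃ k : Y, ∃ d ∈ Q, ∀ x, (k * d * k⁻¹) • x = x + φ x • a := by
  by_cases hφ : φ = 0
  · exact ⟨1, 1, one_mem _, fun x => by rw [hφ, LinearMap.zero_apply, zero_smul, add_zero]; simp⟩
  · obtain ⟨k, hk⟩ := D.axis hφ
    obtain ⟨d, hd, h⟩ := D.trans_of hk ha
    exact ⟨k, d, hd, h⟩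

omit [Finite A] in
/-- `V = f(a) + F` -/
theorem V_span {v : U} (hv : v ∈ V) : ∃ (a : A) (f : HomY Y A U), v - (f : A →+ U) a ∈ F := by
  obtain ⟨a, ha⟩ := D.nt
  obtain ⟨f, hf⟩ := D.val_surj ha hv
  exact ⟨a, f, hf⟩

/-- **(8)**, 2-elements. -/
theorem act_two [Finite U] (two : ∀ a : A, a + a = 0) (μ : U →+ U) (hμ : Function.Injective μ)
    (h1 : ∀ k : Y, ∃ k' : Y, ∀ u, μ (k • u) = k' • μ u)
    (h2 : ∀ k' : Y, ∃ k : Y, ∀ u, μ (k • u) = k' • μ u) (hF : ∀ f ∈ F, μ f = f) {j : ℕ}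
    (hj : ∀ v ∈ V, μ^[2 ^ j] v = v) : ∃ d ∈ Q, ∀ v ∈ V, μ v = d • v := by
  obtain ⟨g, hgi, hgA, hg⟩ := D.act μ hμ h1 h2 hF
  obtain ⟨a, ha⟩ := D.nt
  obtain ⟨f₀, hf₀⟩ := D.exists_ne
  have ha0 : a ≠ 0 := fun h => ha (by rw [h]; exact zero_mem _)
  have hc2 : (1 : KK Y A) + 1 = 0 := by
    by_contra hne
    apply ha0
    have h3 : ((1 : KK Y A) + 1) • a = 0 := by rw [add_smul, one_smul, two]
    rw [← one_smul (KK Y A) a, ← inv_mul_cancel₀ hne, mul_smul, h3, smul_zero]
  have hchar : CharP (KK Y A) 2 := by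
    have : ((2 : ℕ) : KK Y A) = 0 := by rw [Nat.cast_ofNat, ← one_add_one_eq_two, hc2]
    exact CharTwo.of_one_ne_zero_of_two_eq_zero one_ne_zero (by rw [← one_add_one_eq_two, hc2])
  have hgn : ∀ (n : ℕ) (f : HomY Y A U) (x : A), μ^[n] ((f : A →+ U) x) = (f : A →+ U) (g^[n] x) := by
    intro n f
    induction n with
    | zero => intro x; rfl
    | succ n ih => intro x; rw [Function.iterate_succ_apply', ih, hg, Function.iterate_succ_apply']
  have hgj : ∀ x, g^[2 ^ j] x = x := fun x =>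
    HomY.inj hf₀ (by rw [← hgn, hj _ (D.val_mem f₀ x)])
  obtain ⟨c, hc⟩ := D.line (b := g a) ha
  have hcn : ∀ n : ℕ, g^[n] a - c ^ n • a ∈ A₀ := by
    intro n
    induction n with
    | zero => rw [Function.iterate_zero, pow_zero, one_smul, id, sub_self]; exact zero_mem _
    | succ n ih =>
      rw [Function.iterate_succ_apply']
      have e : g (g^[n] a) - c ^ (n + 1) • a = (g^[n] a - c ^ n • a) + c ^ n • (g a - c • a) := by
        have e1 : g (g^[n] a - c ^ n • a) = g^[n] a - c ^ n • a := hgA _ ih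
        rw [map_sub, map_smul] at e1
        rw [smul_sub, smul_smul, ← pow_succ, ← e1]
        abel
      rw [e]
      exact A₀.add_mem ih (D.smul_mem _ hc)
  have hc1 : c = 1 := by
    have h3 := hcn (2 ^ j)
    rw [hgj] at h3
    have h4 : (1 - c ^ 2 ^ j) • a ∈ A₀ := by rw [sub_smul, one_smul]; exact h3
    have h5 : 1 - c ^ 2 ^ j = 0 := by
      by_contra hne
      apply ha
      have h6 := D.smul_mem (1 - c ^ 2 ^ j)⁻¹ h4
      rwa [smul_smul, inv_mul_cancel₀ hne, one_smul] at h6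
    have : Fact (Nat.Prime 2) := ⟨Nat.prime_two⟩
    have h6 : (1 - c) ^ 2 ^ j = 0 := by rw [sub_pow_char_pow, one_pow, h5]
    exact (sub_eq_zero.1 (pow_eq_zero_iff (pow_ne_zero j two_ne_zero) |>.1 h6)).symm
  have hgA' : ∀ x, g x - x ∈ A₀ := by
    intro x
    obtain ⟨κ, hκ⟩ := D.line (b := x) ha
    rw [hc1, one_smul] at hc
    have e : g x - x = (g (x - κ • a) - (x - κ • a)) + κ • (g a - a) := by
      rw [map_sub, map_smul, smul_sub]; abel
    rw [e, hgA _ hκ, sub_self, zero_add]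
    exact D.smul_mem κ hc
  obtain ⟨d, hd, hd'⟩ := D.trans (g - LinearMap.id) (fun x => by
    rw [LinearMap.sub_apply, LinearMap.id_apply]; exact hgA' x) (fun s hs => by
    rw [LinearMap.sub_apply, LinearMap.id_apply, hgA s hs, sub_self])
  refine ⟨d, hd, fun v hv => ?_⟩
  obtain ⟨x, f, hf⟩ := D.V_span hv
  have e : v = (f : A →+ U) x + (v - (f : A →+ U) x) := by abel
  have h3 : g x = d • x := by rw [hd', LinearMap.sub_apply, LinearMap.id_apply]; abel
  rw [e, map_add, smul_add, hF _ hf, D.qF d hd _ hf, hg, h3, f.2]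

end Mdl

end Cfsg.Agent.Omega.NO3b.Exit.Ten
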