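import Cfsg.Agent.Omega.NO3b.Exit.TenIrr
import Cfsg.Agent.Omega.NO3b.Exit.TenMdl

/-!
# The second half of LOC (#18653, helper776), part 5: `Dat → Mdl`

For `D : Dat Y Q BB V F L C h` (`H`, `U` finite): `AM D` = `[BB, O²(Y)]` written additively, a `Y`-module (conjugation);
`D.bt : AM D →+ U →+ U`, `D.bt y u = [u, y]`; `D.AZM` : `A₀`.

* `Dat.isIrr` (instance), `Dat.mdl : Mdl V F C D.AZM (Q.subgroupOf Y) D.bt`.

So all of TenMdl applies: `K = KK Y (AM D)`, `E = HomY Y (AM D) U = U / C`, `A = K a + A₀`, all transvections,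
`A ⊗ E → U` injective (`HomY.ind`, `HomY.ind'`), **(8)** = `Dat.act_two`.
-/

set_option autoImplicit false

namespace Cfsg.Agent.Omega.NO3b.Exit.Ten

open Subgroup

universe u v

variable {H : Type u} {U : Type v} [Group H] [AddCommGroup U] [DistribMulAction H U] {Y Q BB : Subgroup H}
  {V F L C : AddSubgroup U} {h : H}

/-- `AA` as an additive group -/
def AM (_ : Dat Y Q BB V F L C h) : Type u := Additive ↥(AAs Y BB)

namespace AM

variable {D : Dat Y Q BB V F L C h}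

/-- the underlying element of `H` -/
def val (a : AM D) : H := ((Additive.toMul a : ↥(AAs Y BB)) : H)

def mk (x : H) (hx : x ∈ D.AA) : AM D := Additive.ofMul ⟨x, hx⟩

theorem val_mk (x : H) (hx : x ∈ D.AA) : (mk x hx : AM D).val = x := rfl

theorem val_mem (a : AM D) : a.val ∈ D.AA := (Additive.toMul a : ↥(AAs Y BB)).2

theorem ext {a b : AM D} (hab : a.val = b.val) : a = b := Subtype.ext hab

instance : AddCommGroup (AM D) :=
  { (inferInstance : AddGroup (Additive ↥(AAs Y BB))) with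
    add_comm := fun a b => ext (D.comm_B (D.AA_le (val_mem a)) (D.AA_le (val_mem b))) }

theorem val_add (a b : AM D) : (a + b).val = a.val * b.val := rfl

theorem val_zero : (0 : AM D).val = 1 := rfl

theorem val_neg (a : AM D) : (-a).val = a.val⁻¹ := rfl

instance : DistribMulAction Y (AM D) where
  smul k a := mk ((k : H) * a.val * (k : H)⁻¹) (D.AA_conj k.2 a.val_mem)
  one_smul a := ext (by change (1 : H) * a.val * (1 : H)⁻¹ = a.val; group)
  mul_smul k l a := ext (by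
    change ((k * l : Y) : H) * a.val * ((k * l : Y) : H)⁻¹ = k * (l * a.val * (l : H)⁻¹) * (k : H)⁻¹
    rw [Subgroup.coe_mul]; group)
  smul_zero k := ext (by change (k : H) * 1 * (k : H)⁻¹ = 1; group)
  smul_add k a b := ext (by
    change (k : H) * (a.val * b.val) * (k : H)⁻¹ = k * a.val * (k : H)⁻¹ * (k * b.val * (k : H)⁻¹)
    group)

theorem val_smul (k : Y) (a : AM D) : (k • a).val = k * a.val * (k : H)⁻¹ := rfl

instance [Finite H] : Finite (AM D) := Finite.of_injective (fun a => a.val) fun _ _ h => ext h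

end AM

namespace Dat

variable (D : Dat Y Q BB V F L C h)

/-- `A₀` -/
def AZM : AddSubgroup (AM D) where
  carrier := {a | a.val ∈ D.AZ}
  zero_mem' := D.AZ.one_mem
  add_mem' := fun {a b} (ha : a.val ∈ D.AZ) (hb : b.val ∈ D.AZ) => D.AZ.mul_mem ha hb
  neg_mem' := fun {a} (ha : a.val ∈ D.AZ) => D.AZ.inv_mem ha

theorem mem_AZM {a : AM D} : a ∈ D.AZM ↔ a.val ∈ D.AZ := Iff.rfl

/-- `[u, y]` -/
def bt : AM D →+ U →+ U :=
  AddMonoidHom.mk' (fun a => AddMonoidHom.mk' (fun u => br a.val u) fun u v => br_add _ u v) fun a b => by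
    ext u
    exact D.br_mul_B (D.AA_le a.val_mem) (D.AA_le b.val_mem) u

theorem bt_apply (a : AM D) (u : U) : D.bt a u = br a.val u := rfl

theorem AM_two (a : AM D) : a + a = 0 := AM.ext (D.sq_B (D.AA_le a.val_mem))

instance isIrr [Finite H] [Finite U] : IsIrr Y (AM D) where
  ne := by
    obtain ⟨y, hy, hy'⟩ := D.exists_notMem
    refine ⟨AM.mk y hy, fun h0 => hy' ?_⟩
    have h1 : (AM.mk y hy : AM D).val = 1 := by rw [h0]; rfl
    rw [AM.val_mk] at h1
    rw [h1]; exact one_mem _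
  irr := by
    intro N hN
    let N' : Subgroup H :=
      { carrier := {x | ∃ hx : x ∈ D.AA, (AM.mk x hx : AM D) ∈ N}
        one_mem' := ⟨one_mem _, N.zero_mem⟩
        mul_mem' := by
          rintro x y ⟨hx, hx'⟩ ⟨hy, hy'⟩
          exact ⟨mul_mem hx hy, N.add_mem hx' hy'⟩
        inv_mem' := by
          rintro x ⟨hx, hx'⟩
          exact ⟨inv_mem hx, N.neg_mem hx'⟩ }
    have h1 : ∀ k ∈ Y, ∀ n ∈ N', k * n * k⁻¹ ∈ N' := by
      rintro k hk n ⟨hn, hn'⟩
      exact ⟨D.AA_conj hk hn, hN ⟨k, hk⟩ _ hn'⟩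
    rcases D.irr (N := N') (fun x hx => hx.1) h1 with h | h
    · left
      rw [eq_bot_iff]
      intro a ha
      have h2 : a.val ∈ N' := ⟨a.val_mem, ha⟩
      rw [h, mem_bot] at h2
      exact AM.ext h2
    · right
      rw [eq_top_iff]
      intro a _
      have h2 : a.val ∈ N' := by rw [h]; exact a.val_mem
      exact h2.2

/-- The model. -/
theorem mdl [Finite H] [Finite U] : Mdl V F C D.AZM (Q.subgroupOf Y) D.bt where
  eq k a u := D.br_conj k.2 (D.AA_le a.val_mem) u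
  mem a u := D.AA_V a.val_mem u
  inF a ha u := ha.2 u
  bC a c hc := D.br_C (D.AA_le a.val_mem) hc
  faith a ha := AM.ext (D.ext fun u => by
    rw [← D.bt_apply, ha u]
    exact (br_one u).symm)
  FV := D.FV
  VC := D.VC
  inC a ha u hu := by
    obtain ⟨l, hl, c, hc, rfl⟩ := D.LC u
    rw [D.bt_apply, br_add, D.br_C (D.AA_le a.val_mem) hc, add_zero] at hu
    exact C.add_mem (D.VC (D.FV (D.inj (D.AA_le a.val_mem) ha hl (D.FL hu)))) hc
  span a ha v hv := by
    obtain ⟨l, -, f, hf, e⟩ := D.span (D.AA_le a.val_mem) ha (D.AA_V a.val_mem) hv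
    refine ⟨l, ?_⟩
    rw [D.bt_apply, e, add_sub_cancel_left]
    exact hf
  yV k u := D.yV k k.2 u
  qA d hd a ha := AM.ext (D.br_Q_AZ hd ha)
  qF d hd f hf := D.qF d hd f hf
  qU d hd u := D.qU d hd u
  com d hd a := by
    change (d • a - a).val ∈ D.AZ
    rw [sub_eq_add_neg]
    exact D.comm_Q hd (D.AA_le a.val_mem)
  surj a ha s hs := by
    obtain ⟨d, hd, e⟩ := D.surj (D.AA_le a.val_mem) ha (D.AA_V a.val_mem) hs
    refine ⟨⟨d, D.QY hd⟩, hd, AM.ext ?_⟩
    rw [sub_eq_add_neg]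
    exact e
  ne := by
    obtain ⟨y, hy, hy1, hyF⟩ := D.ne
    refine ⟨AM.mk y (D.AZ_le_AA ⟨hy, hyF⟩), ⟨hy, hyF⟩, fun h0 => hy1 ?_⟩
    have h1 : (AM.mk y (D.AZ_le_AA ⟨hy, hyF⟩) : AM D).val = 1 := by rw [h0]; rfl
    exact h1
  nt := by
    obtain ⟨y, hy, hy'⟩ := D.exists_notMem
    exact ⟨AM.mk y hy, hy'⟩

include D in
/-- **(8)** A 2-element of `H` which normalises `Y` and centralises `F` acts on `V` as an element of `Q`. -/
theorem act_two [Finite H] [Finite U] {m : H} (hm : ∀ k ∈ Y, m * k * m⁻¹ ∈ Y) (hm' : ∀ k ∈ Y, m⁻¹ * k * m ∈ Y)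
    (hF : ∀ f ∈ F, m • f = f) {j : ℕ} (hj : ∀ v ∈ V, m ^ 2 ^ j • v = v) : ∃ d ∈ Q, ∀ v ∈ V, m • v = d • v := by
  let μ : U →+ U := DistribSMul.toAddMonoidHom U m
  have hμ : ∀ u, μ u = m • u := fun _ => rfl
  have hit : ∀ (n : ℕ) (u : U), μ^[n] u = m ^ n • u := by
    intro n u
    induction n with
    | zero => rw [pow_zero, one_smul]; rfl
    | succ n ih => rw [Function.iterate_succ_apply', ih, hμ, smul_smul, pow_succ']
  obtain ⟨d, hd, h1⟩ := D.mdl.act_two D.AM_two μ (MulAction.injective m)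
    (fun k => ⟨⟨m * k * m⁻¹, hm k k.2⟩, fun u => by
      rw [hμ, hμ]
      change m • (k : H) • u = (m * k * m⁻¹) • m • u
      rw [smul_smul, smul_smul, inv_mul_cancel_right]⟩)
    (fun k => ⟨⟨m⁻¹ * k * m, hm' k k.2⟩, fun u => by
      rw [hμ, hμ]
      change m • (m⁻¹ * k * m) • u = (k : H) • m • u
      rw [smul_smul, smul_smul]; congr 1; group⟩)
    (fun f hf => by rw [hμ, hF f hf]) (j := j) (fun v hv => by rw [hit, hj v hv])
  exact ⟨d, hd, h1⟩

end Dat

end Cfsg.Agent.Omega.NO3b.Exit.Ten
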