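import Cfsg.Agent.Omega.NO3b.Exit.TightBlk
import Cfsg.Agent.Omega.NO3b.Exit.TenField

/-!
# The second half of LOC: `V = V₁ + C_V(Y)` (no Gaschütz, no generation of `V`)

`D : Dat Y Q BB V F L C h` (#18653), `V₁ = [U, AA]`.

* `Mdl.split` : in the abstract situation, `v ∈ V` is the sum of values `f a` (`f ∈ Hom_Y(A, U)`) and of a vector
  fixed by all elements of `Y` which act on `A` as transvections;
* **`split`** : `V = V₁ + C_V(Y)`.
-/

set_option autoImplicit false

namespace Cfsg.Agent.Omega.NO3b.Exit.Ten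

open Subgroup

universe u v w

/-- the elements of `Y` which act on `A` as a transvection with functional `φ` fix `c` -/
def Fx {Y : Type u} {A : Type v} {U : Type w} [Group Y] [AddCommGroup A] [DistribMulAction Y A] [Finite A]
    [IsIrr Y A] [AddCommGroup U] [DistribMulAction Y U] (c : U) (φ : Module.Dual (KK Y A) A) : Prop :=
  ∀ (k : Y) (a : A), φ a = 0 → (∀ x : A, k • x = x + φ x • a) → k • c = c

namespace Mdl

variable {Y : Type u} {A : Type v} {U : Type w} [Group Y] [AddCommGroup A] [DistribMulAction Y A]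
  [AddCommGroup U] [DistribMulAction Y U] {V F C : AddSubgroup U} {A₀ : AddSubgroup A} {Q : Subgroup Y}
  {β : A →+ U →+ U} [Finite A] [hI : IsIrr Y A]

/-- `Fx c` is a subspace of the dual. -/
theorem fx_add (D : Mdl V F C A₀ Q β) {c : U} {φ χ : Module.Dual (KK Y A) A} (h1 : Fx c φ) (h2 : Fx c χ)
    (h0 : Fx c (0 : Module.Dual (KK Y A) A)) : Fx c (φ + χ) := by
  by_cases hx : ∃ b, χ b = 0 ∧ φ b ≠ 0
  · obtain ⟨b, hb, hb'⟩ := hx
    intro k a ha hk
    -- a transvection `t` with functional `χ`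
    obtain ⟨l, d, -, ht⟩ := D.trans' χ (a := (φ b)⁻¹ • b) (by rw [map_smul, hb, smul_zero])
    set t : Y := l * d * l⁻¹ with ht0
    have htc : t • c = c := h2 t _ (by rw [map_smul, hb, smul_zero]) ht
    have e1 : ∀ x, φ (t • x) = (φ + χ) x := by
      intro x
      rw [ht, map_add, map_smul, map_smul, smul_eq_mul, smul_eq_mul, inv_mul_cancel₀ hb', mul_one]
      rfl
    have h3 : (t * k * t⁻¹) • c = c := by
      refine h1 _ (t • a) (by rw [e1, ha]) fun x => ?_
      have e2 : (φ + χ) (t⁻¹ • x) = φ x := by rw [← e1, smul_inv_smul]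
      rw [mul_smul, mul_smul, hk, e2, smul_add, smul_inv_smul, smul_comm t (φ x) a]
    have h4 : t⁻¹ • c = c := by rw [inv_smul_eq_iff, htc]
    rw [mul_smul, mul_smul, h4] at h3
    have h5 : k • c = t⁻¹ • c := by rw [← h3, inv_smul_smul]; rw [h3]
    rw [h5, h4]
  · push Not at hx
    -- `ker χ ≤ ker φ`
    intro k a ha hk
    by_cases hχ : χ = 0
    · have e : φ + χ = φ := by rw [hχ]; exact add_zero φ
      rw [e] at ha hk
      exact h1 k a ha hk
    · obtain ⟨b, hb⟩ : ∃ b, χ b ≠ 0 := by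
        by_contra hcon
        push Not at hcon
        exact hχ (LinearMap.ext hcon)
      have hφ : ∀ x, φ x = χ x * ((χ b)⁻¹ * φ b) := by
        intro x
        have h3 : χ (x - (χ x * (χ b)⁻¹) • b) = 0 := by
          rw [map_sub, map_smul, smul_eq_mul, mul_assoc, inv_mul_cancel₀ hb, mul_one, sub_self]
        have h4 := hx _ h3
        rw [map_sub, map_smul, smul_eq_mul, sub_eq_zero, mul_assoc] at h4
        exact h4
      by_cases hs : (1 : KK Y A) + (χ b)⁻¹ * φ b = 0
      · refine h0 k a rfl fun x => ?_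
        rw [hk]
        congr 1
        have e : (φ + χ) x = χ x * ((1 : KK Y A) + (χ b)⁻¹ * φ b) := by
          rw [LinearMap.add_apply, hφ x, mul_add, mul_one, add_comm]
        rw [e, hs, mul_zero]
        rfl
      · have e : ∀ x, (φ + χ) x = χ x * ((1 : KK Y A) + (χ b)⁻¹ * φ b) := fun x => by
          rw [LinearMap.add_apply, hφ x, mul_add, mul_one, add_comm]
        refine h2 k (((1 : KK Y A) + (χ b)⁻¹ * φ b) • a) ?_ fun x => ?_
        · have h5 : χ a = 0 := by
            rw [e] at ha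
            exact (mul_eq_zero.1 ha).resolve_right hs
          rw [map_smul, h5, smul_zero]
        · rw [hk, e, smul_smul]

theorem fx_smul {c : U} {φ : Module.Dual (KK Y A) A} (h1 : Fx c φ) (h0 : Fx c (0 : Module.Dual (KK Y A) A))
    (κ : KK Y A) : Fx c (κ • φ) := by
  intro k a ha hk
  by_cases hκ : κ = 0
  · refine h0 k a rfl fun x => ?_
    rw [hk, LinearMap.smul_apply, hκ, LinearMap.zero_apply, zero_smul]
  · refine h1 k (κ • a) ?_ fun x => ?_
    · rw [LinearMap.smul_apply, smul_eq_mul] at ha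
      rw [map_smul, (mul_eq_zero.1 ha).resolve_left hκ, smul_zero]
    · rw [hk, LinearMap.smul_apply, smul_eq_mul, smul_smul, mul_comm]

/-- the step -/
theorem split_step (D : Mdl V F C A₀ Q β) (hker : ∀ k : Y, (∀ a : A, k • a = a) → ∀ v ∈ V, k • v = v)
    {ι : Type*} [DecidableEq ι] (b : Module.Basis ι (KK Y A) A) {v : U} (hv : v ∈ V) (s : Finset ι) :
    ∃ w : U, w ∈ AddSubgroup.closure {x | ∃ (f : HomY Y A U) (a : A), x = (f : A →+ U) a} ∧
      v - w ∈ V ∧ ∀ i ∈ s, Fx (v - w) (b.coord i) := by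
  induction s using Finset.induction_on with
  | empty => exact ⟨0, zero_mem _, by rwa [sub_zero], fun i hi => absurd hi (Finset.notMem_empty i)⟩
  | insert i s hi ih =>
    obtain ⟨w, hw, hc, hs⟩ := ih
    have hne : b.coord i ≠ 0 := by
      intro h0
      have h1 : b.coord i (b i) = 0 := by rw [h0]; rfl
      rw [Module.Basis.coord_apply, b.repr_self, Finsupp.single_eq_same] at h1
      exact one_ne_zero h1
    obtain ⟨k, hk⟩ := D.axis hne
    have hbi : k⁻¹ • b i ∉ A₀ := by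
      rw [← hk, Module.Basis.coord_apply, b.repr_self, Finsupp.single_eq_same]
      exact one_ne_zero
    have hcV : k⁻¹ • (v - w) ∈ V := by
      have h1 := D.yV k⁻¹ (v - w)
      have e : k⁻¹ • (v - w) = (k⁻¹ • (v - w) - (v - w)) + (v - w) := by abel
      rw [e]
      exact V.add_mem h1 hc
    obtain ⟨f, hf⟩ := D.val_surj hbi hcV
    rw [f.2, ← smul_sub] at hf
    have e0 : v - (w + (f : A →+ U) (b i)) = v - w - (f : A →+ U) (b i) := by abel
    refine ⟨w + (f : A →+ U) (b i), add_mem hw (AddSubgroup.subset_closure ⟨f, b i, rfl⟩), ?_, ?_⟩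
    · rw [e0]
      exact V.sub_mem hc (D.val_mem f _)
    · intro j hj
      rw [e0]
      rcases Finset.mem_insert.1 hj with rfl | hj
      · intro l a ha hl
        obtain ⟨d, hd, hd'⟩ := D.trans_of hk ha
        have h1 : (k * d * k⁻¹) • (v - w - (f : A →+ U) (b j)) = v - w - (f : A →+ U) (b j) := by
          rw [mul_smul, mul_smul, D.qF d hd _ hf, smul_inv_smul]
        have h2 : ((k * d * k⁻¹)⁻¹ * l) • (v - w - (f : A →+ U) (b j)) = v - w - (f : A →+ U) (b j) := by
          refine hker _ (fun x => ?_) _ (V.sub_mem hc (D.val_mem f _))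
          rw [mul_smul, hl, ← hd', inv_smul_smul]
        rw [mul_smul, inv_smul_eq_iff, h1] at h2
        exact h2
      · intro l a ha hl
        have h1 := hs j hj l a ha hl
        have hij : j ≠ i := fun e => hi (e ▸ hj)
        have h2 : l • (f : A →+ U) (b i) = (f : A →+ U) (b i) := by
          rw [← f.2, hl, Module.Basis.coord_apply, b.repr_self, Finsupp.single_eq_of_ne hij, zero_smul, add_zero]
        rw [smul_sub, h1, h2]

/-- `V = V₁ + C_V(transvections)` -/
theorem split (D : Mdl V F C A₀ Q β) (hker : ∀ k : Y, (∀ a : A, k • a = a) → ∀ v ∈ V, k • v = v)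
    {v : U} (hv : v ∈ V) :
    ∃ w : U, w ∈ AddSubgroup.closure {x | ∃ (f : HomY Y A U) (a : A), x = (f : A →+ U) a} ∧
      v - w ∈ V ∧ ∀ k : Y, ∀ d ∈ Q, (k * d * k⁻¹) • (v - w) = v - w := by
  classical
  have hfin : Module.Finite (KK Y A) A := Module.Finite.of_finite
  let b := Module.finBasis (KK Y A) A
  obtain ⟨w, hw, hc, hs⟩ := D.split_step hker b hv Finset.univ
  refine ⟨w, hw, hc, ?_⟩
  have h0 : Fx (v - w) (0 : Module.Dual (KK Y A) A) := by
    intro k a _ hk
    refine hker k (fun x => ?_) _ hc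
    rw [hk, LinearMap.zero_apply, zero_smul, add_zero]
  let Λ : Submodule (KK Y A) (Module.Dual (KK Y A) A) :=
    { carrier := {φ | Fx (v - w) φ}
      zero_mem' := h0
      add_mem' := fun h1 h2 => D.fx_add h1 h2 h0
      smul_mem' := fun κ _ h1 => fx_smul h1 h0 κ }
  have hΛ : Λ = ⊤ := by
    rw [eq_top_iff, ← b.dualBasis.span_eq, Submodule.span_le]
    rintro _ ⟨i, rfl⟩
    have e : b.dualBasis i = b.coord i := by
      ext x
      rw [Module.Basis.dualBasis_apply]
      rfl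
    rw [e]
    exact hs i (Finset.mem_univ i)
  have hall : ∀ φ : Module.Dual (KK Y A) A, Fx (v - w) φ := fun φ => by
    have h1 : φ ∈ Λ := by rw [hΛ]; trivial
    exact h1
  intro k d hd
  obtain ⟨φ₀, hφ₀, hφ₀'⟩ := D.exists_dual
  obtain ⟨χ, -, hχ, hχd⟩ := D.exists_trans hd
  obtain ⟨a₀, ha₀⟩ : ∃ a, φ₀ a ≠ 0 := by
    by_contra hcon
    push Not at hcon
    exact hφ₀ (LinearMap.ext hcon)
  obtain ⟨χ', hχA, -, hχd'⟩ := D.exists_trans hd
  have hχA : ∀ a, χ a ∈ A₀ := by
    intro a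
    have h1 := hχA a
    have h2 := (hχd a).symm.trans (hχd' a)
    rw [add_left_cancel h2]
    exact h1
  have e : ∀ x, χ x = φ₀ x • ((φ₀ a₀)⁻¹ • χ a₀) := by
    intro x
    have h1 : x - (φ₀ x * (φ₀ a₀)⁻¹) • a₀ ∈ A₀ := by
      rw [← hφ₀', map_sub, map_smul, smul_eq_mul, mul_assoc, inv_mul_cancel₀ ha₀, mul_one, sub_self]
    have h2 := hχ _ h1
    rw [map_sub, map_smul, sub_eq_zero] at h2
    rw [h2, smul_smul]
  let φ' : Module.Dual (KK Y A) A :=
    { toFun := fun x => φ₀ (k⁻¹ • x)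
      map_add' := fun x y => by rw [smul_add, map_add]
      map_smul' := fun κ x => by rw [RingHom.id_apply, smul_comm k⁻¹ κ x, map_smul] }
  have hφ' : ∀ x, φ' x = φ₀ (k⁻¹ • x) := fun _ => rfl
  refine hall φ' (k * d * k⁻¹) (k • ((φ₀ a₀)⁻¹ • χ a₀)) ?_ fun x => ?_
  · rw [hφ', inv_smul_smul, hφ₀']
    exact D.smul_mem _ (hχA a₀)
  · rw [mul_smul, mul_smul, hχd, e, hφ', smul_add, smul_inv_smul, smul_comm k (φ₀ (k⁻¹ • x))]

end Mdl

end Cfsg.Agent.Omega.NO3b.Exit.Ten

namespace Cfsg.Agent.Omega.NO3b.Exit.TBlk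

open Subgroup Ten

universe u v

variable {H : Type u} {U : Type v} [Group H] [AddCommGroup U] [DistribMulAction H U]
variable {Y Q BB : Subgroup H} {V F L C : AddSubgroup U} {h : H} (D : Dat Y Q BB V F L C h)
include D

/-- elements of `Y` centralising `AA` are trivial on `V` -/
theorem ker_AA [Finite H] [Finite U] {k : H} (hk : k ∈ Y) (hc : ∀ x ∈ D.AA, k * x * k⁻¹ = x) {v : U} (hv : v ∈ V) :
    k • v = v := by
  -- trivial on `V₁`
  have key : ∀ n ∈ Y, (∀ x ∈ D.AA, n * x * n⁻¹ = x) → ∀ w ∈ V1 D, n • w = w := by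
    intro n hn hnc w hw
    induction hw using AddSubgroup.closure_induction with
    | mem w hw =>
      obtain ⟨y, hy, u, rfl⟩ := hw
      rw [← D.br_conj hn (D.AA_le hy), hnc y hy]
    | zero => exact smul_zero _
    | add a b _ _ ha hb => rw [smul_add, ha, hb]
    | neg a _ ha => rw [smul_neg, ha]
  let N : Subgroup H :=
    { carrier := {n | n ∈ Y ∧ ∀ x ∈ D.AA, n * x * n⁻¹ = x}
      one_mem' := ⟨one_mem _, fun x _ => by group⟩
      mul_mem' := by
        rintro a b ⟨ha, ha'⟩ ⟨hb, hb'⟩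
        refine ⟨mul_mem ha hb, fun x hx => ?_⟩
        have e : a * b * x * (a * b)⁻¹ = a * (b * x * b⁻¹) * a⁻¹ := by group
        rw [e, hb' x hx, ha' x hx]
      inv_mem' := by
        rintro a ⟨ha, ha'⟩
        refine ⟨inv_mem ha, fun x hx => ?_⟩
        have h1 := ha' x hx
        conv_lhs => rw [← h1]
        group }
  refine D.red N (fun n hn => hn.1) ?_ ?_ k ⟨hk, hc⟩ v hv
  · rintro g hg n ⟨hn, hn'⟩
    refine ⟨mul_mem (mul_mem hg hn) (inv_mem hg), fun x hx => ?_⟩
    have hx' : g⁻¹ * x * g ∈ D.AA := by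
      have := D.AA_conj (inv_mem hg) hx
      rwa [inv_inv] at this
    have h1 := hn' _ hx'
    have e : g * n * g⁻¹ * x * (g * n * g⁻¹)⁻¹ = g * (n * (g⁻¹ * x * g) * n⁻¹) * g⁻¹ := by group
    rw [e, h1]
    group
  · rintro n ⟨hn, hn'⟩
    refine ⟨1, fun w hw => ?_⟩
    have h1 : br n w ∈ V1 D := br_Y_V1 D hn hw
    have h2 := key n hn hn' _ h1
    have h3 : br (n * n) w = 0 := by
      rw [br_mul, br_eq_zero.2 h2, zero_add, D.two]
    rw [pow_one, pow_two]
    exact br_eq_zero.1 h3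

/-- **`V = V₁ + C_V(Y)`** -/
theorem split [Finite H] [Finite U] {v : U} (hv : v ∈ V) : ∃ w ∈ V1 D, ∃ c ∈ V, (∀ k ∈ Y, k • c = c) ∧ v = w + c := by
  obtain ⟨w, hw, hc, hQ⟩ := D.mdl.split (fun k hk v hv => by
    refine ker_AA D k.2 (fun x hx => ?_) hv
    have h1 := congrArg AM.val (hk (AM.mk x hx))
    exact h1) hv
  refine ⟨w, ?_, v - w, hc, ?_, by abel⟩
  · refine (AddSubgroup.closure_le _).2 ?_ hw
    rintro _ ⟨f, a, rfl⟩
    obtain ⟨u, hu⟩ := D.mdl.psi_surj f
    rw [← hu, Mdl.psi_apply, D.bt_apply]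
    exact br_mem_V1 D a.val_mem u
  · intro k hk
    let N : Subgroup H :=
      { carrier := {n | n ∈ Y ∧ ∀ g ∈ Y, (g * n * g⁻¹) • (v - w) = v - w}
        one_mem' := ⟨one_mem _, fun g _ => by rw [mul_one, mul_inv_cancel, one_smul]⟩
        mul_mem' := by
          rintro a b ⟨ha, ha'⟩ ⟨hb, hb'⟩
          refine ⟨mul_mem ha hb, fun g hg => ?_⟩
          have e : g * (a * b) * g⁻¹ = g * a * g⁻¹ * (g * b * g⁻¹) := by group
          rw [e, mul_smul, hb' g hg, ha' g hg]
        inv_mem' := by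
          rintro a ⟨ha, ha'⟩
          refine ⟨inv_mem ha, fun g hg => ?_⟩
          have e : g * a⁻¹ * g⁻¹ = (g * a * g⁻¹)⁻¹ := by group
          rw [e, inv_smul_eq_iff, ha' g hg] }
    have h1 : Y ≤ N := by
      refine D.gen N (fun n hn => hn.1) ?_ ?_
      · rintro g hg n ⟨hn, hn'⟩
        refine ⟨mul_mem (mul_mem hg hn) (inv_mem hg), fun g' hg' => ?_⟩
        have e : g' * (g * n * g⁻¹) * g'⁻¹ = g' * g * n * (g' * g)⁻¹ := by group
        rw [e]
        exact hn' _ (mul_mem hg' hg)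
      · intro d hd
        refine ⟨D.QY hd, fun g hg => ?_⟩
        exact hQ ⟨g, hg⟩ ⟨d, D.QY hd⟩ hd
    have h2 := (h1 hk).2 1 (one_mem _)
    rwa [one_mul, inv_one, mul_one] at h2

end Cfsg.Agent.Omega.NO3b.Exit.TBlk
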