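import Cfsg.Agent.Omega.NO3b.Exit.BlkZ
import Cfsg.Agent.Omega.NO3b.Exit.TenSplit

/-!
# The blocks of `V` in LOC without (PR) (helper255, bb 20845), part 2

* `all_sep` : an element of `all = Σ m V₁` without components is zero; `gen_dec` : `V = all + C_V(YM)` (`TenSplit.lean`);
* `exists_comp` : every block carries a component `≠ 0` of some `z ∈ C_V(S)`;
* `ann_one`, `odd_T` : the action on one block;
* **`hX`** : `x ∈ YM` which fixes `C_V(S)` fixes `C_V(S ∩ YM)`;
* `moves` : `S ∩ YM` moves `V`.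
-/

set_option autoImplicit false

open scoped Pointwise

namespace Cfsg.Agent.Omega.NO3b.Exit.BlkZ

open Subgroup Cfsg.Agent.Omega.NO3b.Exit Ten Descent
open Cfsg.Agent.Omega.NO3b.Exit.TBlk hiding Blk

universe u v

section dat

variable {H : Type u} {U : Type v} [Group H] [AddCommGroup U] [DistribMulAction H U]
variable {Y Q BB : Subgroup H} {V F L C : AddSubgroup U} {h : H} (D : Dat Y Q BB V F L C h)

theorem allTv [Finite H] [Finite U] : AllTv Y (AM D) := by
  intro φ a ha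
  obtain ⟨k, d, -, hk⟩ := D.mdl.trans' φ ha
  exact ⟨_, hk⟩

theorem V1_le_img [Finite H] [Finite U] : V1 D ≤ img Y (AM D) U := by
  refine (AddSubgroup.closure_le _).2 ?_
  rintro _ ⟨y, hy, u, rfl⟩
  have h1 := mem_img (D.mdl.psi u) (AM.mk y hy)
  rw [Mdl.psi_apply, D.bt_apply] at h1
  exact h1

include D in
/-- `Q` moves `V` -/
theorem exists_Q [Finite H] [Finite U] : ∃ d ∈ Q, ∃ v ∈ V, d • v ≠ v := by
  obtain ⟨a, ha, ha'⟩ := D.exists_notMem
  obtain ⟨s, hs, hs1, hsF⟩ := D.ne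
  obtain ⟨d, hd, e⟩ := D.surj (D.AA_le ha) ha' (D.AA_V ha) (s := s) ⟨hs, hsF⟩
  refine ⟨d, hd, ?_⟩
  by_contra hcon
  push Not at hcon
  apply hs1
  rw [← e, mul_inv_eq_one]
  refine D.ext fun u => ?_
  rw [D.br_conj (D.QY hd) (D.AA_le ha)]
  exact hcon _ (D.AA_V ha u)

end dat

/-- a subgroup of odd index meets a subnormal subgroup in a subgroup of odd index -/
theorem sn_odd {H : Type u} [Group H] [Finite H] {Y K T : Subgroup H} (h : Sn Y K) (hT : ¬ 2 ∣ T.relIndex K) :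
    ¬ 2 ∣ T.relIndex Y := by
  induction h with
  | refl => exact hT
  | @step K K' _ h1 h2 ih =>
    refine ih ?_
    have hn : (K.subgroupOf K').Normal := ⟨fun n hn g => h2 g g.2 n hn⟩
    have h3 := not_dvd_relIndex (M := K') (S := T.subgroupOf K') (N := K.subgroupOf K') hT
    rwa [relIndex_subgroupOf h1] at h3

theorem sn_inf' {H : Type u} [Group H] {Y K : Subgroup H} (h : Sn Y K) (L : Subgroup H) : Sn (Y ⊓ L) (K ⊓ L) := by
  induction h with
  | refl => exact Sn.refl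
  | step _ h1 h2 ih =>
    exact ih.step (inf_le_inf_right _ h1) fun k hk n hn =>
      mem_inf.2 ⟨h2 k hk.1 n hn.1, mul_mem (mul_mem hk.2 hn.2) (inv_mem hk.2)⟩

namespace Blk0

variable {H : Type u} {U : Type v} [Group H] [Finite H] [AddCommGroup U] [DistribMulAction H U] [Finite U]
variable {Y Q BB : Subgroup H} {V F L C : AddSubgroup U} {h : H} {M KV S : Subgroup H}
variable (B : Blk0 Y Q BB V F L C h M KV S)
include B

/-- the ring generated by `KV` acts on `V₁ = A ⊗ E` through `A` -/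
theorem exists_ringK {c : AddMonoid.End U} (hc : c ∈ ring U KV) :
    ∃ c' : AddMonoid.End (AM B.dat), ∀ (f : HomY Y (AM B.dat) U) (a : AM B.dat),
      c ((f : AM B.dat →+ U) a) = (f : AM B.dat →+ U) (c' a) := by
  induction hc using AddSubgroup.closure_induction with
  | mem c hc =>
    obtain ⟨x, hx, rfl⟩ := hc
    let c' : AddMonoid.End (AM B.dat) :=
      AddMonoidHom.mk' (fun a => AM.mk (x * a.val * x⁻¹) (B.AA_K x hx _ a.val_mem)) fun a b => AM.ext (by
        change x * (a.val * b.val) * x⁻¹ = x * a.val * x⁻¹ * (x * b.val * x⁻¹)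
        group)
    refine ⟨c', fun f a => ?_⟩
    obtain ⟨u, rfl⟩ := B.dat.mdl.psi_surj f
    rw [Mdl.psi_apply, Mdl.psi_apply, B.dat.bt_apply, B.dat.bt_apply]
    exact (B.br_K hx a.val_mem u).symm
  | zero => exact ⟨0, fun f a => (map_zero (f : AM B.dat →+ U)).symm⟩
  | add c d _ _ hc hd =>
    obtain ⟨c', h1⟩ := hc
    obtain ⟨d', h2⟩ := hd
    refine ⟨c' + d', fun f a => ?_⟩
    change c ((f : AM B.dat →+ U) a) + d ((f : AM B.dat →+ U) a) = (f : AM B.dat →+ U) (c' a + d' a)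
    rw [h1, h2, map_add]
  | neg c _ hc =>
    obtain ⟨c', h1⟩ := hc
    refine ⟨-c', fun f a => ?_⟩
    change - c ((f : AM B.dat →+ U) a) = (f : AM B.dat →+ U) (- c' a)
    rw [h1, map_neg]

/-- one block -/
theorem ann_one {T : Subgroup H} (hT2 : IsPGroup 2 T) (hT : ¬ 2 ∣ T.relIndex Y) {w w' : U} (hw : w ∈ V1 B.dat)
    (hwT : ∀ t ∈ T, t ∈ Y → t • w = w) (hw0 : w ≠ 0) (hw' : w' ∈ V1 B.dat) (hwT' : ∀ t ∈ T, t ∈ Y → t • w' = w')
    {c : AddMonoid.End U} (hc : c ∈ ring U KV) (h0 : c w = 0) : c w' = 0 := by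
  have hT' : ¬ 2 ∣ (T.subgroupOf Y).index := hT
  have hT2' : IsPGroup 2 (T.subgroupOf Y) := hT2.comap_of_injective _ (subtype_injective Y)
  obtain ⟨n, -, hn0, hn⟩ := exists_fix (V := AM B.dat) (H := Y) hT2' B.dat.AM_two (A := ⊤)
    (fun _ _ _ _ => trivial) (by
      intro h
      obtain ⟨a, ha⟩ := (B.dat.isIrr).ne
      have : a ∈ (⊤ : AddSubgroup (AM B.dat)) := trivial
      rw [h] at this
      exact ha this)
  obtain ⟨f, rfl⟩ := exists_of_fix (allTv B.dat) B.dat.AM_two hT' hn0 hn (V1_le_img B.dat hw)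
    (fun t ht => hwT t (mem_subgroupOf.1 ht) t.2)
  obtain ⟨f', rfl⟩ := exists_of_fix (allTv B.dat) B.dat.AM_two hT' hn0 hn (V1_le_img B.dat hw')
    (fun t ht => hwT' t (mem_subgroupOf.1 ht) t.2)
  obtain ⟨c', hcc⟩ := exists_ringK B hc
  have hf0 : f ≠ 0 := by
    rintro rfl
    exact hw0 rfl
  rw [hcc] at h0 ⊢
  have h1 : c' n = 0 := HomY.inj hf0 (h0.trans (map_zero _).symm)
  rw [h1, map_zero]

omit [Finite H] [Finite U] in
/-- `x ∈ M` maps `rest m` to `rest (x m)` -/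
theorem smul_rest {m x : H} (hx : x ∈ M) {v : U} (hv : v ∈ B.rest m) : x • v ∈ B.rest (x * m) := by
  induction hv using AddSubgroup.closure_induction with
  | mem v hv =>
    obtain ⟨m', hm', hne, hv⟩ := hv
    refine AddSubgroup.subset_closure ⟨x * m', mul_mem hx hm', fun e => hne ?_, ?_⟩
    · rw [mul_smul, mul_smul] at e
      exact smul_left_cancel x e
    · rw [mul_smul]
      exact AddSubgroup.smul_mem_pointwise_smul _ _ _ hv
  | zero => rw [smul_zero]; exact zero_mem _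
  | add a b _ _ ha hb => rw [smul_add]; exact add_mem ha hb
  | neg a _ ha => rw [smul_neg]; exact neg_mem ha

omit [Finite H] [Finite U] in
theorem rest_congr {m m' : H} (e : m • V1 B.dat = m' • V1 B.dat) : B.rest m = B.rest m' := by
  unfold rest
  rw [e]

theorem rest_K {m x : H} (hm : m ∈ M) (hx : x ∈ KV) {v : U} (hv : v ∈ B.rest m) : x • v ∈ B.rest m := by
  have h3 := B.smul_rest (B.KM hx) hv
  rwa [B.rest_congr (m := x * m) (m' := m) (by rw [mul_smul, B.smul_eq_K hm hx])] at h3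

/-- an element of the block `m V₁` fixed by `m Y m⁻¹` is zero -/
theorem block_fix {m : H} {v : U} (hv : v ∈ m • V1 B.dat) (hf : ∀ k ∈ Y, (m * k * m⁻¹) • v = v) : v = 0 := by
  obtain ⟨w, hw, rfl⟩ := B.mem_smul.1 hv
  have h1 : w = 0 := V1_fix B.dat hw fun k hk => by
    have h2 := hf k hk
    rw [smul_smul, inv_mul_cancel_right, mul_smul] at h2
    exact smul_left_cancel m h2
  rw [h1, smul_zero]

/-- an element of `all` fixed by all `m Y m⁻¹` is zero -/
theorem all_sep {v : U} (hv : v ∈ B.all) (hf : ∀ m ∈ M, ∀ k ∈ Y, (m * k * m⁻¹) • v = v) : v = 0 := by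
  classical
  have hfin : Finite (AddSubgroup U) := Finite.of_injective (fun A : AddSubgroup U => (A : Set U)) SetLike.coe_injective
  have : Fintype (AddSubgroup U) := Fintype.ofFinite _
  let A : Finset (AddSubgroup U) → AddSubgroup U := fun T =>
    AddSubgroup.closure {v | ∃ W ∈ T, (∃ m ∈ M, m • V1 B.dat = W) ∧ v ∈ W}
  have key : ∀ T : Finset (AddSubgroup U), ∀ v ∈ A T, (∀ m ∈ M, ∀ k ∈ Y, (m * k * m⁻¹) • v = v) → v = 0 := by
    intro T
    induction T using Finset.induction with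
    | empty =>
      intro v hv _
      have h1 : A ∅ ≤ ⊥ := (AddSubgroup.closure_le _).2 (by
        rintro v ⟨W, hW, -⟩
        exact absurd hW (Finset.notMem_empty _))
      exact AddSubgroup.mem_bot.1 (h1 hv)
    | insert W T hWT ih =>
      intro v hv hf
      have hdec : ∀ v ∈ A (insert W T), ∃ w v', v = w + v' ∧ v' ∈ A T ∧ (w = 0 ∨ w ∈ W ∧ ∃ m ∈ M, m • V1 B.dat = W) := by
        intro y hy
        induction hy using AddSubgroup.closure_induction with
        | mem y hy =>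
          obtain ⟨W', hW', hm, hyW⟩ := hy
          rcases Finset.mem_insert.1 hW' with hW' | hW'
          · rw [hW'] at hm hyW
            exact ⟨y, 0, (add_zero y).symm, zero_mem _, Or.inr ⟨hyW, hm⟩⟩
          · exact ⟨0, y, (zero_add y).symm, AddSubgroup.subset_closure ⟨W', hW', hm, hyW⟩, Or.inl rfl⟩
        | zero => exact ⟨0, 0, (add_zero 0).symm, zero_mem _, Or.inl rfl⟩
        | add a b _ _ ha hb =>
          obtain ⟨a1, a2, rfl, ha2, ha1⟩ := ha
          obtain ⟨b1, b2, rfl, hb2, hb1⟩ := hb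
          refine ⟨a1 + b1, a2 + b2, by abel, add_mem ha2 hb2, ?_⟩
          rcases ha1 with rfl | ⟨ha1, hm⟩
          · rcases hb1 with rfl | ⟨hb1, hm⟩
            · left; rw [add_zero]
            · right; rw [zero_add]; exact ⟨hb1, hm⟩
          · rcases hb1 with rfl | ⟨hb1, -⟩
            · right; rw [add_zero]; exact ⟨ha1, hm⟩
            · right; exact ⟨add_mem ha1 hb1, hm⟩
        | neg a _ ha =>
          obtain ⟨a1, a2, rfl, ha2, ha1⟩ := ha
          refine ⟨-a1, -a2, by abel, neg_mem ha2, ?_⟩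
          rcases ha1 with rfl | ⟨ha1, hm⟩
          · left; rw [neg_zero]
          · right; exact ⟨neg_mem ha1, hm⟩
      obtain ⟨w, v', rfl, hv', hw⟩ := hdec v hv
      have hw0 : w = 0 := by
        rcases hw with h0 | ⟨hw, m, hm, rfl⟩
        · exact h0
        · have h1 : v' ∈ B.rest m := by
            have h2 : A T ≤ B.rest m := (AddSubgroup.closure_le _).2 (by
              rintro x ⟨W', hW', ⟨m', hm', rfl⟩, hx⟩
              exact AddSubgroup.subset_closure ⟨m', hm', fun e => hWT (e ▸ hW'), hx⟩)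
            exact h2 hv'
          refine B.block_fix hw fun k hk => ?_
          have h2 := hf m hm k hk
          rw [smul_add, B.cent_rest hm hk h1] at h2
          exact add_right_cancel h2
      subst hw0
      rw [zero_add] at hf ⊢
      exact ih v' hv' hf
  refine key Finset.univ v ?_ hf
  have h2 : B.all ≤ A Finset.univ := (AddSubgroup.closure_le _).2 (by
    rintro x ⟨m, hm, hx⟩
    exact AddSubgroup.subset_closure ⟨m • V1 B.dat, Finset.mem_univ _, ⟨m, hm, rfl⟩, hx⟩)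
  exact h2 hv

omit [Finite H] [Finite U] in
theorem fix_YM {v : U} (hf : ∀ m ∈ M, ∀ k ∈ Y, (m * k * m⁻¹) • v = v) {x : H} (hx : x ∈ B.YM) : x • v = v := by
  induction hx using closure_induction with
  | mem x hx =>
    obtain ⟨m, hm, k, hk, rfl⟩ := hx
    exact hf m hm k hk
  | one => exact one_smul _ _
  | mul a b _ _ ha hb => rw [mul_smul, hb, ha]
  | inv a _ ha => rw [inv_smul_eq_iff, ha]

/-- an element of `all` in all `rest m` is zero -/
theorem all_sep' {v : U} (hv : v ∈ B.all) (hf : ∀ m ∈ M, v ∈ B.rest m) : v = 0 :=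
  B.all_sep hv fun m hm _ hk => B.cent_rest hm hk (hf m hm)

/-- **Gaschütz**, one fixed point -/
theorem fix_dec {z : U} (hzV : z ∈ V) (hz : ∀ s ∈ S, s • z = z) : ∃ a ∈ B.all, ∃ c ∈ V, (∀ s ∈ S, s • a = a) ∧
    (∀ s ∈ S, s • c = c) ∧ (∀ x ∈ B.YM, x • c = c) ∧ z = a + c := by
  have hn : (B.YM.subgroupOf M).Normal := ⟨fun n hn g => by
    rw [mem_subgroupOf] at hn ⊢
    exact B.YM_conj g.2 hn⟩
  obtain ⟨z', h1, h2, h3⟩ := exists_fixed (M := M) (U := U) B.dat.two (S := S.subgroupOf M) (N := B.YM.subgroupOf M)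
    (z := z) B.syl B.all (fun s hs => hz _ (mem_subgroupOf.1 hs)) fun n hn => B.br_YM (mem_subgroupOf.1 hn) hzV
  have hz'V : z' ∈ V := by
    have e : z' = (z' - z) + z := by abel
    rw [e]; exact add_mem (B.all_le h3) hzV
  have h2' : ∀ s ∈ S, s • z' = z' := fun s hs => h2 ⟨s, B.SM hs⟩ (mem_subgroupOf.2 hs)
  refine ⟨-(z' - z), neg_mem h3, z', hz'V, fun s hs => ?_, h2',
    fun x hx => h1 ⟨x, B.KM (B.YM_le hx)⟩ (mem_subgroupOf.2 hx), by abel⟩
  rw [smul_neg, smul_sub, hz s hs, h2' s hs]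

/-- `YM` acts on `V` modulo `rest 1` as `Y`. -/
theorem br_rest {K : Subgroup H} (hs : Sn Y K) (hK : K ≤ B.YM) {c : U} (hc : c ∈ V)
    (hf : ∀ k ∈ Y, br k c ∈ B.rest 1) {k : H} (hk : k ∈ K) : br k c ∈ B.rest 1 := by
  induction hs generalizing k with
  | refl => exact hf k hk
  | @step K K' h0 h1 h2 ih =>
    have hKY : K ≤ B.YM := h1.trans hK
    have hkK : k ∈ KV := B.YM_le (hK hk)
    -- `x ↦ br x w` modulo `rest 1`
    obtain ⟨a, ha, b, hb, e⟩ := B.mem_all (B.br_YM (hK hk) hc) 1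
    have key : ∀ n ∈ Y, n • a = a := by
      intro n hn
      have hnK : n ∈ KV := B.YK hn
      have hn' : k⁻¹ * n * k ∈ K := by
        have := h2 k⁻¹ (inv_mem hk) n (h0.le hn)
        rwa [inv_inv] at this
      have e1 : n • k • c - k • c ∈ B.rest 1 := by
        have h3 := B.rest_K (one_mem M) hkK (ih hKY hn')
        have e2 : k • br (k⁻¹ * n * k) c = n • k • c - k • c := by
          rw [br_def, smul_sub, smul_smul]
          congr 1
          rw [smul_smul]
          congr 1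
          group
        rwa [e2] at h3
      have e3 : n • br k c - br k c ∈ B.rest 1 := by
        have e4 : n • br k c - br k c = (n • k • c - k • c) - br n c := by
          rw [br_def k, br_def n, smul_sub]; abel
        rw [e4]
        exact sub_mem e1 (hf n hn)
      have h5 : n • a - a ∈ (1 : H) • V1 B.dat ⊓ B.rest 1 := by
        refine AddSubgroup.mem_inf.2 ⟨sub_mem (B.smul_V1_K (one_mem M) hnK ha) ha, ?_⟩
        have e5 : n • a - a = (n • br k c - br k c) - (n • b - b) := by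
          rw [e, smul_add]; abel
        rw [e5]
        exact sub_mem e3 (sub_mem (B.rest_K (one_mem M) hnK hb) hb)
      rw [B.indep (one_mem M), AddSubgroup.mem_bot] at h5
      exact sub_eq_zero.1 h5
    have ha0 : a = 0 := B.block_fix ha fun n hn => by
      rw [one_mul, inv_one, mul_one]
      exact key n hn
    rw [e, ha0, zero_add]
    exact hb

/-- every `v ∈ V` is, modulo `m V₁`, moved by `YM` only in `rest m` -/
theorem exists_rest {m : H} (hm : m ∈ M) {v : U} (hv : v ∈ V) :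
    ∃ a ∈ m • V1 B.dat, v - a ∈ V ∧ ∀ x ∈ B.YM, br x (v - a) ∈ B.rest m := by
  obtain ⟨w, hw, c, hc, hcY, e⟩ := TBlk.split B.dat (B.mV m⁻¹ (inv_mem hm) v hv)
  have e1 : v - m • w = m • c := by
    rw [sub_eq_iff_eq_add, ← smul_add, add_comm, ← e, smul_inv_smul]
  refine ⟨m • w, AddSubgroup.smul_mem_pointwise_smul _ _ _ hw, ?_, ?_⟩
  · rw [e1]; exact B.mV m hm c hc
  · intro x hx
    have hYY : Y ≤ B.YM := fun k hk => by
      have := B.conj_mem_YM (one_mem M) hk
      rwa [one_mul, inv_one, mul_one] at this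
    have hs : Sn Y B.YM := by
      have h1 := sn_inf' B.sn B.YM
      rwa [inf_eq_left.2 hYY, inf_eq_right.2 B.YM_le] at h1
    have hx' : m⁻¹ * x * m ∈ B.YM := by
      have := B.YM_conj (inv_mem hm) hx
      rwa [inv_inv] at this
    have h2 := B.br_rest hs le_rfl hc (fun k hk => by rw [br_eq_zero.2 (hcY k hk)]; exact zero_mem _) hx'
    have h3 := B.smul_rest hm h2
    rw [mul_one] at h3
    have e2 : m • br (m⁻¹ * x * m) c = br x (v - m • w) := by
      rw [e1, ← br_conj_smul]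
      congr 1
      group
    rwa [e2] at h3

theorem exists_all (s : Finset H) (hs : ∀ m ∈ s, m ∈ M) {v : U} (hv : v ∈ V) :
    ∃ w ∈ B.all, v - w ∈ V ∧ ∀ m ∈ s, ∀ x ∈ B.YM, br x (v - w) ∈ B.rest m := by
  classical
  induction s using Finset.induction_on with
  | empty => exact ⟨0, zero_mem _, by rwa [sub_zero], fun m hm => absurd hm (Finset.notMem_empty m)⟩
  | insert m s _ ih =>
    obtain ⟨w, hw, hwV, hws⟩ := ih fun m hm => hs m (Finset.mem_insert_of_mem hm)
    have hm : m ∈ M := hs m (Finset.mem_insert_self m s)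
    by_cases hex : ∃ m' ∈ s, m • V1 B.dat = m' • V1 B.dat
    · obtain ⟨m', hm', e⟩ := hex
      refine ⟨w, hw, hwV, fun l hl x hx => ?_⟩
      rcases Finset.mem_insert.1 hl with rfl | hl
      · rw [B.rest_congr e]; exact hws m' hm' x hx
      · exact hws l hl x hx
    · push Not at hex
      obtain ⟨a, ha, haV, hax⟩ := B.exists_rest hm hwV
      refine ⟨w + a, add_mem hw (B.le_all hm ha), ?_, fun l hl x hx => ?_⟩
      · rw [← sub_sub]; exact haV
      · rw [← sub_sub]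
        rcases Finset.mem_insert.1 hl with rfl | hl
        · exact hax x hx
        · rw [br_sub]
          refine sub_mem (hws l hl x hx) ?_
          have hne : l • V1 B.dat ≠ m • V1 B.dat := fun e => hex l hl e.symm
          refine B.le_rest hm hne ?_
          rw [br_def]
          exact sub_mem (B.smul_V1_K hm (B.YM_le hx) ha) ha

/-- `V = all + C_V(YM)` -/
theorem gen_dec {v : U} (hv : v ∈ V) : ∃ a ∈ B.all, ∃ c ∈ V, (∀ x ∈ B.YM, x • c = c) ∧ v = a + c := by
  classical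
  have : Fintype H := Fintype.ofFinite H
  obtain ⟨w, hw, hwV, hws⟩ := B.exists_all (Finset.univ.filter fun m => m ∈ M)
    (fun m hm => (Finset.mem_filter.1 hm).2) hv
  refine ⟨w, hw, v - w, hwV, fun x hx => ?_, by abel⟩
  have h1 : br x (v - w) = 0 := B.all_sep' (B.br_YM hx hwV) fun m hm =>
    hws m (Finset.mem_filter.2 ⟨Finset.mem_univ m, hm⟩) x hx
  exact br_eq_zero.1 h1

/-- the sum of the blocks in the `S`-orbit of `m V₁` -/
def orbS (_B : Blk0 Y Q BB V F L C h M KV S) (m : H) : AddSubgroup U :=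
  AddSubgroup.closure {v | ∃ s ∈ S, v ∈ (s * m) • V1 _B.dat}

omit [Finite H] [Finite U] in
theorem orbS_le_all {m : H} (hm : m ∈ M) : B.orbS m ≤ B.all := (AddSubgroup.closure_le _).2 (by
  rintro v ⟨s, hs, hv⟩
  exact B.le_all (mul_mem (B.SM hs) hm) hv)

omit [Finite H] [Finite U] in
theorem smul_orbS {m s : H} (hs : s ∈ S) {v : U} (hv : v ∈ B.orbS m) : s • v ∈ B.orbS m := by
  induction hv using AddSubgroup.closure_induction with
  | mem v hv =>
    obtain ⟨t, ht, hv⟩ := hv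
    refine AddSubgroup.subset_closure ⟨s * t, mul_mem hs ht, ?_⟩
    rw [mul_assoc, mul_smul s (t * m)]
    exact AddSubgroup.smul_mem_pointwise_smul _ _ _ hv
  | zero => rw [smul_zero]; exact zero_mem _
  | add a b _ _ ha hb => rw [smul_add]; exact add_mem ha hb
  | neg a _ ha => rw [smul_neg]; exact neg_mem ha

/-- every block carries a component `≠ 0` of some fixed point `z` of `S` -/
theorem exists_comp {m : H} (hm : m ∈ M) : ∃ z ∈ B.orbS m, (∀ s ∈ S, s • z = z) ∧ z ∉ B.rest m := by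
  obtain ⟨z, hz, hz0, hzS⟩ := exists_fix B.S2 B.dat.two (A := B.orbS m) (fun s hs v hv => B.smul_orbS hs hv) (by
    intro h0
    obtain ⟨v, hv, -, hv0⟩ : ∃ v ∈ V1 B.dat, v ∈ F ∧ v ≠ 0 := by
      obtain ⟨s, hs, hs1, hsF⟩ := B.dat.ne
      have h1 : ∃ l ∈ L, br s l ≠ 0 := by
        by_contra h0
        push Not at h0
        exact hs1 (B.dat.eq_one hs h0)
      obtain ⟨l, hl, hne⟩ := h1
      exact ⟨br s l, br_mem_V1 B.dat (B.dat.AZ_le_AA ⟨hs, hsF⟩) l, hsF l, hne⟩
    have h1 : m • v ∈ B.orbS m := AddSubgroup.subset_closure ⟨1, one_mem _, by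
      rw [one_mul]; exact AddSubgroup.smul_mem_pointwise_smul _ _ _ hv⟩
    rw [h0, AddSubgroup.mem_bot] at h1
    exact hv0 (by rw [← inv_smul_smul m v, h1, smul_zero]))
  refine ⟨z, hz, hzS, fun h1 => hz0 (B.all_sep' (B.orbS_le_all hm hz) fun m' hm' => ?_)⟩
  by_cases hex : ∃ s ∈ S, (s * m) • V1 B.dat = m' • V1 B.dat
  · obtain ⟨s, hs, e⟩ := hex
    have h2 := B.smul_rest (B.SM hs) h1
    rw [hzS s hs] at h2
    rwa [B.rest_congr e] at h2
  · push Not at hex
    have h2 : B.orbS m ≤ B.rest m' := (AddSubgroup.closure_le _).2 (by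
      rintro v ⟨s, hs, hv⟩
      exact AddSubgroup.subset_closure ⟨s * m, mul_mem (B.SM hs) hm, fun e => hex s hs e.symm, hv⟩)
    exact h2 hz

omit [Finite U] in
theorem odd_T {m : H} (hm : m ∈ M) : ¬ 2 ∣ (S.map (MulAut.conj m⁻¹).toMonoidHom).relIndex Y := by
  refine sn_odd (K := KV) B.sn ?_
  have hn : (KV.subgroupOf M).Normal := ⟨fun n hn g => B.nK g g.2 n hn⟩
  have h1 : ¬ 2 ∣ ((S.map (MulAut.conj m⁻¹).toMonoidHom).subgroupOf M).index := by
    have e : (S.map (MulAut.conj m⁻¹).toMonoidHom).relIndex (M.map (MulAut.conj m⁻¹).toMonoidHom) = S.relIndex M :=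
      relIndex_map_map_of_injective _ _ (MulAut.conj m⁻¹).injective
    have e2 : M.map (MulAut.conj m⁻¹).toMonoidHom = M := by
      ext x
      constructor
      · rintro ⟨y, hy, rfl⟩
        exact mul_mem (mul_mem (inv_mem hm) hy) (inv_mem (inv_mem hm))
      · intro hx
        refine ⟨m * x * m⁻¹, mul_mem (mul_mem hm hx) (inv_mem hm), ?_⟩
        change m⁻¹ * (m * x * m⁻¹) * m⁻¹⁻¹ = x
        group
    rw [e2] at e
    change ¬ 2 ∣ (S.map (MulAut.conj m⁻¹).toMonoidHom).relIndex M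
    rw [e]
    exact B.syl
  have h2 := not_dvd_relIndex (N := KV.subgroupOf M) h1
  rwa [relIndex_subgroupOf B.KM] at h2

/-- the component in `m V₁` of a vector fixed by `s` is fixed by `s ∈ KV` -/
theorem comp_fix {m : H} (hm : m ∈ M) {z a b : U} (ha : a ∈ m • V1 B.dat)
    (hb : b ∈ B.rest m) (e : z = a + b) {s : H} (hz : s • z = z) (hsK : s ∈ KV) : s • a = a := by
  have h1 : s • a ∈ m • V1 B.dat := B.smul_V1_K hm hsK ha
  have h2 : s • b ∈ B.rest m := B.rest_K hm hsK hb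
  rw [e, smul_add] at hz
  have h4 : s • a - a = b - s • b := by
    rw [sub_eq_sub_iff_add_eq_add, hz, add_comm]
  have h5 : s • a - a ∈ m • V1 B.dat ⊓ B.rest m :=
    AddSubgroup.mem_inf.2 ⟨sub_mem h1 ha, by rw [h4]; exact sub_mem hb h2⟩
  rw [B.indep hm, AddSubgroup.mem_bot] at h5
  exact sub_eq_zero.1 h5

/-- the action of the ring on two components in one block -/
theorem ann_comp {m : H} (hm : m ∈ M) {a a' : U} (ha : a ∈ m • V1 B.dat) (ha0 : a ≠ 0)
    (haS : ∀ s ∈ S, s ∈ B.YM → s • a = a) (ha' : a' ∈ m • V1 B.dat) (haS' : ∀ s ∈ S, s ∈ B.YM → s • a' = a')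
    {c : AddMonoid.End U} (hc : c ∈ ring U KV) (h1 : c a = 0) : c a' = 0 := by
  have hcm : op U m⁻¹ * c * op U m⁻¹⁻¹ ∈ ring U KV :=
    Descent.conj_mem (fun x hx => B.nK _ (inv_mem hm) x hx) hc
  have key : ∀ v : U, (op U m⁻¹ * c * op U m⁻¹⁻¹) (m⁻¹ • v) = m⁻¹ • c v := by
    intro v
    change m⁻¹ • c (m⁻¹⁻¹ • m⁻¹ • v) = _
    rw [inv_inv, smul_inv_smul]
  have hmem : ∀ v ∈ m • V1 B.dat, m⁻¹ • v ∈ V1 B.dat := fun v hv =>
    AddSubgroup.mem_pointwise_smul_iff_inv_smul_mem.1 hv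
  have hfix : ∀ v : U, (∀ s ∈ S, s ∈ B.YM → s • v = v) →
      ∀ t ∈ S.map (MulAut.conj m⁻¹).toMonoidHom, t ∈ Y → t • m⁻¹ • v = m⁻¹ • v := by
    rintro v hv _ ⟨s, hs, rfl⟩ ht
    have hsK : s ∈ B.YM := by
      have h2 := B.conj_mem_YM hm ht
      have e3 : m * (MulAut.conj m⁻¹).toMonoidHom s * m⁻¹ = s := by
        change m * (m⁻¹ * s * m⁻¹⁻¹) * m⁻¹ = s
        group
      rwa [e3] at h2
    change (m⁻¹ * s * m⁻¹⁻¹) • m⁻¹ • v = _
    rw [smul_smul, inv_inv, mul_assoc, mul_inv_cancel, mul_one, mul_smul, hv s hs hsK]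
  have h2 : (op U m⁻¹ * c * op U m⁻¹⁻¹) (m⁻¹ • a') = 0 := by
    refine B.ann_one (T := S.map (MulAut.conj m⁻¹).toMonoidHom) (B.S2.map _) (B.odd_T hm)
      (w := m⁻¹ • a) (hmem a ha) (hfix a haS) ?_ (hmem a' ha') (hfix a' haS') hcm ?_
    · intro h3
      exact ha0 (by rw [← smul_inv_smul m a, h3, smul_zero])
    · rw [key, h1, smul_zero]
  rw [key] at h2
  rw [← smul_inv_smul m (c a'), h2, smul_zero]

/-- **(hX)** -/
theorem hX {x : H} (hx : x ∈ B.YM) (hxS : ∀ z ∈ V, (∀ s ∈ S, s • z = z) → x • z = z) {v : U} (hv : v ∈ V)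
    (hvS : ∀ s ∈ S, s ∈ B.YM → s • v = v) : x • v = v := by
  obtain ⟨a, ha, c, -, hcx, rfl⟩ := B.gen_dec hv
  have haS : ∀ s ∈ S, s ∈ B.YM → s • a = a := by
    intro s hs hsY
    have h1 := hvS s hs hsY
    rw [smul_add, hcx s hsY] at h1
    exact add_right_cancel h1
  rw [smul_add, hcx x hx]
  congr 1
  rw [← sub_eq_zero]
  have hxK := B.YM_le hx
  refine B.all_sep' (sub_mem (B.all_M (B.KM hxK) ha) ha) fun m hm => ?_
  obtain ⟨a1, ha1, b1, hb1, e⟩ := B.mem_all ha m
  obtain ⟨z, hz, hzS, hzr⟩ := B.exists_comp hm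
  obtain ⟨z1, hz1, z2, hz2, ez⟩ := B.mem_all (B.orbS_le_all hm hz) m
  have hz10 : z1 ≠ 0 := by
    rintro rfl
    rw [zero_add] at ez
    exact hzr (ez ▸ hz2)
  have h1 : (op U x - 1) a1 = 0 := by
    refine B.ann_comp hm hz1 hz10 (fun s hs hsY => B.comp_fix hm hz1 hz2 ez (hzS s hs) (B.YM_le hsY)) ha1
      (fun s hs hsY => B.comp_fix hm ha1 hb1 e (haS s hs hsY) (B.YM_le hsY))
      (c := op U x - 1) (sub_mem (op_mem hxK) (one_mem' KV)) ?_
    change x • z1 - z1 = 0
    rw [sub_eq_zero]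
    exact B.comp_fix hm hz1 hz2 ez (hxS z (B.all_le (B.orbS_le_all hm hz)) hzS) hxK
  change x • a1 - a1 = 0 at h1
  rw [e]
  have e2 : x • (a1 + b1) - (a1 + b1) = (x • a1 - a1) + (x • b1 - b1) := by rw [smul_add]; abel
  rw [e2, h1, zero_add]
  exact sub_mem (B.rest_K hm hxK hb1) hb1

/-- `S ∩ YM` moves `V` -/
theorem moves : ∃ s ∈ S, s ∈ B.YM ∧ ∃ v ∈ V, s • v ≠ v := by
  by_contra hcon
  push Not at hcon
  obtain ⟨d, hd, v, hv, hdv⟩ := exists_Q B.dat
  let N : Subgroup Y :=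
    { carrier := {k | ∀ v ∈ V, (k : H) • v = v}
      one_mem' := fun v _ => one_smul _ v
      mul_mem' := fun {a b} ha hb v hv => by
        rw [Subgroup.coe_mul, mul_smul, hb v hv, ha v hv]
      inv_mem' := fun {a} ha v hv => by
        rw [Subgroup.coe_inv, inv_smul_eq_iff, ha v hv] }
  have hN : N.Normal := ⟨fun n hn g v hv => by
    rw [Subgroup.coe_mul, Subgroup.coe_mul, Subgroup.coe_inv, mul_smul, mul_smul,
      hn _ (B.dat.smul_V (inv_mem g.2) hv), smul_inv_smul]⟩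
  have h1 : S.subgroupOf Y ≤ N := by
    intro k hk v hv
    have hkY : (k : H) ∈ B.YM := by
      have := B.conj_mem_YM (one_mem M) k.2
      rwa [one_mul, inv_one, mul_one] at this
    exact hcon k (mem_subgroupOf.1 hk) hkY v hv
  have h2 : ¬ 2 ∣ N.index := by
    intro h0
    have h3 := B.odd_T (one_mem M)
    have e : S.map (MulAut.conj (1 : H)⁻¹).toMonoidHom = S := by
      ext x
      constructor
      · rintro ⟨y, hy, rfl⟩
        change (1 : H)⁻¹ * y * (1 : H)⁻¹⁻¹ ∈ S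
        rwa [inv_one, inv_one, one_mul, mul_one]
      · intro hx
        refine ⟨x, hx, ?_⟩
        change (1 : H)⁻¹ * x * (1 : H)⁻¹⁻¹ = x
        rw [inv_one, inv_one, one_mul, mul_one]
    rw [e] at h3
    exact h3 (h0.trans (index_dvd_of_le h1))
  have hdN : (⟨d, B.dat.QY hd⟩ : Y) ∈ N := by
    have h3 : ((⟨d, B.dat.QY hd⟩ : Y) : Y ⧸ N) ^ 2 = 1 := by
      have h4 : (⟨d, B.dat.QY hd⟩ : Y) ^ 2 = 1 := Subtype.ext (by
        rw [Subgroup.coe_pow, sq]
        exact B.dat.Q_sq hd)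
      change ((((⟨d, B.dat.QY hd⟩ : Y) ^ 2 : Y)) : Y ⧸ N) = 1
      rw [h4]
      rfl
    have h4 : Nat.Coprime 2 (Nat.card (Y ⧸ N)) := (Nat.prime_two.coprime_iff_not_dvd).2 h2
    have h5 : ((⟨d, B.dat.QY hd⟩ : Y) : Y ⧸ N) = 1 := by
      rw [← orderOf_eq_one_iff]
      have h6 := orderOf_dvd_of_pow_eq_one h3
      have h7 := orderOf_dvd_natCard ((⟨d, B.dat.QY hd⟩ : Y) : Y ⧸ N)
      exact Nat.eq_one_of_dvd_coprimes h4 h6 h7
    exact (QuotientGroup.eq_one_iff _).1 h5
  exact hdv (hdN v hv)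

end Blk0

end Cfsg.Agent.Omega.NO3b.Exit.BlkZ
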