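import Cfsg.Agent.Omega.FF.Quad
import Cfsg.Agent.MinSimple.VModule

/-!
# The local exit of NotFF: best offenders (#18053 (1), (2), helper999)

`X` finite acts faithfully on the elementary abelian 2-group `W`, `V ≤ W`; `N_X(V)` is the unique maximal subgroup of
`X` over the Sylow 2-subgroup `S`; `F ≤ V` is centralised by `X`, `V ∩ V^x ≤ F` for `V^x ≠ V`; `V` is not FF for
`N_X(V)`; `S` moves `V` (`Dat S V F`). `Gen X V` : `W = ⟨V^X⟩` (only where stated).

* `BO A` : `A` has exponent 2 and `|E| |C_W(E)| ≤ |A| |C_W(A)|` for all `E ≤ A`;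
* `Dat.bo_cent` : **(1)** a `BO` group which normalises `V^x` centralises it; `Dat.bo_eq_bot` : `BO` in `O₂(X)` is 1;
* `MB B` : `B` is `BO`, not in `O₂(X)`, and `f(E) < f(B)` for `1 ≠ E < B`, so (`MB.two_mul`) `f(E) ≤ f(B) / 2`;
  `exists_MB` : it exists if `W = ⟨V^X⟩` and some `BO` group is not in `O₂(X)`;
  `MB.quad` : `B` is quadratic;
* `MB.fx_le`, `MB.comm_le` : **(2)** if `V^g` is not `B`-invariant, then `C_{V^g}(B) ≤ F`, `[V^g, N_B(V^g)] ≤ F`;
  `MB.comm_core` : `[W, B ∩ O₂(X)] ≤ F`.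
-/

set_option autoImplicit false

namespace Cfsg.Agent.Omega.NO3b.Exit.TT

open Cfsg.Agent.Omega.FF.Basic Cfsg.Agent.Omega.FF.Quad
open Cfsg (pCore)
open scoped Pointwise

section basic

variable {X : Type*} [Group X] {W : Type*} [AddCommGroup W] [DistribMulAction X W]

/-- `C_X(U)` -/
def cf (X : Type*) [Group X] {W : Type*} [AddCommGroup W] [DistribMulAction X W] (U : AddSubgroup W) :
    Subgroup X where
  carrier := {x | ∀ u ∈ U, x • u = u}
  one_mem' := fun _ _ => one_smul _ _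
  mul_mem' := fun {_ _} ha hb u hu => by rw [mul_smul, hb u hu, ha u hu]
  inv_mem' := fun {_} ha u hu => by rw [inv_smul_eq_iff, ha u hu]

theorem mem_cf {U : AddSubgroup W} {x : X} : x ∈ cf X U ↔ ∀ u ∈ U, x • u = u := Iff.rfl

/-- `N_X(U)` -/
abbrev nf (X : Type*) [Group X] {W : Type*} [AddCommGroup W] [DistribMulAction X W] (U : AddSubgroup W) :
    Subgroup X := MulAction.stabilizer X U

theorem mem_nf {U : AddSubgroup W} {x : X} : x ∈ nf X U ↔ x • U = U := Iff.rfl

theorem mem_smul {U : AddSubgroup W} {x : X} {w : W} : w ∈ x • U ↔ x⁻¹ • w ∈ U :=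
  AddSubgroup.mem_pointwise_smul_iff_inv_smul_mem

theorem smul_mem' {U : AddSubgroup W} {x : X} {w : W} (h : w ∈ U) : x • w ∈ x • U := by
  rw [mem_smul, inv_smul_smul]; exact h

theorem nf_smul {U : AddSubgroup W} {x : X} (h : x ∈ nf X U) {w : W} (hw : w ∈ U) : x • w ∈ U := by
  have h1 := smul_mem' (x := x) hw
  rwa [mem_nf.1 h] at h1

theorem le_cf {U : AddSubgroup W} {A : Subgroup X} : A ≤ cf X U ↔ U ≤ fx W A :=
  ⟨fun h u hu a ha => h ha u hu, fun h a ha u hu => h hu a ha⟩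

theorem cf_le_nf [Finite W] (U : AddSubgroup W) : cf X U ≤ nf X U := by
  intro x hx
  rw [mem_nf]
  ext w
  rw [mem_smul]
  have hx' : x⁻¹ ∈ cf X U := inv_mem hx
  constructor
  · intro h
    have := hx _ h
    rw [smul_inv_smul] at this
    rw [this]; exact h
  · intro h
    rw [hx' _ h]; exact h

theorem nf_conj {U : AddSubgroup W} {x y : X} : y ∈ nf X (x • U) ↔ x⁻¹ * y * x ∈ nf X U := by
  rw [mem_nf, mem_nf, smul_smul, mul_assoc, mul_smul x⁻¹ (y * x) U, inv_smul_eq_iff]

theorem cf_conj {U : AddSubgroup W} {x y : X} : y ∈ cf X (x • U) ↔ x⁻¹ * y * x ∈ cf X U := by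
  rw [mem_cf, mem_cf]
  constructor
  · intro h u hu
    have := h (x • u) (smul_mem' hu)
    rw [mul_smul, mul_smul, this, inv_smul_smul]
  · intro h u hu
    have := h _ (mem_smul.1 hu)
    rw [mul_smul, mul_smul, smul_inv_smul, inv_smul_eq_iff, smul_inv_smul] at this
    exact this

theorem card_smul' (x : X) (U : AddSubgroup W) : Nat.card ↥(x • U) = Nat.card U :=
  card_smul x fun _ => mem_smul

/-- a `BO` group -/
structure BO (W : Type*) [AddCommGroup W] [DistribMulAction X W] (A : Subgroup X) : Prop where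
  ea : EA A
  le : ∀ E : Subgroup X, E ≤ A → mm W E ≤ mm W A

theorem mm_pow [Finite X] [Finite W] (two : ∀ w : W, w + w = 0) {A : Subgroup X} (hA : EA A) :
    ∃ n, mm W A = 2 ^ n := by
  have hf : Fact (Nat.Prime 2) := ⟨Nat.prime_two⟩
  obtain ⟨n, hn⟩ := IsPGroup.iff_card.1 hA.isPGroup
  have h1 : IsPGroup 2 (Multiplicative (fx W A)) := by
    intro x
    refine ⟨1, ?_⟩
    apply Multiplicative.toAdd.injective
    apply Subtype.ext
    rw [pow_one, toAdd_pow, two_nsmul]
    exact two _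
  obtain ⟨m, hm⟩ := IsPGroup.iff_card.1 h1
  refine ⟨n + m, ?_⟩
  have h2 : Nat.card (fx W A) = 2 ^ m := hm
  rw [mm, hn, h2, pow_add]

theorem card_pow [Finite W] (two : ∀ w : W, w + w = 0) (U : AddSubgroup W) : ∃ n, Nat.card U = 2 ^ n := by
  have hf : Fact (Nat.Prime 2) := ⟨Nat.prime_two⟩
  have h1 : IsPGroup 2 (Multiplicative U) := by
    intro x
    refine ⟨1, ?_⟩
    apply Multiplicative.toAdd.injective
    apply Subtype.ext
    rw [pow_one, toAdd_pow, two_nsmul]
    exact two _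
  obtain ⟨m, hm⟩ := IsPGroup.iff_card.1 h1
  exact ⟨m, hm⟩

theorem two_mul_le_of_pow {a b : ℕ} (ha : ∃ n, a = 2 ^ n) (hb : ∃ n, b = 2 ^ n) (h : a < b) : 2 * a ≤ b := by
  obtain ⟨n, rfl⟩ := ha
  obtain ⟨m, rfl⟩ := hb
  have h1 := (Nat.pow_lt_pow_iff_right (by norm_num : 1 < 2)).1 h
  calc 2 * 2 ^ n = 2 ^ (n + 1) := by ring
    _ ≤ 2 ^ m := Nat.pow_le_pow_right (by norm_num) (by omega)

/-- Timmesfeld's replacement: `f(A)` maximal in `A` and `f(E) < f(A)` for `1 ≠ E < A` imply quadratic action. -/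
theorem quad' [Finite X] [Finite W] {A : Subgroup X} (h2 : ∀ v : W, v + v = 0) (hA : EA A) (hne : A ≠ ⊥)
    (hbot : Nat.card W ≤ mm W A) (hmin : ∀ F < A, F ≠ ⊥ → mm W F < mm W A) :
    ∀ a ∈ A, ∀ b ∈ A, ∀ v : W, b • (a • v - v) = a • v - v := by
  intro a ha b hb u
  have hle : st A u ≤ A := fun c hc => hc.1
  have h1 := mm_le_st hA u
  by_cases hst : st A u = ⊥
  · exfalso
    have hA1 : mm W A = Nat.card W := by
      apply le_antisymm _ hbot
      rw [← mm_bot (V := W) (X := X), ← hst]; exact h1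
    have hinj : ∀ a ∈ A, ∀ b ∈ A, (a • u - u) - (b • u - u) ∈ fx W A → a = b := by
      intro a ha b hb h
      have : b⁻¹ * a ∈ st A u := by
        refine ⟨A.mul_mem (A.inv_mem hb) ha, fun d hd => ?_⟩
        set c := b⁻¹ * a with hc
        have hcA : c ∈ A := A.mul_mem (A.inv_mem hb) ha
        have h1 : c • u - u ∈ fx W A := by
          have h3 : (a • u - b • u : W) ∈ fx W A := by convert h using 1; abel
          have h4 := h3 b⁻¹ (A.inv_mem hb)
          have h5 : c • u - u = b⁻¹ • (a • u - b • u) := by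
            rw [smul_sub, smul_smul, inv_smul_smul]
          rw [h5, h4]; exact h3
        have h2 : c • (d • u) = d • (c • u) := by
          rw [smul_smul, smul_smul, hA.comm hcA hd]
        have h3 := h1 d hd
        rw [smul_sub] at h3
        rw [smul_sub, h2]
        have h4 : d • c • u = c • u - u + d • u := by rw [← h3]; abel
        rw [h4]; abel
      rw [hst, Subgroup.mem_bot, inv_mul_eq_one] at this
      exact this.symm
    have hbij : Function.Bijective (fun x : A × fx W A => ((x.1 : X) • u - u + (x.2 : W) : W)) := by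
      rw [Nat.bijective_iff_injective_and_card]
      refine ⟨?_, ?_⟩
      · rintro ⟨a, c⟩ ⟨a', c'⟩ h
        have h' : (a : X) • u - u + (c : W) = (a' : X) • u - u + (c' : W) := h
        have e : (a : X) = a' := by
          apply hinj a a.2 a' a'.2
          have : ((a : X) • u - u) - ((a' : X) • u - u) = (c' : W) - c := by
            have : (a : X) • u - u = (a' : X) • u - u + (c' : W) - c := by rw [← h']; abel
            rw [this]; abel
          rw [this]; exact (fx W A).sub_mem c'.2 c.2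
        rw [e] at h'
        exact Prod.ext (Subtype.ext e) (Subtype.ext (add_left_cancel h'))
      · rw [Nat.card_prod]; exact hA1
    obtain ⟨⟨a, c⟩, hac⟩ := hbij.2 u
    have hac' : (a : X) • u - u + (c : W) = u := hac
    have h3 : (a : X) • u = (u + u) - c := by rw [← sub_eq_zero] at hac' ⊢; rw [← hac']; abel
    rw [h2, zero_sub] at h3
    have h4 : (a : X) • u ∈ fx W A := by rw [h3]; exact (fx W A).neg_mem c.2
    have h5 : u ∈ fx W A := by
      have := h4 (a : X)⁻¹ (A.inv_mem a.2)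
      rw [inv_smul_smul] at this
      rw [this]; exact h4
    apply hne
    rw [Subgroup.eq_bot_iff_forall]
    intro x hx
    apply hinj x hx 1 A.one_mem
    rw [h5 x hx, one_smul, sub_self]; exact (fx W A).zero_mem
  · have : st A u = A := by
      by_contra h
      exact absurd (hmin _ (lt_of_le_of_ne hle h) hst) (not_lt.2 h1)
    have hb' : b ∈ st A u := by rw [this]; exact hb
    exact hb'.2 a ha

end basic

/-- The hypotheses. -/
structure Dat {X : Type*} [Group X] {W : Type*} [AddCommGroup W] [DistribMulAction X W] (S : Sylow 2 X)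
    (V F : AddSubgroup W) : Prop where
  two : ∀ w : W, w + w = 0
  faith : ∀ x : X, (∀ w : W, x • w = w) → x = 1
  SV : (S : Subgroup X) ≤ nf X V
  ne : nf X V ≠ ⊤
  uniq : ∀ K : Subgroup X, (S : Subgroup X) ≤ K → K ≠ ⊤ → K ≤ nf X V
  FV : F ≤ V
  Fx : ∀ (x : X), ∀ f ∈ F, x • f = f
  ti : ∀ x : X, x • V ≠ V → V ⊓ x • V ≤ F
  nff : ∀ A : Subgroup X, IsPGroup 2 A → A ≤ nf X V → (∀ a ∈ A, ∀ v ∈ V, a • a • v = v) → ¬ A ≤ cf X V →
    Nat.card A * Nat.card ↥(V ⊓ fx W A) < Nat.card V * Nat.card ↥(A ⊓ cf X V)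
  mv : ¬ (S : Subgroup X) ≤ cf X V

/-- `W = ⟨V^X⟩` -/
def Gen (X : Type*) [Group X] {W : Type*} [AddCommGroup W] [DistribMulAction X W] (V : AddSubgroup W) : Prop :=
  (⨆ x : X, x • V) = ⊤

namespace Dat

variable {X : Type*} [Group X] [Finite X] {W : Type*} [AddCommGroup W] [Finite W] [DistribMulAction X W]
  {S : Sylow 2 X} {V F : AddSubgroup W} (h : Dat S V F)
include h

omit [Finite X] [Finite W] in
theorem F_smul (x : X) : x • F = F := by
  ext w
  rw [mem_smul]
  constructor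
  · intro hw
    have := h.Fx x _ hw
    rw [smul_inv_smul] at this
    rw [this]; exact hw
  · intro hw
    rw [h.Fx x⁻¹ w hw]; exact hw

omit [Finite X] [Finite W] in
theorem F_le (x : X) : F ≤ x • V := by
  rw [← h.F_smul x]
  exact AddSubgroup.pointwise_smul_le_pointwise_smul_iff.2 h.FV

omit [Finite X] [Finite W] in
theorem F_fx (A : Subgroup X) : F ≤ fx W A := fun f hf a _ => h.Fx a f hf

omit [Finite X] [Finite W] in
/-- (TI) for two lines -/
theorem ti' {x y : X} (hne : x • V ≠ y • V) : x • V ⊓ y • V ≤ F := by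
  have h1 : (x⁻¹ * y) • V ≠ V := by
    intro h0
    apply hne
    have := congrArg (fun U : AddSubgroup W => x • U) h0
    simp only [smul_smul, mul_inv_cancel_left] at this
    exact this.symm
  intro w hw
  have h2 : x⁻¹ • w ∈ F := by
    apply h.ti _ h1
    refine ⟨mem_smul.1 hw.1, ?_⟩
    have h3 : y⁻¹ • w ∈ V := mem_smul.1 hw.2
    have e : ((x⁻¹ * y)⁻¹ • x⁻¹ • w : W) = y⁻¹ • w := by
      rw [smul_smul]; congr 1; group
    exact mem_smul.2 (by rw [e]; exact h3)
  have h3 := h.Fx x _ h2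
  rw [smul_inv_smul] at h3
  rw [h3]; exact h2

omit [Finite X] [Finite W] in
/-- NF for the line `V^x` -/
theorem nff' (x : X) {A : Subgroup X} (hA : IsPGroup 2 A) (hAn : A ≤ nf X (x • V))
    (hsq : ∀ a ∈ A, ∀ v ∈ x • V, a • a • v = v) (hne : ¬ A ≤ cf X (x • V)) :
    Nat.card A * Nat.card ↥(x • V ⊓ fx W A) < Nat.card V * Nat.card ↥(A ⊓ cf X (x • V)) := by
  have h1 := h.nff (cj x⁻¹ A) (isPGroup_cj _ hA) (fun a ha => by
      rw [mem_cj, inv_inv] at ha
      have h2 := hAn ha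
      rw [nf_conj] at h2
      have e : x⁻¹ * (x * a * x⁻¹) * x = a := by group
      rwa [e] at h2) (fun a ha v hv => by
      rw [mem_cj, inv_inv] at ha
      have h2 := hsq _ ha _ (smul_mem' (x := x) hv)
      rw [smul_smul, smul_smul] at h2
      have e : x * a * x⁻¹ * (x * a * x⁻¹) * x = x * (a * a) := by group
      rw [e, mul_smul] at h2
      rw [smul_smul]
      exact smul_left_cancel x h2) (fun h0 => hne (fun a ha => by
      rw [cf_conj]
      have h2 := h0 (mem_cj_of (g := x⁻¹) ha)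
      rwa [inv_inv] at h2))
  rw [card_cj] at h1
  have e1 : Nat.card ↥(V ⊓ fx W (cj x⁻¹ A)) = Nat.card ↥(x • V ⊓ fx W A) := by
    refine (card_smul x fun v => ?_).symm
    constructor
    · rintro ⟨h2, h3⟩
      exact ⟨mem_smul.1 h2, smul_mem_fx_cj h3⟩
    · rintro ⟨h2, h3⟩
      have h3' := mem_fx_cj.1 h3
      rw [inv_inv, smul_inv_smul] at h3'
      exact ⟨mem_smul.2 h2, h3'⟩
  have e2 : Nat.card ↥(cj x⁻¹ A ⊓ cf X V) = Nat.card ↥(A ⊓ cf X (x • V)) := by
    have e3 : cj x⁻¹ A ⊓ cf X V = cj x⁻¹ (A ⊓ cf X (x • V)) := by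
      ext a
      rw [mem_cj, inv_inv, Subgroup.mem_inf, Subgroup.mem_inf, mem_cj, inv_inv, cf_conj]
      have e : x⁻¹ * (x * a * x⁻¹) * x = a := by group
      rw [e]
    rw [e3, card_cj]
  rw [e1, e2] at h1
  exact h1

/-- **(1)** a `BO` group which normalises a line centralises it. -/
theorem bo_cent {A : Subgroup X} (hA : BO W A) {x : X} (hx : A ≤ nf X (x • V)) : A ≤ cf X (x • V) := by
  by_contra hne
  have h1 := h.nff' x hA.ea.isPGroup hx (fun a ha v _ => by rw [smul_smul, hA.ea a ha, one_smul]) hne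
  set E := A ⊓ cf X (x • V) with hE
  have h2 := hA.le E inf_le_left
  have h3 : x • V ⊔ fx W A ≤ fx W E := by
    refine sup_le ?_ (fx_anti inf_le_left)
    exact le_cf.1 inf_le_right
  have h4 := card_sup_inf (x • V) (fx W A)
  have h5 := card_le h3
  rw [card_smul'] at h4
  rw [mm, mm] at h2
  have h6 : Nat.card V * Nat.card E ≤ Nat.card A * Nat.card ↥(x • V ⊓ fx W A) := by
    have p : 0 < Nat.card (fx W A) := Nat.card_pos
    refine Nat.le_of_mul_le_mul_right ?_ p
    calc Nat.card V * Nat.card E * Nat.card (fx W A) = Nat.card E * (Nat.card V * Nat.card (fx W A)) := by ring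
      _ = Nat.card E * (Nat.card ↥(x • V ⊔ fx W A) * Nat.card ↥(x • V ⊓ fx W A)) := by rw [h4]
      _ ≤ Nat.card E * (Nat.card (fx W E) * Nat.card ↥(x • V ⊓ fx W A)) :=
        Nat.mul_le_mul_left _ (Nat.mul_le_mul_right _ h5)
      _ = Nat.card E * Nat.card (fx W E) * Nat.card ↥(x • V ⊓ fx W A) := by ring
      _ ≤ Nat.card A * Nat.card (fx W A) * Nat.card ↥(x • V ⊓ fx W A) := Nat.mul_le_mul_right _ h2
      _ = _ := by ring
  exact absurd h1 (not_lt.2 h6)

omit h [Finite W] [Finite X] in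
theorem core_le (S : Sylow 2 X) : pCore 2 X ≤ (S : Subgroup X) := Lib.Cores.pCore_le_sylow S

omit [Finite W] in
theorem core_nf (x : X) : pCore 2 X ≤ nf X (x • V) := by
  intro q hq
  rw [nf_conj]
  have hn : (pCore 2 X).Normal := Lib.Cores.pCore_normal 2
  have h1 : x⁻¹ * q * x ∈ pCore 2 X := by
    have := hn.conj_mem q hq x⁻¹
    rwa [inv_inv] at this
  exact h.SV (core_le S h1)

omit [Finite X] [Finite W] in
/-- A subgroup which centralises all lines is trivial. -/
theorem eq_bot_of (hgen : Gen X V) {A : Subgroup X} (hA : ∀ x : X, A ≤ cf X (x • V)) : A = ⊥ := by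
  rw [Subgroup.eq_bot_iff_forall]
  intro a ha
  apply h.faith
  intro w
  have h1 : (⨆ x : X, x • V) ≤ fx W A := iSup_le fun x => le_cf.1 (hA x)
  rw [hgen] at h1
  exact h1 (AddSubgroup.mem_top w) a ha

/-- A `BO` group in `O₂(X)` is trivial. -/
theorem bo_eq_bot (hgen : Gen X V) {A : Subgroup X} (hA : BO W A) (hQ : A ≤ pCore 2 X) : A = ⊥ :=
  h.eq_bot_of hgen fun x => h.bo_cent hA (hQ.trans (h.core_nf x))

end Dat

/-- A `BO` group which is not contained in `O₂(X)`, strictly better than its proper subgroups. -/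
structure MB {X : Type*} [Group X] (W : Type*) [AddCommGroup W] [DistribMulAction X W] (B : Subgroup X) : Prop where
  bo : BO W B
  nle : ¬ B ≤ pCore 2 X
  lt : ∀ E : Subgroup X, E < B → E ≠ ⊥ → mm W E < mm W B

theorem exists_MB {X : Type*} [Group X] [Finite X] {W : Type*} [AddCommGroup W] [Finite W] [DistribMulAction X W]
    {S : Sylow 2 X} {V F : AddSubgroup W} (h : Dat S V F) (hgen : Gen X V)
    {A : Subgroup X} (hA : BO W A) (hnle : ¬ A ≤ pCore 2 X) : ∃ B ≤ A, MB W B := by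
  obtain ⟨B, hB, hmin⟩ := Set.exists_min_image {B : Subgroup X | B ≤ A ∧ BO W B ∧ ¬ B ≤ pCore 2 X}
    (fun A => Nat.card A) (Set.toFinite _) ⟨A, le_rfl, hA, hnle⟩
  refine ⟨B, hB.1, hB.2.1, hB.2.2, fun E hE hne => lt_of_le_of_ne (hB.2.1.le E hE.le) fun heq => ?_⟩
  have hbo : BO W E := ⟨hB.2.1.ea.mono hE.le, fun E' h' => by rw [heq]; exact hB.2.1.le E' (h'.trans hE.le)⟩
  by_cases hQ : E ≤ pCore 2 X
  · exact hne (h.bo_eq_bot hgen hbo hQ)
  · exact hE.ne (Subgroup.eq_of_le_of_card_ge hE.le (hmin E ⟨hE.le.trans hB.1, hbo, hQ⟩))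

namespace MB

variable {X : Type*} [Group X] [Finite X] {W : Type*} [AddCommGroup W] [Finite W] [DistribMulAction X W]
  {S : Sylow 2 X} {V F : AddSubgroup W} {B : Subgroup X} (m : MB W B) (h : Dat S V F)

include m in
omit [Finite X] [Finite W] in
theorem ne_bot : B ≠ ⊥ := fun h0 => m.nle (h0 ▸ bot_le)

include m h

/-- `f(E) ≤ f(B) / 2` for `1 ≠ E < B` -/
theorem two_mul {E : Subgroup X} (hE : E < B) (hne : E ≠ ⊥) : 2 * mm W E ≤ mm W B :=
  two_mul_le_of_pow (mm_pow h.two (m.bo.ea.mono hE.le)) (mm_pow h.two m.bo.ea) (m.lt E hE hne)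

omit [Finite X] [Finite W] h in
theorem card_le_mm : Nat.card W ≤ mm W B := by
  rw [← mm_bot (X := X) (V := W)]
  exact m.bo.le ⊥ bot_le

/-- `B` is quadratic. -/
theorem quad : ∀ a ∈ B, ∀ b ∈ B, ∀ w : W, b • (a • w - w) = a • w - w := by
  exact quad' h.two m.bo.ea m.ne_bot m.card_le_mm fun E hE hne => m.lt E hE hne

omit [Finite X] [Finite W] m in
/-- `C_{V^g}(b) ≤ F` if `b` moves the line `V^g` -/
theorem fe_inf {g b : X} (hb : b ∉ nf X (g • V)) : g • V ⊓ fe W b ≤ F := by
  rintro v ⟨h1, h2⟩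
  refine h.ti' (x := g) (y := b * g) ?_ ⟨h1, ?_⟩
  · intro h0
    apply hb
    rw [mem_nf, ← mul_smul]
    exact h0.symm
  · rw [mul_smul]
    have h3 := smul_mem' (x := b) h1
    have h4 : b • v = v := h2
    rwa [h4] at h3

omit [Finite X] [Finite W] m in
/-- **(2)** `C_{V^g}(B) ≤ F` -/
theorem fx_le {g : X} (hg : ¬ B ≤ nf X (g • V)) : g • V ⊓ fx W B ≤ F := by
  rw [SetLike.not_le_iff_exists] at hg
  obtain ⟨b, hb, hbn⟩ := hg
  exact (inf_le_inf_left _ (fx_le_fe hb)).trans (fe_inf h hbn)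

/-- **(2)** `[V^g, N_B(V^g)] ≤ F` -/
theorem comm_le {g : X} (hg : ¬ B ≤ nf X (g • V)) {b : X} (hb : b ∈ B) (hbg : b ∈ nf X (g • V)) {v : W}
    (hv : v ∈ g • V) : b • v - v ∈ F := by
  apply fx_le h hg
  exact ⟨AddSubgroup.sub_mem _ (nf_smul hbg hv) hv, fun c hc => m.quad h b hb c hc v⟩

/-- `[W, B ∩ O₂(X)] ≤ F` -/
theorem comm_core (hgen : Gen X V) {b : X} (hb : b ∈ B) (hbQ : b ∈ pCore 2 X) (w : W) : b • w - w ∈ F := by
  let K : AddSubgroup W :=
    { carrier := {w | b • w - w ∈ F}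
      zero_mem' := by
        show b • (0 : W) - 0 ∈ F
        rw [smul_zero, sub_zero]; exact F.zero_mem
      add_mem' := fun {v w} hv hw => by
        show b • (v + w) - (v + w) ∈ F
        have e : b • (v + w) - (v + w) = (b • v - v) + (b • w - w) := by rw [smul_add]; abel
        rw [e]; exact F.add_mem hv hw
      neg_mem' := fun {v} hv => by
        show b • (-v) - (-v) ∈ F
        have e : b • (-v) - (-v) = -(b • v - v) := by rw [smul_neg]; abel
        rw [e]; exact F.neg_mem hv }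
  have h1 : (⨆ x : X, x • V) ≤ K := by
    refine iSup_le fun x => ?_
    intro v hv
    show b • v - v ∈ F
    by_cases hx : B ≤ nf X (x • V)
    · have h2 := h.bo_cent m.bo hx hb v hv
      rw [h2, sub_self]; exact F.zero_mem
    · exact m.comm_le h hx hb (h.core_nf x hbQ) hv
  rw [hgen] at h1
  exact h1 (AddSubgroup.mem_top w)

end MB

end Cfsg.Agent.Omega.NO3b.Exit.TT
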