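import Cfsg.Agent.Omega.NO3b.Exit.TenIrr
import Cfsg.Agent.Omega.NO3b.Exit.BO

/-!
# From TIGHT to the M-side (#18319 (1), #18653; plug X-side → `Ten.Dat`)

* `nst M Q n` : `M`, `⟨Q^M⟩`, `⟨Q^{⟨Q^M⟩}⟩`, …; `sbc M Q = ⨅ n, nst M Q n` : the subnormal closure of `Q` in `M`;
  `sbc_gen`, `sbc_conj` (conjugation), `sbc_red` (`O₂(sbc M Q / C(V)) = 1` if `O₂(M / C_M(V)) = 1`);
* `MX M X D B V F g` : `H` acts faithfully on `U`, `M` stabilises `V`, `D ⊴ M`, `D ≤ X` centralises `V`, `B ≤ D`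
  quadratic, `X` centralises `F ≤ V` and the lines `x V ≠ V` meet `V` in `F`, `U = g V + C_U(B)`,
  `g V ∩ C_U(B) = F`, `g ∈ X`, some `1 ≠ y ∈ B` has `[U, y] ≤ F`, and the elements `x ∈ X` with `[U, x] ≤ F` lie in
  `M`;
* `KV M V = C_M(U / V)`, `FFq M F = {m ∈ M | [U, m] ≤ F, [F, m] = 0}`, `BBq M V B = ⟨B^{KV}⟩`;
* `MX.dat : Ten.Dat (sbc M (FFq M F)) (FFq M F) (BBq M V B) V F (g • V) (fx U B) g⁻¹`.
-/

set_option autoImplicit false

namespace Cfsg.Agent.Omega.NO3b.Exit.TDat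

open Subgroup
open Cfsg.Agent.Omega.FF.Basic
open Cfsg.Agent.Omega.NO3b.Exit.Ten (br br_def br_add br_mul br_one br_zero br_conj_smul br_eq_zero smul_eq)
open scoped Pointwise

universe u v

/-! ### The subnormal closure -/

section sbc

variable {H : Type u} [Group H]

/-- `M`, `⟨Q^M⟩`, … -/
def nst (M Q : Subgroup H) : ℕ → Subgroup H
  | 0 => M
  | n + 1 => closure {x | ∃ k ∈ nst M Q n, ∃ q ∈ Q, x = k * q * k⁻¹}

/-- The subnormal closure of `Q` in `M`. -/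
def sbc (M Q : Subgroup H) : Subgroup H := ⨅ n, nst M Q n

variable {M Q : Subgroup H}

theorem le_nst (hQ : Q ≤ M) (n : ℕ) : Q ≤ nst M Q n := by
  cases n with
  | zero => exact hQ
  | succ n => exact fun q hq => subset_closure ⟨1, one_mem _, q, hq, by group⟩

theorem nst_succ_le (hQ : Q ≤ M) (n : ℕ) : nst M Q (n + 1) ≤ nst M Q n := by
  refine (closure_le _).2 ?_
  rintro _ ⟨k, hk, q, hq, rfl⟩
  exact mul_mem (mul_mem hk (le_nst hQ n hq)) (inv_mem hk)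

theorem nst_anti (hQ : Q ≤ M) : Antitone (nst M Q) := antitone_nat_of_succ_le (nst_succ_le hQ)

theorem nst_norm (n : ℕ) {k x : H} (hk : k ∈ nst M Q n) (hx : x ∈ nst M Q (n + 1)) :
    k * x * k⁻¹ ∈ nst M Q (n + 1) := by
  change x ∈ Subgroup.closure _ at hx
  induction hx using closure_induction with
  | mem x hx =>
    obtain ⟨l, hl, q, hq, rfl⟩ := hx
    exact subset_closure ⟨k * l, mul_mem hk hl, q, hq, by group⟩
  | one => rw [mul_one, mul_inv_cancel]; exact one_mem _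
  | mul x y _ _ hx hy =>
    have e : k * (x * y) * k⁻¹ = k * x * k⁻¹ * (k * y * k⁻¹) := by group
    rw [e]; exact mul_mem hx hy
  | inv x _ hx =>
    have e : k * x⁻¹ * k⁻¹ = (k * x * k⁻¹)⁻¹ := by group
    rw [e]; exact inv_mem hx

theorem le_sbc (hQ : Q ≤ M) : Q ≤ sbc M Q := le_iInf fun n => le_nst hQ n

theorem sbc_le_nst (n : ℕ) : sbc M Q ≤ nst M Q n := iInf_le _ n

theorem sbc_le : sbc M Q ≤ M := sbc_le_nst 0

theorem exists_stab [Finite H] (hQ : Q ≤ M) : ∃ n, sbc M Q = nst M Q n ∧ nst M Q (n + 1) = nst M Q n := by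
  obtain ⟨n, hn⟩ := WellFoundedGT.monotone_chain_condition (α := (Subgroup H)ᵒᵈ)
    ⟨fun n => OrderDual.toDual (nst M Q n), fun _ _ h => nst_anti hQ h⟩
  have h1 : ∀ m, n ≤ m → nst M Q n = nst M Q m := fun m hm => hn m hm
  refine ⟨n, le_antisymm (sbc_le_nst n) (le_iInf fun m => ?_), (h1 (n + 1) (Nat.le_succ n)).symm⟩
  rcases le_total n m with h | h
  · exact (h1 m h).le
  · exact nst_anti hQ h

/-- the normal closure of `Q` in `sbc M Q` is `sbc M Q` -/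
theorem sbc_gen [Finite H] (hQ : Q ≤ M) {N : Subgroup H} (hN : ∀ k ∈ sbc M Q, ∀ n ∈ N, k * n * k⁻¹ ∈ N)
    (hQN : Q ≤ N) : sbc M Q ≤ N := by
  obtain ⟨n, h1, h2⟩ := exists_stab hQ
  rw [h1, ← h2]
  refine (closure_le _).2 ?_
  rintro _ ⟨k, hk, q, hq, rfl⟩
  exact hN k (by rw [h1]; exact hk) q (hQN hq)

/-- `nst` and conjugation -/
theorem nst_conj {k : H} (hkM : ∀ m ∈ M, k * m * k⁻¹ ∈ M) {Q' : Subgroup H} (hQ : ∀ q ∈ Q, k * q * k⁻¹ ∈ Q') (n : ℕ)
    {x : H} (hx : x ∈ nst M Q n) : k * x * k⁻¹ ∈ nst M Q' n := by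
  induction n generalizing x with
  | zero => exact hkM x hx
  | succ n ih =>
    change x ∈ Subgroup.closure _ at hx
    induction hx using closure_induction with
    | mem x hx =>
      obtain ⟨l, hl, q, hq, rfl⟩ := hx
      exact subset_closure ⟨k * l * k⁻¹, ih hl, k * q * k⁻¹, hQ q hq, by group⟩
    | one => rw [mul_one, mul_inv_cancel]; exact one_mem _
    | mul x y _ _ hx hy =>
      have e : k * (x * y) * k⁻¹ = k * x * k⁻¹ * (k * y * k⁻¹) := by group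
      rw [e]; exact mul_mem hx hy
    | inv x _ hx =>
      have e : k * x⁻¹ * k⁻¹ = (k * x * k⁻¹)⁻¹ := by group
      rw [e]; exact inv_mem hx

theorem sbc_conj {k : H} (hkM : ∀ m ∈ M, k * m * k⁻¹ ∈ M) {Q' : Subgroup H} (hQ : ∀ q ∈ Q, k * q * k⁻¹ ∈ Q')
    {x : H} (hx : x ∈ sbc M Q) : k * x * k⁻¹ ∈ sbc M Q' :=
  mem_iInf.2 fun n => nst_conj hkM hQ n (mem_iInf.1 hx n)

/-- `sbc` is monotone in `Q`. -/
theorem nst_mono {Q' : Subgroup H} (hQ : Q ≤ Q') (n : ℕ) : nst M Q n ≤ nst M Q' n := by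
  induction n with
  | zero => exact le_rfl
  | succ n ih =>
    refine closure_mono ?_
    rintro _ ⟨k, hk, q, hq, rfl⟩
    exact ⟨k, ih hk, q, hQ hq, rfl⟩

theorem sbc_mono {Q' : Subgroup H} (hQ : Q ≤ Q') : sbc M Q ≤ sbc M Q' := iInf_mono fun n => nst_mono hQ n

/-- a normal subgroup of `M` containing `Q` contains `sbc M Q` -/
theorem sbc_le_of_normal {N : Subgroup H} (hN : ∀ k ∈ M, ∀ n ∈ N, k * n * k⁻¹ ∈ N) (hQN : Q ≤ N) :
    sbc M Q ≤ N := by
  refine (sbc_le_nst 1).trans ((closure_le _).2 ?_)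
  rintro _ ⟨k, hk, q, hq, rfl⟩
  exact hN k hk q (hQN hq)

end sbc

/-! ### `O₂(M / C_M(V)) = 1` -/

section red

variable {H : Type u} {U : Type v} [Group H] [AddCommGroup U] [DistribMulAction H U]

/-- `O₂(M / C_M(V)) = 1` -/
def Red (M : Subgroup H) (V : AddSubgroup U) : Prop :=
  ∀ N : Subgroup H, N ≤ M → (∀ k ∈ M, ∀ n ∈ N, k * n * k⁻¹ ∈ N) →
    (∀ n ∈ N, ∃ j : ℕ, ∀ v ∈ V, n ^ 2 ^ j • v = v) → ∀ n ∈ N, ∀ v ∈ V, n • v = v

/-- a normal subgroup inherits `Red` -/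
theorem Red.normal [Finite H] {M M' : Subgroup H} {V : AddSubgroup U} (hr : Red M V)
    (hV : ∀ m ∈ M, ∀ v ∈ V, m • v ∈ V) (hle : M' ≤ M) (hn : ∀ k ∈ M, ∀ n ∈ M', k * n * k⁻¹ ∈ M') : Red M' V := by
  classical
  have : Fact (Nat.Prime 2) := ⟨Nat.prime_two⟩
  -- the set of normal subgroups of `M'` which act as 2-groups
  let 𝒩 : Set (Subgroup H) := {N | N ≤ M' ∧ (∀ k ∈ M', ∀ n ∈ N, k * n * k⁻¹ ∈ N) ∧
    ∀ n ∈ N, ∃ j : ℕ, ∀ v ∈ V, n ^ 2 ^ j • v = v}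
  have hbot : (⊥ : Subgroup H) ∈ 𝒩 := by
    refine ⟨bot_le, fun k _ n hn => ?_, fun n hn => ⟨0, fun v _ => ?_⟩⟩
    · rw [mem_bot] at hn ⊢; rw [hn]; group
    · rw [mem_bot] at hn; rw [hn, one_pow, one_smul]
  -- closed under sup
  have hsup : ∀ N₁ ∈ 𝒩, ∀ N₂ ∈ 𝒩, N₁ ⊔ N₂ ∈ 𝒩 := by
    rintro N₁ ⟨a1, a2, a3⟩ N₂ ⟨b1, b2, b3⟩
    have hle' : N₁ ⊔ N₂ ≤ M' := sup_le a1 b1
    have hnn : N₁ ≤ normalizer (N₂ : Set H) := by
      intro x hx
      rw [mem_normalizer_iff]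
      intro y
      refine ⟨fun hy => b2 x (a1 hx) y hy, fun hy => ?_⟩
      have h1 := b2 x⁻¹ (inv_mem (a1 hx)) _ hy
      have e : x⁻¹ * (x * y * x⁻¹) * x⁻¹⁻¹ = y := by group
      rwa [e] at h1
    refine ⟨hle', ?_, ?_⟩
    · intro k hk n hn'
      have h1 : N₁ ⊔ N₂ ≤ (N₁ ⊔ N₂).comap (MulAut.conj k).toMonoidHom := by
        refine sup_le (fun x hx => ?_) fun x hx => ?_
        · exact (le_sup_left : N₁ ≤ N₁ ⊔ N₂) (a2 k hk x hx)
        · exact (le_sup_right : N₂ ≤ N₁ ⊔ N₂) (b2 k hk x hx)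
      exact h1 hn'
    · -- the action as a homomorphism from the stabiliser
      let P : Subgroup H := N₁ ⊔ N₂
      let C : Subgroup P :=
        { carrier := {x | ∀ v ∈ V, (x : H) • v = v}
          one_mem' := fun v _ => one_smul _ v
          mul_mem' := fun {a b} ha hb v hv => by
            rw [Subgroup.coe_mul, mul_smul, hb v hv, ha v hv]
          inv_mem' := fun {a} ha v hv => by
            rw [Subgroup.coe_inv, inv_smul_eq_iff, ha v hv] }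
      have hC : C.Normal := by
        constructor
        intro n hn g v hv
        have hg : ((g : H))⁻¹ • v ∈ V := hV _ (inv_mem (hle (hle' g.2))) v hv
        have e : ((g * n * g⁻¹ : P) : H) • v = (g : H) • (n : H) • (g : H)⁻¹ • v := by
          rw [Subgroup.coe_mul, Subgroup.coe_mul, Subgroup.coe_inv, mul_smul, mul_smul]
        rw [e, hn _ hg, smul_inv_smul]
      have key : ∀ (N : Subgroup H) (hNP : N ≤ P), (∀ n ∈ N, ∃ j : ℕ, ∀ v ∈ V, n ^ 2 ^ j • v = v) →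
          IsPGroup 2 ((N.subgroupOf P).map (QuotientGroup.mk' C)) := by
        rintro N hNP hN ⟨_, ⟨x, hx, rfl⟩⟩
        obtain ⟨j, hj⟩ := hN x hx
        refine ⟨j, Subtype.ext ?_⟩
        rw [Subgroup.coe_pow, Subgroup.coe_one]
        change (QuotientGroup.mk' C x) ^ 2 ^ j = 1
        rw [← map_pow, QuotientGroup.mk'_apply, QuotientGroup.eq_one_iff]
        intro v hv
        rw [Subgroup.coe_pow]
        exact hj v hv
      have k1 := key N₁ le_sup_left a3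
      have k2 := key N₂ le_sup_right b3
      have k3 : IsPGroup 2 (((N₁.subgroupOf P).map (QuotientGroup.mk' C) ⊔
          (N₂.subgroupOf P).map (QuotientGroup.mk' C) : Subgroup (P ⧸ C))) := by
        have hN2 : (N₂.subgroupOf P).Normal := ⟨fun n hn g => by
          rw [mem_subgroupOf] at hn ⊢
          exact b2 g (hle' g.2) n hn⟩
        have := hN2.map (QuotientGroup.mk' C) (QuotientGroup.mk'_surjective C)
        exact IsPGroup.to_sup_of_normal_right k1 k2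
      rw [← Subgroup.map_sup] at k3
      have k4 : N₁.subgroupOf P ⊔ N₂.subgroupOf P = ⊤ := by
        rw [← subgroupOf_sup (le_sup_left : N₁ ≤ P) (le_sup_right : N₂ ≤ P), subgroupOf_self]
      rw [k4] at k3
      intro n hn'
      obtain ⟨j, hj⟩ := k3 ⟨QuotientGroup.mk' C ⟨n, hn'⟩, ⟨⟨n, hn'⟩, trivial, rfl⟩⟩
      refine ⟨j, fun v hv => ?_⟩
      have h1 := congrArg Subtype.val hj
      rw [Subgroup.coe_pow, Subgroup.coe_one] at h1
      change (QuotientGroup.mk' C ⟨n, hn'⟩) ^ 2 ^ j = 1 at h1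
      rw [← map_pow, QuotientGroup.mk'_apply, QuotientGroup.eq_one_iff] at h1
      have h2 := h1 v hv
      rwa [Subgroup.coe_pow] at h2
  obtain ⟨R, hR, hmax⟩ := Set.exists_max_image 𝒩 (fun N => Nat.card N) (Set.toFinite _) ⟨⊥, hbot⟩
  have hall : ∀ N ∈ 𝒩, N ≤ R := by
    intro N hN
    have h1 := hmax _ (hsup N hN R hR)
    have h2 : R = N ⊔ R := Subgroup.eq_of_le_of_card_ge le_sup_right h1
    rw [h2]; exact le_sup_left
  -- `R` is normalised by `M`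
  have hRM : ∀ k ∈ M, ∀ n ∈ R, k * n * k⁻¹ ∈ R := by
    intro k hk n hn'
    have h1 : R.map (MulAut.conj k).toMonoidHom ∈ 𝒩 := by
      refine ⟨?_, ?_, ?_⟩
      · rintro _ ⟨x, hx, rfl⟩
        exact hn k hk x (hR.1 hx)
      · rintro l hl _ ⟨x, hx, rfl⟩
        refine ⟨k⁻¹ * l * k * x * (k⁻¹ * l * k)⁻¹, ?_, ?_⟩
        · refine hR.2.1 _ ?_ x hx
          have := hn k⁻¹ (inv_mem hk) l hl
          rwa [inv_inv] at this
        · simp only [MulEquiv.coe_toMonoidHom, MulAut.conj_apply]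
          group
      · rintro _ ⟨x, hx, rfl⟩
        obtain ⟨j, hj⟩ := hR.2.2 x hx
        refine ⟨j, fun v hv => ?_⟩
        have e : (MulAut.conj k).toMonoidHom x ^ 2 ^ j • v = k • (x ^ 2 ^ j) • k⁻¹ • v := by
          have e1 : (MulAut.conj k).toMonoidHom x ^ 2 ^ j = k * x ^ 2 ^ j * k⁻¹ := by
            rw [← map_pow]; rfl
          rw [e1, mul_smul, mul_smul]
        rw [e, hj _ (hV _ (inv_mem hk) v hv), smul_inv_smul]
    exact hall _ h1 ⟨n, hn', rfl⟩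
  intro N hN1 hN2 hN3 n hn'
  exact hr R (hR.1.trans hle) hRM hR.2.2 n (hall N ⟨hN1, hN2, hN3⟩ hn')

theorem Red.nst [Finite H] {M Q : Subgroup H} {V : AddSubgroup U} (hr : Red M V)
    (hV : ∀ m ∈ M, ∀ v ∈ V, m • v ∈ V) (hQ : Q ≤ M) (n : ℕ) : Red (nst M Q n) V := by
  induction n with
  | zero => exact hr
  | succ n ih =>
    exact ih.normal (fun m hm v hv => hV m (nst_anti hQ (Nat.zero_le n) hm) v hv) (nst_succ_le hQ n)
      fun k hk x hx => nst_norm n hk hx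

theorem Red.sbc [Finite H] {M Q : Subgroup H} {V : AddSubgroup U} (hr : Red M V)
    (hV : ∀ m ∈ M, ∀ v ∈ V, m • v ∈ V) (hQ : Q ≤ M) : Red (sbc M Q) V := by
  obtain ⟨n, h1, -⟩ := exists_stab hQ
  rw [h1]; exact hr.nst hV hQ n

end red

/-! ### The M-side frame -/

section mx

variable {H : Type u} {U : Type v} [Group H] [AddCommGroup U] [DistribMulAction H U]

/-- `C_M(U / V)` -/
def KV (M : Subgroup H) (V : AddSubgroup U) (hV : ∀ m ∈ M, ∀ v ∈ V, m • v ∈ V) : Subgroup H where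
  carrier := {m | m ∈ M ∧ ∀ u : U, br m u ∈ V}
  one_mem' := ⟨one_mem _, fun u => by rw [br_one]; exact zero_mem _⟩
  mul_mem' := by
    rintro a b ⟨ha, ha'⟩ ⟨hb, hb'⟩
    refine ⟨mul_mem ha hb, fun u => ?_⟩
    rw [br_mul]
    exact V.add_mem (V.add_mem (ha' _) (hb' u)) (ha' u)
  inv_mem' := by
    rintro a ⟨ha, ha'⟩
    refine ⟨inv_mem ha, fun u => ?_⟩
    have e : br a⁻¹ u = - (a⁻¹ • br a u) := by
      simp only [br_def, smul_sub, inv_smul_smul]; abel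
    rw [e]
    exact V.neg_mem (hV _ (inv_mem ha) _ (ha' u))

/-- `{m ∈ M | [U, m] ≤ F, [F, m] = 0}` -/
def FFq (M : Subgroup H) (F : AddSubgroup U) : Subgroup H where
  carrier := {m | m ∈ M ∧ (∀ u : U, br m u ∈ F) ∧ ∀ f ∈ F, m • f = f}
  one_mem' := ⟨one_mem _, fun u => by rw [br_one]; exact zero_mem _, fun f _ => one_smul _ f⟩
  mul_mem' := by
    rintro a b ⟨ha, ha', ha''⟩ ⟨hb, hb', hb''⟩
    refine ⟨mul_mem ha hb, fun u => ?_, fun f hf => ?_⟩
    · rw [br_mul]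
      exact F.add_mem (F.add_mem (ha' _) (hb' u)) (ha' u)
    · rw [mul_smul, hb'' f hf, ha'' f hf]
  inv_mem' := by
    rintro a ⟨ha, ha', ha''⟩
    have h1 : ∀ f ∈ F, a⁻¹ • f = f := fun f hf => by rw [inv_smul_eq_iff, ha'' f hf]
    refine ⟨inv_mem ha, fun u => ?_, h1⟩
    have e : br a⁻¹ u = - (a⁻¹ • br a u) := by
      simp only [br_def, smul_sub, inv_smul_smul]; abel
    rw [e, h1 _ (ha' u)]
    exact F.neg_mem (ha' u)

theorem mem_FFq {M : Subgroup H} {F : AddSubgroup U} {m : H} :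
    m ∈ FFq M F ↔ m ∈ M ∧ (∀ u : U, br m u ∈ F) ∧ ∀ f ∈ F, m • f = f := Iff.rfl

/-- `⟨B^K⟩` -/
def ncl (K B : Subgroup H) : Subgroup H := closure {x | ∃ k ∈ K, ∃ b ∈ B, x = k * b * k⁻¹}

theorem le_ncl (K B : Subgroup H) : B ≤ ncl K B := fun b hb => subset_closure ⟨1, one_mem _, b, hb, by group⟩

theorem ncl_conj {K B : Subgroup H} {k x : H} (hk : k ∈ K) (hx : x ∈ ncl K B) : k * x * k⁻¹ ∈ ncl K B := by
  unfold ncl at hx
  induction hx using closure_induction with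
  | mem x hx =>
    obtain ⟨l, hl, q, hq, rfl⟩ := hx
    exact subset_closure ⟨k * l, mul_mem hk hl, q, hq, by group⟩
  | one => rw [mul_one, mul_inv_cancel]; exact one_mem _
  | mul x y _ _ hx hy =>
    have e : k * (x * y) * k⁻¹ = k * x * k⁻¹ * (k * y * k⁻¹) := by group
    rw [e]; exact mul_mem hx hy
  | inv x _ hx =>
    have e : k * x⁻¹ * k⁻¹ = (k * x * k⁻¹)⁻¹ := by group
    rw [e]; exact inv_mem hx

/-- The frame of #18653. -/
structure MX (M X D B : Subgroup H) (V F : AddSubgroup U) (g : H) : Prop where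
  faith : ∀ y : H, (∀ u : U, y • u = u) → y = 1
  two : ∀ u : U, u + u = 0
  MV : ∀ m ∈ M, ∀ v ∈ V, m • v ∈ V
  FV : F ≤ V
  Fx : ∀ x ∈ X, ∀ f ∈ F, x • f = f
  ti : ∀ x ∈ X, x • V ≠ V → V ⊓ x • V ≤ F
  gX : g ∈ X
  DX : D ≤ X
  BD : B ≤ D
  MD : ∀ m ∈ M, ∀ d ∈ D, m * d * m⁻¹ ∈ D
  DV : ∀ d ∈ D, ∀ v ∈ V, d • v = v
  quad : ∀ a ∈ B, ∀ b ∈ B, ∀ u : U, b • (a • u - u) = a • u - u
  sup : g • V ⊔ fx U B = ⊤
  inf : g • V ⊓ fx U B ≤ F
  ne : ∃ y ∈ B, y ≠ 1 ∧ ∀ u : U, y • u - u ∈ F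
  RM : ∀ x ∈ X, (∀ u : U, x • u - u ∈ F) → x ∈ M
  red : Red M V

namespace MX

variable {M X D B : Subgroup H} {V F : AddSubgroup U} {g : H} (h : MX M X D B V F g)
include h

/-- `K_V` -/
theorem mem_KV {k : H} : k ∈ KV M V h.MV ↔ k ∈ M ∧ ∀ u : U, br k u ∈ V := Iff.rfl

theorem V_le_C : V ≤ fx U B := fun v hv b hb => h.DV b (h.BD hb) v hv

theorem F_le_C : F ≤ fx U B := h.FV.trans h.V_le_C

omit h in
theorem FFq_le_M : FFq M F ≤ M := fun _ hm => hm.1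

theorem FFq_le_KV : FFq M F ≤ KV M V h.MV := fun _ hm => ⟨hm.1, fun u => h.FV (hm.2.1 u)⟩

theorem KV_norm {m k : H} (hm : m ∈ M) (hk : k ∈ KV M V h.MV) : m * k * m⁻¹ ∈ KV M V h.MV := by
  refine ⟨mul_mem (mul_mem hm hk.1) (inv_mem hm), fun u => ?_⟩
  have e : u = m • (m⁻¹ • u) := (smul_inv_smul m u).symm
  rw [e, br_conj_smul]
  exact h.MV m hm _ (hk.2 _)

theorem sbc_le_KV : sbc M (FFq M F) ≤ KV M V h.MV :=
  sbc_le_of_normal (fun _ hk _ hn => h.KV_norm hk hn) h.FFq_le_KV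

theorem ncl_le_D : ncl (KV M V h.MV) B ≤ D := by
  refine (closure_le _).2 ?_
  rintro _ ⟨k, hk, b, hb, rfl⟩
  exact h.MD k hk.1 b (h.BD hb)

/-- `C_U(B)` is `K_V`-invariant -/
theorem KV_C {k : H} (hk : k ∈ KV M V h.MV) {c : U} (hc : c ∈ fx U B) : k • c ∈ fx U B := by
  rw [smul_eq]
  exact (fx U B).add_mem (h.V_le_C (hk.2 c)) hc

/-- `BB = ⟨B^{K_V}⟩` is trivial on `C` and on `U / C` -/
theorem ncl_C {y : H} (hy : y ∈ ncl (KV M V h.MV) B) :
    (∀ c ∈ fx U B, y • c = c) ∧ ∀ u : U, br y u ∈ fx U B := by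
  unfold ncl at hy
  induction hy using closure_induction with
  | mem x hx =>
    obtain ⟨k, hk, b, hb, rfl⟩ := hx
    have hk' : k⁻¹ ∈ KV M V h.MV := inv_mem hk
    refine ⟨fun c hc => ?_, fun u => ?_⟩
    · rw [mul_smul, mul_smul, h.KV_C hk' hc b hb, smul_inv_smul]
    · have e : u = k • (k⁻¹ • u) := (smul_inv_smul k u).symm
      rw [e, br_conj_smul]
      exact h.KV_C hk fun b' hb' => h.quad b hb b' hb' _
  | one => exact ⟨fun c _ => one_smul _ c, fun u => by rw [br_one]; exact zero_mem _⟩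
  | mul x y _ _ hx hy =>
    refine ⟨fun c hc => by rw [mul_smul, hy.1 c hc, hx.1 c hc], fun u => ?_⟩
    rw [br_mul]
    exact (fx U B).add_mem ((fx U B).add_mem (hx.2 _) (hy.2 u)) (hx.2 u)
  | inv x _ hx =>
    have h1 : ∀ c ∈ fx U B, x⁻¹ • c = c := fun c hc => by rw [inv_smul_eq_iff, hx.1 c hc]
    refine ⟨h1, fun u => ?_⟩
    have e : br x⁻¹ u = - (x⁻¹ • br x u) := by
      simp only [br_def, smul_sub, inv_smul_smul]; abel
    rw [e, h1 _ (hx.2 u)]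
    exact (fx U B).neg_mem (hx.2 u)

theorem F_le_L : F ≤ g • V := by
  intro f hf
  rw [TT.mem_smul]
  have h1 : g⁻¹ • f = f := by rw [inv_smul_eq_iff, h.Fx g h.gX f hf]
  rw [h1]; exact h.FV hf

theorem exists_sup (u : U) : ∃ l ∈ g • V, ∃ c ∈ fx U B, u = l + c := by
  have h1 : u ∈ g • V ⊔ fx U B := by rw [h.sup]; trivial
  obtain ⟨l, hl, c, hc, e⟩ := AddSubgroup.mem_sup.1 h1
  exact ⟨l, hl, c, hc, e.symm⟩

/-- an element of `X` trivial on `C` and on `U / C` which does not move `g V` -/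
theorem mov {y : H} (hyX : y ∈ X) (hC : ∀ c ∈ fx U B, y • c = c) (hU : ∀ u : U, br y u ∈ fx U B) :
    (∀ u : U, br y u ∈ F) ∨ ∀ l ∈ g • V, br y l ∈ g • V → l ∈ F := by
  by_cases hy : y • g • V = g • V
  · left
    intro u
    obtain ⟨l, hl, c, hc, rfl⟩ := h.exists_sup u
    rw [br_add, br_eq_zero.2 (hC c hc), add_zero]
    refine h.inf ⟨?_, hU l⟩
    rw [br_def]
    refine (g • V).sub_mem ?_ hl
    have h1 : y • l ∈ y • g • V := TT.smul_mem' hl
    rwa [hy] at h1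
  · right
    intro l hl hb
    have h1 : y • l ∈ g • V := by
      rw [smul_eq]; exact (g • V).add_mem hb hl
    have h2 : y • l ∈ y • g • V := TT.smul_mem' hl
    -- move back by `g`
    have hg : (g⁻¹ * y * g) ∈ X := mul_mem (mul_mem (inv_mem h.gX) hyX) h.gX
    have hne : (g⁻¹ * y * g) • V ≠ V := by
      intro h0
      apply hy
      have e : y • g • V = g • (g⁻¹ * y * g) • V := by
        rw [smul_smul, smul_smul]; congr 1; group
      rw [e, h0]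
    have h3 : g⁻¹ • y • l ∈ F := by
      have e : (g⁻¹ * y * g)⁻¹ • g⁻¹ • y • l = g⁻¹ • l := by
        rw [smul_smul, smul_smul]; congr 1; group
      refine h.ti _ hg hne ⟨TT.mem_smul.1 h1, TT.mem_smul.2 ?_⟩
      rw [e]; exact TT.mem_smul.1 hl
    have h4 : y • l ∈ F := by
      have h5 := h.Fx g h.gX _ h3
      rw [smul_inv_smul] at h5
      rw [h5]; exact h3
    have h5 := h.Fx y⁻¹ (inv_mem hyX) _ h4
    rw [inv_smul_smul] at h5
    rw [h5]; exact h4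

/-- **The plug.** -/
theorem dat [Finite H] : Ten.Dat (sbc M (FFq M F)) (FFq M F) (ncl (KV M V h.MV) B) V F (g • V) (fx U B) g⁻¹ where
  faith := h.faith
  two := h.two
  FV := h.FV
  VC := h.V_le_C
  FL := h.F_le_L
  LC := h.exists_sup
  LF := fun u hu hc => h.inf ⟨hu, hc⟩
  bC := fun y hy c hc => (h.ncl_C hy).1 c hc
  bU := fun y hy u => (h.ncl_C hy).2 u
  mov := fun y hy => h.mov (h.DX (h.ncl_le_D hy)) (h.ncl_C hy).1 (h.ncl_C hy).2
  yB := fun k hk b hb => ncl_conj (h.sbc_le_KV hk) hb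
  yV := fun k hk u => (h.sbc_le_KV hk).2 u
  QY := le_sbc FFq_le_M
  qF := fun d hd => hd.2.2
  qU := fun d hd => hd.2.1
  hL := fun l hl => TT.mem_smul.1 hl
  hV := fun v hv => by rw [inv_inv]; exact TT.smul_mem' hv
  hF := fun f hf => by rw [inv_smul_eq_iff, h.Fx g h.gX f hf]
  hA := fun y hy hyF => by
    have hyX : y ∈ X := h.DX (h.ncl_le_D hy)
    have hgX : g⁻¹ * y * g⁻¹⁻¹ ∈ X := by
      rw [inv_inv]; exact mul_mem (mul_mem (inv_mem h.gX) hyX) h.gX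
    have hU : ∀ u : U, br (g⁻¹ * y * g⁻¹⁻¹) u ∈ F := by
      intro u
      have e : u = g⁻¹ • (g • u) := (inv_smul_smul g u).symm
      rw [e, br_conj_smul]
      have h1 : g⁻¹ • br y (g • u) = br y (g • u) := by
        rw [inv_smul_eq_iff, h.Fx g h.gX _ (hyF _)]
      rw [h1]; exact hyF _
    exact ⟨h.RM _ hgX hU, hU, fun f hf => h.Fx _ hgX f hf⟩
  ne := by
    obtain ⟨y, hy, hy1, hyF⟩ := h.ne
    exact ⟨y, le_ncl _ _ hy, hy1, hyF⟩
  gen := fun N _ hN hQN => sbc_gen FFq_le_M hN hQN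
  red := h.red.sbc h.MV FFq_le_M

end MX

end mx

end Cfsg.Agent.Omega.NO3b.Exit.TDat
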