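import Cfsg.Agent.Omega.NO3b.Exit.TightBlk
import Cfsg.Agent.Omega.NO3b.Exit.TightDat

/-!
# `MX` (957) → `Blk`

* `Sn.inf`, `sn_sbc` : `sbc M Q` is subnormal in `M`, and in every `K` with `sbc M Q ≤ K ≤ M`;
* `blk` : `MX M X D B V F g` together with `S`, `O` gives `Blk`.
-/

set_option autoImplicit false

namespace Cfsg.Agent.Omega.NO3b.Exit.TBlk

open Subgroup TDat
open Cfsg.Agent.Omega.FF.Basic
open scoped Pointwise

universe u v

theorem Sn.inf {H : Type u} [Group H] {Y K : Subgroup H} (h : Sn Y K) (L : Subgroup H) : Sn (Y ⊓ L) (K ⊓ L) := by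
  induction h with
  | refl => exact Sn.refl
  | step _ h1 h2 ih =>
    exact ih.step (inf_le_inf_right _ h1) fun k hk n hn =>
      mem_inf.2 ⟨h2 k hk.1 n hn.1, mul_mem (mul_mem hk.2 hn.2) (inv_mem hk.2)⟩

theorem sn_sbc {H : Type u} [Group H] [Finite H] {M Q : Subgroup H} (hQ : Q ≤ M) : Sn (sbc M Q) M := by
  obtain ⟨n, h1, -⟩ := exists_stab hQ
  rw [h1]
  have key : ∀ j i, i + j = n → Sn (nst M Q n) (nst M Q i) := by
    intro j
    induction j with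
    | zero =>
      intro i hi
      obtain rfl : i = n := by omega
      exact Sn.refl
    | succ j ih =>
      intro i hi
      exact (ih (i + 1) (by omega)).step (nst_succ_le hQ i) fun k hk x hx => nst_norm i hk hx
  exact key n 0 (by omega)

theorem sn_sbc_of_le {H : Type u} [Group H] [Finite H] {M Q K : Subgroup H} (hQ : Q ≤ M) (h1 : sbc M Q ≤ K)
    (h2 : K ≤ M) : Sn (sbc M Q) K := by
  have h := (sn_sbc hQ).inf K
  rwa [inf_eq_left.2 h1, inf_eq_right.2 h2] at h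

/-- The plug. -/
theorem blk {H : Type u} {U : Type v} [Group H] [Finite H] [AddCommGroup U] [DistribMulAction H U]
    {M X D B : Subgroup H} {V F : AddSubgroup U} {g : H} (h : MX M X D B V F g) {S O : Subgroup H} (SM : S ≤ M)
    (S2 : IsPGroup 2 S) (syl : ¬ 2 ∣ S.relIndex M)
    (gen : ∀ W : AddSubgroup U, (∀ m ∈ M, ∀ w ∈ W, m • w ∈ W) → (∀ v ∈ V, (∀ s ∈ S, s • v = v) → v ∈ W) → V ≤ W)
    (OM : O ≤ M)
    (pr : ∃ m ∈ M, ∀ N : Subgroup H, N ≤ M → (∀ q ∈ FFq M F, m * q * m⁻¹ ∈ N) → (∀ o ∈ O, ∀ n ∈ N, o * n * o⁻¹ ∈ N) →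
      (∀ s ∈ S, ∀ n ∈ N, s * n * s⁻¹ ∈ N) → O ≤ N)
    (cz : ∀ z ∈ V, (∀ s ∈ S, s • z = z) → (∀ o ∈ O, o • z = z) → z = 0) :
    Blk (sbc M (FFq M F)) (FFq M F) (ncl (KV M V h.MV) B) V F (g • V) (fx U B) g⁻¹ M (KV M V h.MV) S O where
  dat := h.dat
  KM := fun _ hk => hk.1
  nK := fun _ hm _ hk => h.KV_norm hm hk
  mV := h.MV
  kV := fun _ hk => hk.2
  kB := fun _ hk _ hb => ncl_conj hk hb
  sn := sn_sbc_of_le MX.FFq_le_M h.sbc_le_KV fun _ hk => hk.1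
  SM := SM
  S2 := S2
  syl := syl
  gen := gen
  OM := OM
  pr := pr
  cz := cz

end Cfsg.Agent.Omega.NO3b.Exit.TBlk
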