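import Cfsg.Agent.Omega.NO3b.Wc.Alt
import Cfsg.Agent.Omega.NO3b.K0.FullOff
import Cfsg.Agent.Omega.NOne.Flat.Off
import Cfsg.Agent.Omega.NOne.LemmaT

/-!
# The local exit of NotFF, `V` maximal (#17095 (1), (2), helper58; #17287, helper37)

`S` a Sylow 2-subgroup, `L` in the role of `P` (`Wc.Root S L`), `G` of characteristic 2 type.

* `Adm S L B` : `B ≤ C_S(V_L)` is weakly closed in `S`, `V = zl S (N_G(B))` is elementary abelian, not FF,
  `C_S(V) = B`, `V ≤ O₂(C_G(Z))`, `Z = Ω₁(Z(S))`;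
* `Adm.of_root`, `Adm.lines`, `exists_min` : the w.c. frame is admissible; `NoEmp.Lines S B V`; a minimal `B`;
* `StmtOff G` (helper812's `Wc/Alt.lean`) : THEOREM OFF (#16468) as a hypothesis;
* `main` : `B` minimal, `M = N_G(B)`, `H = ⟨M, X⟩` of characteristic 2, `X` a minimal parabolic over
  `T`, `B ≤ T ≤ S`, `X ≤ C_G(Z)`, `X ≰ N_G(V)`: a subgroup `A` of `B` with `A ≰ O₂(X)` offends on `U = ⟨V^X⟩`.
-/

set_option autoImplicit false

namespace Cfsg.Agent.Omega.NO3b.Exit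

open Subgroup Cfsg
open Cfsg.Agent.ZN (o2 zc zl jj zj)
open Cfsg.Agent.ZN.ChoiceBase hiding mem_zc
open Cfsg.Agent.ZN.ChoiceSit (Syl exists_syl syl_conj o2_le_syl)
open Cfsg.Agent.Omega.NO3b.EZero (NotFF cent_symm cj_cent cj_norm cj_eq_cj_iff cl le_cl cj_le_cl cl_le
  le_normalizer_cl)
open Cfsg.Agent.Omega.FFThm (ElemM OffM NoOverM)
open Cfsg.Agent.Omega.NOThreeL.Star (Opt Ok exists_opt)
open Cfsg.Agent.Omega.NO3b.Wc
open Cfsg.Agent.MinSimple.MinParabolic (IsMinPar)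
open Cfsg.Agent.MinSimple.VModule (zc_le_zl le_normalizer_zl zl_le zc_le mem_zc le_centralizer_zc zc_sq
  le_normalizer_o2 o2_isPGroup le_o2 zc_comm normalizer_le_normalizer_zc o2_le oddGen)
open Cfsg.Agent.Omega.NOne (Flat.Hyp Flat.Bad Flat.EE Flat.WW Flat.o2_conj)
open scoped Pointwise

universe u

variable {G : Type u} [Group G]

/-- `V_B = ⟨Ω₁(Z(S))^{N_G(B)}⟩` -/
def VB (S B : Subgroup G) : Subgroup G := zl S (normalizer (B : Set G))

/-- `B` is admissible. -/
structure Adm [Finite G] (S : Sylow 2 G) (L B : Subgroup G) : Prop where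
  wc : WC (S : Subgroup G) B
  le : B ≤ QL (S : Subgroup G) L
  cs : (S : Subgroup G) ⊓ centralizer (VB (S : Subgroup G) B : Set G) = B
  comm : VB (S : Subgroup G) B ≤ centralizer (VB (S : Subgroup G) B : Set G)
  sq : ∀ v ∈ VB (S : Subgroup G) B, v ^ 2 = 1
  nff : NotFF (VB (S : Subgroup G) B)
  low : VB (S : Subgroup G) B ≤ o2 (centralizer (zc (S : Subgroup G) : Set G))

/-- A weakly closed subgroup is normal in `S`. -/
theorem wc_S_le [Finite G] {S : Sylow 2 G} {B : Subgroup G} (h : WC (S : Subgroup G) B) :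
    (S : Subgroup G) ≤ normalizer (B : Set G) := by
  intro s hs
  rw [mem_normalizer_iff_cj]
  refine h.eq s ?_
  have h1 := cj_mono s h.le
  rwa [cj_eq_of_mem_normalizer (Subgroup.le_normalizer hs)] at h1

/-- The w.c. frame is admissible. -/
theorem Adm.of_root [Finite G] {S : Sylow 2 G} {L : Subgroup G} (h : Root S L)
    (low : VL (S : Subgroup G) L ≤ o2 (centralizer (zc (S : Subgroup G) : Set G))) :
    Adm S L (WH (S : Subgroup G) L) where
  wc := wc_WH _ _
  le := WH_le _ _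
  cs := h.cs_V
  comm := h.V_comm
  sq := h.V_sq
  nff := h.V_nff
  low := low

namespace Adm

variable [Finite G] {S : Sylow 2 G} {L B : Subgroup G} (h : Adm S L B)
include h

theorem lines : NoEmp.Lines S B (VB (S : Subgroup G) B) where
  JS := h.wc.le
  wc := h.wc.eq
  NJ := le_normalizer_zl _ _
  JV := by
    have h1 := h.cs
    intro b hb
    rw [← h1] at hb
    exact hb.2
  comm := h.comm
  sq := h.sq
  ZV := zc_le_zl _ _
  nff := h.nff
  low := h.low

end Adm

/-- a minimal admissible `B` -/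
theorem exists_min [Finite G] {S : Sylow 2 G} {L B₀ : Subgroup G} (h : Adm S L B₀) :
    ∃ B, Adm S L B ∧ B ≤ B₀ ∧ ∀ B', Adm S L B' → B' ≤ B → B' = B := by
  obtain ⟨B, hB, hmin⟩ := Set.exists_min_image {B : Subgroup G | Adm S L B ∧ B ≤ B₀} (fun B => Nat.card B)
    (Set.toFinite _) ⟨B₀, h, le_rfl⟩
  exact ⟨B, hB.1, hB.2, fun B' h1 h2 => eq_of_le_of_card_ge h2 (hmin B' ⟨h1, h2.trans hB.2⟩)⟩

/-! ### `W_F` -/

section flat

open Cfsg.Agent.Omega.NoFF.Basic (conj_conj conj_V_le conj_Z_le conj_le_iff)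

theorem conj_V (g : G) (Z P : Subgroup G) : cj g (NoFF.Basic.V Z P) = NoFF.Basic.V (cj g Z) (cj g P) := by
  apply le_antisymm
  · refine conj_V_le (g := g) fun p hp => ?_
    have h1 : MulAut.conj (g * p * g⁻¹) • cj g Z ≤ NoFF.Basic.V (cj g Z) (cj g P) :=
      NoFF.Basic.Z_le_V (EZero.mem_cj_self hp)
    have e : MulAut.conj (g * p) • Z = MulAut.conj (g * p * g⁻¹) • cj g Z := by
      change _ = MulAut.conj (g * p * g⁻¹) • (MulAut.conj g • Z)
      rw [conj_conj]
      congr 1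
      group
    rwa [e]
  · refine NoFF.Basic.V_le fun q hq => ?_
    have hq' := mem_cj.1 hq
    have h1 : MulAut.conj (g * (g⁻¹ * q * g)) • Z ≤ MulAut.conj g • NoFF.Basic.V Z P := conj_Z_le hq'
    have e : MulAut.conj q • cj g Z = MulAut.conj (g * (g⁻¹ * q * g)) • Z := by
      change MulAut.conj q • (MulAut.conj g • Z) = _
      rw [conj_conj]
      congr 1
      group
    rw [e]
    exact h1

/-- `E_{F^g} = E_F^g` for `g ∈ N(V)` -/
theorem EE_cj {V F : Subgroup G} {g : G} (hg : g ∈ normalizer (V : Set G)) :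
    Flat.EE V (cj g F) = cj g (Flat.EE V F) := by
  have hV : cj g V = V := cj_eq_of_mem_normalizer hg
  have ho : cj g (o2 (centralizer (F : Set G))) = o2 (centralizer ((cj g F : Subgroup G) : Set G)) := by
    rw [← cj_centralizer]
    exact Flat.o2_conj g _
  rw [Flat.EE, Flat.EE, cj_inf, hV, ho]

/-- `W_{F^g} = W_F^g` for `g ∈ N(V)` -/
theorem WW_cj {V F : Subgroup G} {g : G} (hg : g ∈ normalizer (V : Set G)) :
    Flat.WW V (cj g F) = cj g (Flat.WW V F) := by
  rw [Flat.WW, Flat.WW, conj_V, EE_cj hg, cj_centralizer]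

/-- `F` is bad and maximal with this. -/
def MaxBad (V F : Subgroup G) : Prop := Flat.Bad V F ∧ ∀ D : Subgroup G, Flat.Bad V D → F ≤ D → D = F

theorem Bad.cj {V F : Subgroup G} (h : Flat.Bad V F) {g : G} (hg : g ∈ normalizer (V : Set G)) :
    Flat.Bad V (cj g F) := by
  have hV : ZN.ChoiceBase.cj g V = V := cj_eq_of_mem_normalizer hg
  refine ⟨fun h0 => h.ne ?_, ?_, fun h0 => h.not_le ?_⟩
  · have h1 := congrArg (ZN.ChoiceBase.cj g⁻¹) h0
    rw [cj_inv_cj] at h1
    exact h1.trans (Subgroup.map_bot _)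
  · have h1 := cj_mono g h.le
    rwa [hV] at h1
  · have h1 := cj_mono g⁻¹ h0
    have h2 : ZN.ChoiceBase.cj g⁻¹ V = V := cj_eq_of_mem_normalizer (inv_mem hg)
    have h3 : ZN.ChoiceBase.cj g⁻¹ (o2 (centralizer ((ZN.ChoiceBase.cj g F : Subgroup G) : Set G))) =
        o2 (centralizer (F : Set G)) := by
      have h4 := Flat.o2_conj g⁻¹ (centralizer ((ZN.ChoiceBase.cj g F : Subgroup G) : Set G))
      have h5 : ZN.ChoiceBase.cj g⁻¹ (centralizer ((ZN.ChoiceBase.cj g F : Subgroup G) : Set G)) =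
          centralizer (F : Set G) := by
        rw [cj_centralizer, cj_inv_cj]
      change ZN.ChoiceBase.cj g⁻¹ _ = o2 (ZN.ChoiceBase.cj g⁻¹ _) at h4
      rw [h4, h5]
    rwa [h2, h3] at h1

theorem MaxBad.cj {V F : Subgroup G} (h : MaxBad V F) {g : G} (hg : g ∈ normalizer (V : Set G)) :
    MaxBad V (cj g F) := by
  refine ⟨Bad.cj h.1 hg, fun D hD hFD => ?_⟩
  have h1 := Bad.cj hD (inv_mem hg)
  have h2 : F ≤ ZN.ChoiceBase.cj g⁻¹ D := by
    have h3 := cj_mono g⁻¹ hFD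
    rwa [cj_inv_cj] at h3
  have h3 := h.2 _ h1 h2
  rw [← h3, cj_cj_inv]

theorem exists_maxBad [Finite G] {V D : Subgroup G} (h : Flat.Bad V D) : ∃ F, MaxBad V F ∧ D ≤ F := by
  obtain ⟨F, hF, hmax⟩ := Set.exists_max_image {F : Subgroup G | Flat.Bad V F ∧ D ≤ F} (fun F => Nat.card F)
    (Set.toFinite _) ⟨D, h, le_rfl⟩
  exact ⟨F, ⟨hF.1, fun D' h1 h2 => (eq_of_le_of_card_ge h2 (hmax D' ⟨h1, hF.2.trans h2⟩)).symm⟩, hF.2⟩

end flat

/-! ### the w.c. frame and THEOREM FLAT -/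

section root

variable [Finite G] {S : Sylow 2 G} {L F : Subgroup G}

/-- the hypotheses of THEOREM FLAT for a maximal bad `F ≤ V` -/
theorem hyp_of (hG : IsCharacteristicTwoType G) (h : Root S L) (hF : MaxBad (VL (S : Subgroup G) L) F) :
    Flat.Hyp (VL (S : Subgroup G) L) F where
  comm := h.V_comm
  sq := h.V_sq
  syl := fun D _ hD => (h.o2_cent_le hD).trans (ML_le_norm_V _ _)
  noff := by
    intro A hA hc hs hne
    have h1 := h.V_nff A (NoEmp.pgroup_of_sq hs) hA (fun a ha => by rw [hs a ha]; exact one_mem _)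
      (fun a ha b hb => by
        have e : a * b = b * a := (mem_centralizer_iff.1 (hc ha) b hb).symm
        rw [e, mul_inv_cancel_right, mul_inv_cancel]; exact one_mem _) hne
    by_contra h2
    exact absurd (FFThm.relIndex_le_iff.1 (not_lt.1 h2)) (not_le.2 h1)
  char2 := NOne.LemmaT.char2_centralizer hG ((NoEmp.pgroup_of_sq h.V_sq).to_le hF.1.le) hF.1.ne
  bad := hF.1
  max := hF.2

/-- `W_F` is a 2-group in `M`. -/
theorem WW_le (h : Root S L) (hF : F ≤ VL (S : Subgroup G) L) :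
    Flat.WW (VL (S : Subgroup G) L) F ≤ ML (S : Subgroup G) L :=
  Flat.Hyp.W_le_R.trans (h.o2_cent_le hF)

omit [Finite G] in
theorem WW_pgroup (V F : Subgroup G) : IsPGroup 2 (Flat.WW V F) :=
  (ZN.isPGroup_o2 _).to_le Flat.Hyp.W_le_R

/-- A group with a maximal bad `F`: `[V, W_F] ≠ 1`. -/
theorem WW_not_cent (hG : IsCharacteristicTwoType G) (h : Root S L) (hF : MaxBad (VL (S : Subgroup G) L) F) :
    ¬ Flat.WW (VL (S : Subgroup G) L) F ≤ centralizer (VL (S : Subgroup G) L : Set G) := by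
  intro h0
  have h1 := (hyp_of hG h hF).cent_VW
  rw [inf_eq_left.2 (cent_symm h0)] at h1
  apply hF.1.not_le
  have h2 : VL (S : Subgroup G) L ≤ centralizer (F : Set G) := h.V_comm.trans (centralizer_le hF.1.le)
  refine le_o2 h2 (NoEmp.pgroup_of_sq h.V_sq) ?_
  rw [← h1]
  exact centralizer_le_normalizer _

/-- `W_F ≤ S` implies `Z ≤ F`. -/
theorem zc_le_of (hG : IsCharacteristicTwoType G) (h : Root S L) (hF : MaxBad (VL (S : Subgroup G) L) F)
    (hS : Flat.WW (VL (S : Subgroup G) L) F ≤ (S : Subgroup G)) : zc (S : Subgroup G) ≤ F := by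
  rw [← (hyp_of hG h hF).cent_VW]
  exact le_inf (Root.zc_le_V (S := S)) (cent_symm (hS.trans (le_centralizer_zc _)))

/-- **THEOREM OFF, Corollary A**: `W_F ≤ S` offends on every `S`-local `Y ≤ V ∩ O₂(C_G(Z))` which it does not
centralise. -/
theorem off_of (hG : IsCharacteristicTwoType G) (hOff : StmtOff G) (h : Root S L)
    (hF : MaxBad (VL (S : Subgroup G) L) F)
    (hS : Flat.WW (VL (S : Subgroup G) L) F ≤ (S : Subgroup G)) {Y : Subgroup G}
    (hYV : Y ≤ VL (S : Subgroup G) L) (hYZ : Y ≤ o2 (centralizer (zc (S : Subgroup G) : Set G)))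
    (hne : ¬ Flat.WW (VL (S : Subgroup G) L) F ≤ centralizer (Y : Set G)) :
    OffM Y (Flat.WW (VL (S : Subgroup G) L) F) := by
  have hy := hyp_of hG h hF
  have hZF := zc_le_of hG h hF hS
  have hCF : centralizer (F : Set G) ≤ centralizer (zc (S : Subgroup G) : Set G) := centralizer_le hZF
  have h1 : Y ≤ o2 (centralizer (F : Set G)) := by
    have h2 : o2 (centralizer (zc (S : Subgroup G) : Set G)) ⊓ centralizer (F : Set G) ≤
        o2 (centralizer (F : Set G)) := by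
      refine le_o2 inf_le_right ((o2_isPGroup _).to_le inf_le_left) ?_
      intro x hx
      rw [mem_normalizer_iff_cj, cj_inf, cj_eq_of_mem_normalizer (Subgroup.le_normalizer hx),
        cj_eq_of_mem_normalizer (le_normalizer_o2 _ (hCF hx))]
    exact (le_inf hYZ (hYV.trans (h.V_comm.trans (centralizer_le hF.1.le)))).trans h2
  have h3 := hy.off_of_le (hOff _ _ hy) (Y := Y) (le_inf hYV h1)
  obtain ⟨e1, e2⟩ := hy.elem_W hYV
  refine ⟨⟨fun a ha => by rw [pow_two]; exact e2 a ha, fun a ha b hb => e1 a ha b hb⟩, hne, ?_⟩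
  exact FFThm.relIndex_le_iff.2 h3

/-- **PRINCIPLE for the `W_F`**: if `V ≰ O₂(C_G(Z))` then some `W_F ≤ S`, `F` maximal bad, moves `V_L`. -/
theorem exists_WW (hG : IsCharacteristicTwoType G) (hS : (S : Subgroup G) ≠ ⊥) (h : Root S L)
    (hV : ¬ VL (S : Subgroup G) L ≤ o2 (centralizer (zc (S : Subgroup G) : Set G))) :
    ∃ F, MaxBad (VL (S : Subgroup G) L) F ∧ Flat.WW (VL (S : Subgroup G) L) F ≤ (S : Subgroup G) ∧
      ¬ Flat.WW (VL (S : Subgroup G) L) F ≤ centralizer (zl (S : Subgroup G) L : Set G) := by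
  have hb : Flat.Bad (VL (S : Subgroup G) L) (zc (S : Subgroup G)) :=
    ⟨MinSimple.Basic.zc_ne_bot S.isPGroup' hS, Root.zc_le_V (S := S), hV⟩
  obtain ⟨F0, hF0, -⟩ := exists_maxBad hb
  obtain ⟨n, hn, hnS⟩ := h.exists_conj_le (WW_pgroup _ F0) (WW_le h hF0.1.le)
  have hnV := ML_le_norm_V _ _ hn
  obtain ⟨A, ⟨F, hF, rfl⟩, hAS, hAne⟩ := h.principle
    (F := {A | ∃ F, MaxBad (VL (S : Subgroup G) L) F ∧ Flat.WW (VL (S : Subgroup G) L) F = A})
    (A := cj n (Flat.WW (VL (S : Subgroup G) L) F0)) (by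
      rintro A ⟨F, hF, rfl⟩ m hm
      exact ⟨cj m F, hF.cj (ML_le_norm_V _ _ hm), WW_cj (ML_le_norm_V _ _ hm)⟩)
    ⟨cj n F0, hF0.cj hnV, WW_cj hnV⟩ hnS (by
      rw [← WW_cj hnV]
      exact WW_not_cent hG h (hF0.cj hnV))
  exact ⟨F, hF, hAS, hAne⟩

end root

end Cfsg.Agent.Omega.NO3b.Exit
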