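import Cfsg.Agent.Omega.NO3b.Exit.MaxV
import Cfsg.Agent.Omega.NO3b.AlphaEnd

/-!
# The local exit of NotFF (#17095 (1), (2), helper58; #17287, helper37), part 2

`B` admissible, `M = N_G(B)`, `V = VB S B = ⟨Z^M⟩`, `X` a minimal parabolic over `T`, `B ≤ T ≤ S`,
`X ≤ C_G(Z)`, `X ≰ N_G(V)`, `H = ⟨M, X⟩` of characteristic 2 (`Fr`), `V_H = ⟨Z^H⟩`, `U = ⟨V^X⟩`.

* `gamma` : `V_H` is FF: a best offender `A ≤ B` of `V_H`, `A ≰ O₂(X)`, offends on `U`;
* `beta` : `V_H` is not FF, `V' ≰ O₂(C_G(Z))` (`V' = VL S (LH S H) ≥ V_H` the w.c. closure): some `W_F ≤ B`,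
  `W_F ≰ O₂(X)`, offends on `U`;
* `closed` : `V_H` is not FF, `V' ≤ O₂(C_G(Z))`: a smaller admissible `B'`;
* `main` : `B` minimal: `γ` or `β`.
-/

set_option autoImplicit false

namespace Cfsg.Agent.Omega.NO3b.Exit

open Subgroup Cfsg
open Cfsg.Agent.ZN (o2 zc zl jj zj)
open Cfsg.Agent.ZN.ChoiceBase hiding mem_zc
open Cfsg.Agent.ZN.ChoiceSit (Syl exists_syl syl_conj o2_le_syl syl_not_dvd)
open Cfsg.Agent.MinSimple.EmptyTI (syl_of_le)
open Cfsg.Agent.Omega.NO3b.EZero (NotFF cent_symm cj_cent cj_norm cj_eq_cj_iff cl le_cl cj_le_cl cl_le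
  le_normalizer_cl le_normalizer_inf_cent oddGen_sup_syl isPGroup_Q0)
open Cfsg.Agent.Omega.FFThm (ElemM OffM NoOverM)
open Cfsg.Agent.Omega.NOThreeL.Star (Opt Ok exists_opt zl_mono)
open Cfsg.Agent.Omega.NO3b.Wc
open Cfsg.Agent.MinSimple.MinParabolic (IsMinPar)
open Cfsg.Agent.MinSimple.VModule (zc_le_zl le_normalizer_zl zl_le zc_le mem_zc le_centralizer_zc zc_sq
  le_normalizer_o2 o2_isPGroup le_o2 zc_comm normalizer_le_normalizer_zc o2_le oddGen oddGen_le zl_le_zc
  o2_le_centralizer_zl mem_normalizer_of_map_le)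
open Cfsg.Agent.Omega.NOne (Flat.Hyp Flat.Bad Flat.EE Flat.WW)

universe u

variable {G : Type u} [Group G] [Finite G] {S : Sylow 2 G}

/-! ### Frattini -/

/-- `C_S(V)` is a Sylow 2-subgroup of `C_G(V)` -/
theorem syl_cs {V : Subgroup G} (hS : (S : Subgroup G) ≤ normalizer (V : Set G)) :
    Syl ((S : Subgroup G) ⊓ centralizer (V : Set G)) (centralizer (V : Set G)) := by
  refine ⟨inf_le_right, isPGroup_Q0, fun Q hQ hp hle => ?_⟩
  have hQL : Q ≤ normalizer (V : Set G) := hQ.trans (centralizer_le_normalizer _)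
  obtain ⟨T, hT, hQT⟩ := exists_syl hp hQL
  obtain ⟨x, hx, hxT⟩ := syl_conj hT (syl_of_le hS)
  have h1 : cj x Q ≤ (S : Subgroup G) ⊓ centralizer (V : Set G) := by
    refine le_inf ?_ ?_
    · rw [← hxT]; exact cj_mono x hQT
    · have h2 := cj_mono x hQ
      rwa [cj_centralizer, mem_normalizer_iff_cj.1 hx] at h2
  have h2 := card_le_of_le h1
  rw [card_cj] at h2
  exact (eq_of_le_of_card_ge hle h2).symm

theorem frattini {V : Subgroup G} (hS : (S : Subgroup G) ≤ normalizer (V : Set G)) {n : G}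
    (hn : n ∈ normalizer (V : Set G)) : ∃ c ∈ centralizer (V : Set G),
    c⁻¹ * n ∈ normalizer (((S : Subgroup G) ⊓ centralizer (V : Set G) : Subgroup G) : Set G) := by
  have h1 : Syl (cj n ((S : Subgroup G) ⊓ centralizer (V : Set G))) (centralizer (V : Set G)) := by
    have hC : cj n (centralizer (V : Set G)) = centralizer (V : Set G) := by
      rw [cj_centralizer, mem_normalizer_iff_cj.1 hn]
    refine ⟨?_, isPGroup_cj _ isPGroup_Q0, fun Q hQ hp hle => ?_⟩
    · exact (cj_mono n (syl_cs hS).1).trans hC.le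
    · have h2 := (syl_cs hS).2.2 (cj n⁻¹ Q) (by
        rw [cj_le_iff, inv_inv, hC]; exact hQ) (isPGroup_cj _ hp) (by
        have h3 := cj_mono n⁻¹ hle
        rwa [cj_inv_cj] at h3)
      rw [← h2, cj_cj_inv]
  obtain ⟨c, hc, hcn⟩ := syl_conj (syl_cs hS) h1
  exact ⟨c, hc, cj_eq_cj_iff.1 hcn.symm⟩

/-- `N_G(V_H) ∩ N_G(C_S(V_H))` -/
def LH (S H : Subgroup G) : Subgroup G :=
  normalizer (zl S H : Set G) ⊓ normalizer ((S ⊓ centralizer (zl S H : Set G) : Subgroup G) : Set G)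

section big

variable {H : Subgroup G} (hS : (S : Subgroup G) ≤ H)
include hS

omit [Finite G] in
theorem S_le_LH : (S : Subgroup G) ≤ LH (S : Subgroup G) H := by
  have h1 : (S : Subgroup G) ≤ normalizer (zl (S : Subgroup G) H : Set G) := hS.trans (le_normalizer_zl _ _)
  refine le_inf h1 fun s hs => ?_
  rw [mem_normalizer_iff_cj, cj_inf, cj_centralizer, mem_normalizer_iff_cj.1 (h1 hs)]
  congr 1
  exact cj_eq_of_mem_normalizer (Subgroup.le_normalizer hs)

/-- `⟨Z^{LH}⟩ = V_H` -/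
theorem zl_LH : zl (S : Subgroup G) (LH (S : Subgroup G) H) = zl (S : Subgroup G) H := by
  apply le_antisymm
  · exact zl_le (zc_le_zl _ _) inf_le_left
  · refine zl_le (zc_le_zl _ _) fun x hx => ?_
    have hle : zl (S : Subgroup G) (LH (S : Subgroup G) H) ≤ zl (S : Subgroup G) H :=
      zl_le (zc_le_zl _ _) inf_le_left
    have hxV := le_normalizer_zl (S : Subgroup G) H hx
    obtain ⟨c, hc, hcx⟩ := frattini (hS.trans (le_normalizer_zl _ _)) hxV
    have h1 : c ∈ normalizer (zl (S : Subgroup G) (LH (S : Subgroup G) H) : Set G) :=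
      centralizer_le_normalizer _ (centralizer_le hle hc)
    have h2 : c⁻¹ * x ∈ LH (S : Subgroup G) H :=
      ⟨Subgroup.mul_mem _ (Subgroup.inv_mem _ (centralizer_le_normalizer _ hc)) hxV, hcx⟩
    have h3 := Subgroup.mul_mem _ h1 (le_normalizer_zl (S : Subgroup G) _ h2)
    rwa [mul_inv_cancel_left] at h3

variable (hc : H ⊓ centralizer (o2 H : Set G) ≤ o2 H)
include hc

theorem zl_le_zc' : zl (S : Subgroup G) H ≤ zc (o2 H) :=
  zl_le_zc hS S.isPGroup' (syl_not_dvd (syl_of_le hS)) hc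

theorem zl_cent : zl (S : Subgroup G) H ≤ centralizer (zl (S : Subgroup G) H : Set G) := by
  intro x hx
  rw [mem_centralizer_iff]
  intro y hy
  exact zc_comm _ _ (zl_le_zc' hS hc hy) _ (zl_le_zc' hS hc hx)

theorem zl_sq' : ∀ v ∈ zl (S : Subgroup G) H, v ^ 2 = 1 := fun v hv => zc_sq _ v (zl_le_zc' hS hc hv)

theorem o2_cent : o2 H ≤ centralizer (zl (S : Subgroup G) H : Set G) :=
  o2_le_centralizer_zl hS S.isPGroup' (syl_not_dvd (syl_of_le hS)) hc

/-- The w.c. frame for `V_H`, if it is not FF. -/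
theorem root_LH (hn : NotFF (zl (S : Subgroup G) H)) : Root S (LH (S : Subgroup G) H) where
  le := S_le_LH hS
  comm := by rw [zl_LH hS]; exact zl_cent hS hc
  sq := by rw [zl_LH hS]; exact zl_sq' hS hc
  nff := by rw [zl_LH hS]; exact hn
  cs := by rw [zl_LH hS]; exact inf_le_right

end big

/-- `H` has characteristic 2 if it lies in a 2-local subgroup and contains `S`. -/
theorem char2_of_loc (hG : IsCharacteristicTwoType G) {H R : Subgroup G} (hS : (S : Subgroup G) ≤ H)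
    (hR : IsPGroup 2 R) (hne : R ≠ ⊥) (hH : H ≤ normalizer (R : Set G)) :
    H ⊓ centralizer (o2 H : Set G) ≤ o2 H := by
  have h1 := MinSimple.Basic.char2_normalizer hG hR hne
  have h2 : o2 (normalizer (R : Set G)) ≤ H := (o2_le_syl (syl_of_le (hS.trans hH))).trans hS
  have h3 : o2 (normalizer (R : Set G)) ≤ o2 H :=
    le_o2 h2 (o2_isPGroup _) (hH.trans (le_normalizer_o2 _))
  exact (inf_le_inf hH (centralizer_le h3)).trans (h1.trans h3)

open Cfsg.Agent.Omega.NOThreeL.Star in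
/-- An optimal offender offends on every submodule which it does not centralise. -/
theorem offM_of_opt {V W A : Subgroup G} (h : Opt V A) (hV : V ≤ centralizer (V : Set G)) (hW : W ≤ V)
    (hne : ¬ A ≤ centralizer (W : Set G)) : OffM W A := by
  set B : Subgroup G := A ⊓ centralizer (W : Set G) with hB
  have okB : Ok V B := h.toOk.mono inf_le_left
  have hmax := h.max B okB
  have hBV : B ⊓ centralizer (V : Set G) = A ⊓ centralizer (V : Set G) := by
    rw [hB, inf_assoc, inf_eq_right.2 (centralizer_le hW)]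
  have hWA : W ⊓ (V ⊓ centralizer (A : Set G)) = W ⊓ centralizer (A : Set G) := by
    rw [← inf_assoc, inf_eq_left.2 hW]
  have s1 := card_sup_mul hV hW (inf_le_left : V ⊓ centralizer (A : Set G) ≤ V)
  rw [hWA] at s1
  have hsup : W ⊔ (V ⊓ centralizer (A : Set G)) ≤ V ⊓ centralizer (B : Set G) := by
    refine sup_le (le_inf hW ?_) (le_inf inf_le_left (inf_le_right.trans (centralizer_le inf_le_left)))
    exact cent_symm inf_le_right
  have s2 : Nat.card ↥(W ⊔ (V ⊓ centralizer (A : Set G))) ≤ Nat.card ↥(V ⊓ centralizer (B : Set G)) :=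
    Subgroup.card_le_of_le hsup
  have r1 := rel_mul_card A (centralizer (V : Set G))
  have r2 := rel_mul_card B (centralizer (V : Set G))
  rw [hBV] at r2
  unfold ff at hmax
  set a := Nat.card A
  set b := Nat.card B
  set c := Nat.card ↥(A ⊓ centralizer (V : Set G))
  set n := Nat.card ↥(V ⊓ centralizer (A : Set G))
  set nB := Nat.card ↥(V ⊓ centralizer (B : Set G))
  set w := Nat.card W
  set w0 := Nat.card ↥(W ⊓ centralizer (A : Set G))
  set m := Nat.card ↥(W ⊔ (V ⊓ centralizer (A : Set G)))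
  set rA := (centralizer (V : Set G)).relIndex A
  set rB := (centralizer (V : Set G)).relIndex B
  have pn : 0 < n := Nat.card_pos
  have i1 : b * nB ≤ a * n := by
    calc b * nB = (rB * nB) * c := by rw [← r2]; ring
      _ ≤ (rA * n) * c := Nat.mul_le_mul_right _ hmax
      _ = a * n := by rw [← r1]; ring
  have i2 : b * (w * n) ≤ a * n * w0 := by
    calc b * (w * n) = b * m * w0 := by rw [← s1]; ring
      _ ≤ b * nB * w0 := Nat.mul_le_mul_right _ (Nat.mul_le_mul_left _ s2)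
      _ ≤ a * n * w0 := Nat.mul_le_mul_right _ i1
  have i3 : w * b ≤ a * w0 := by
    have : (w * b) * n ≤ (a * w0) * n := by
      calc (w * b) * n = b * (w * n) := by ring
        _ ≤ a * n * w0 := i2
        _ = (a * w0) * n := by ring
    exact Nat.le_of_mul_le_mul_right this pn
  exact ⟨⟨fun x hx => centralizer_le hW (h.sq x hx), fun x hx y hy => centralizer_le hW (h.comm x hx y hy)⟩,
    hne, i3⟩

/-! ### The frame -/

/-- The local situation. -/
structure Fr (S : Sylow 2 G) (B H X T : Subgroup G) : Prop where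
  NB : normalizer (B : Set G) ≤ H
  XH : X ≤ H
  gen : H ≤ normalizer (B : Set G) ⊔ X
  char2 : H ⊓ centralizer (o2 H : Set G) ≤ o2 H
  TS : T ≤ (S : Subgroup G)
  BT : B ≤ T
  syl : Syl T X
  mp : IsMinPar T X
  XZ : X ≤ centralizer (zc (S : Subgroup G) : Set G)
  nle : ¬ X ≤ normalizer (VB (S : Subgroup G) B : Set G)

namespace Fr

variable {L B H X T : Subgroup G} (f : Fr S B H X T) (a : Adm S L B)
include f a

theorem SH : (S : Subgroup G) ≤ H := (wc_S_le a.wc).trans f.NB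

omit [Finite G] a in
theorem V_le : VB (S : Subgroup G) B ≤ zl (S : Subgroup G) H := zl_mono _ f.NB

omit [Finite G] a in
theorem U_le : cl (VB (S : Subgroup G) B) X ≤ zl (S : Subgroup G) H := by
  refine cl_le fun x hx => ?_
  have h1 := cj_mono x f.V_le
  rwa [cj_eq_of_mem_normalizer (le_normalizer_zl _ _ (f.XH hx))] at h1

theorem TV : T ≤ normalizer (VB (S : Subgroup G) B : Set G) := f.TS.trans a.lines.S_le

/-- `C_T(U) ≤ O₂(X)` -/
theorem cent_U : T ⊓ centralizer (cl (VB (S : Subgroup G) B) X : Set G) ≤ o2 X := by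
  rcases K0.min_or f.syl f.mp (K := X ⊓ centralizer (cl (VB (S : Subgroup G) B) X : Set G)) inf_le_left
    (le_normalizer_inf_cent (le_normalizer_cl _ _)) with h1 | h1
  · exfalso
    apply f.nle
    rw [← oddGen_sup_syl f.syl]
    refine sup_le ?_ (f.TV a)
    exact (h1.trans inf_le_right).trans ((centralizer_le (le_cl _ _)).trans (centralizer_le_normalizer _))
  · exact (le_inf inf_le_left (le_inf (inf_le_left.trans f.syl.1) inf_le_right)).trans h1

/-- `C_S(V_H) ≤ B` -/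
theorem cs_le : (S : Subgroup G) ⊓ centralizer (zl (S : Subgroup G) H : Set G) ≤ B :=
  (inf_le_inf_left _ (centralizer_le f.V_le)).trans a.cs.le

/-- `U ≤ O₂(C_G(Z))` -/
theorem U_low : cl (VB (S : Subgroup G) B) X ≤ o2 (centralizer (zc (S : Subgroup G) : Set G)) := by
  refine cl_le fun x hx => ?_
  have h1 := cj_mono x a.low
  rwa [cj_eq_of_mem_normalizer (le_normalizer_o2 _ (f.XZ hx))] at h1

/-- A subgroup `K` of `B`, closed under the fusion of `H` in `S` and inside `O₂(X)`, lies in `O₂(H)`. -/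
theorem core {K : Subgroup G} (hKB : K ≤ B) (hcl : ∀ g ∈ H, cj g K ≤ (S : Subgroup G) → cj g K ≤ K)
    (hX : K ≤ o2 X) : K ≤ o2 H := by
  have hKS : K ≤ (S : Subgroup G) := hKB.trans a.wc.le
  refine le_o2 (hKS.trans (f.SH a)) (S.isPGroup'.to_le hKS) (f.gen.trans (sup_le ?_ ?_))
  · intro m hm
    refine mem_normalizer_of_map_le (hcl m (f.NB hm) ?_)
    have h1 := cj_mono m hKB
    rw [cj_eq_of_mem_normalizer hm] at h1
    exact h1.trans a.wc.le
  · intro x hx
    refine mem_normalizer_of_map_le (hcl x (f.XH hx) ?_)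
    have h1 := cj_mono x hX
    rw [cj_eq_of_mem_normalizer (le_normalizer_o2 _ hx)] at h1
    exact h1.trans ((o2_le_syl f.syl).trans f.TS)

/-- the same for a family of subgroups of `S`: a member which is not in `O₂(X)` -/
theorem exists_nle {Fam : Set (Subgroup G)} (hKB : ∀ D ∈ Fam, D ≤ B)
    (hcl : ∀ g ∈ H, (∀ D ∈ Fam, cj g D ≤ (S : Subgroup G)) → ∀ D ∈ Fam, cj g D ≤ sSup Fam)
    {D₀ : Subgroup G} (hD₀ : D₀ ∈ Fam) (hne : ¬ D₀ ≤ centralizer (zl (S : Subgroup G) H : Set G)) :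
    ∃ D ∈ Fam, ¬ D ≤ o2 X := by
  by_contra hcon
  push Not at hcon
  have h1 := f.core a (K := sSup Fam) (sSup_le hKB) (fun g hg hgS => ?_) (sSup_le hcon)
  · exact hne (((le_sSup hD₀).trans h1).trans (o2_cent (f.SH a) f.char2))
  · rw [cj_sSup]
    exact iSup_le fun D => hcl g hg (fun D hD => (cj_mono g (le_sSup hD)).trans hgS) D D.2

/-- **(γ)** `V_H` is FF. -/
theorem gamma (hff : ¬ NotFF (zl (S : Subgroup G) H)) :
    ∃ A, Opt (zl (S : Subgroup G) H) A ∧ A ≤ B ∧ ¬ A ≤ o2 X ∧ OffM (cl (VB (S : Subgroup G) B) X) A := by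
  have hSH := f.SH a
  have hVc := zl_cent hSH f.char2
  -- best offenders centralise `V`
  have hAV : ∀ A, Opt (zl (S : Subgroup G) H) A → A ≤ (S : Subgroup G) → A ≤ B := by
    intro A hA hAS
    refine le_trans (le_inf hAS ?_) a.cs.le
    by_contra hne
    have hoff := offM_of_opt hA hVc f.V_le hne
    have h3 := a.nff A hA.pg (hAS.trans a.lines.S_le) hoff.sq hoff.comm hne
    exact absurd (FFThm.relIndex_le_iff.1 hoff.le) (not_le.2 h3)
  obtain ⟨A0, hA0⟩ := exists_opt hff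
  obtain ⟨n, hn, hnS⟩ := FFThm.exists_conj_le S (hSH.trans (le_normalizer_zl _ _)) hA0.pg hA0.norm
  obtain ⟨D, hD, hDX⟩ := f.exists_nle a
    (Fam := {D | D = (S : Subgroup G) ⊓ centralizer (zl (S : Subgroup G) H : Set G) ∨
      Opt (zl (S : Subgroup G) H) D ∧ D ≤ (S : Subgroup G)}) (by
      rintro D (rfl | ⟨h1, h2⟩)
      · exact f.cs_le a
      · exact hAV D h1 h2) (by
      rintro g hg hgS D (rfl | ⟨h1, h2⟩)
      · refine le_trans (le_inf (hgS _ (Or.inl rfl)) ?_) (le_sSup (Or.inl rfl))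
        rw [cj_inf, cj_centralizer, cj_eq_of_mem_normalizer (le_normalizer_zl _ _ hg)]
        exact inf_le_right
      · exact le_sSup (a := cj g D) (Or.inr ⟨h1.cj (le_normalizer_zl _ _ hg), hgS D (Or.inr ⟨h1, h2⟩)⟩))
    (D₀ := cj n A0) (Or.inr ⟨hA0.cj hn, hnS⟩) (hA0.cj hn).ne
  rcases hD with rfl | ⟨h1, h2⟩
  · exfalso
    apply hDX
    refine le_trans (le_inf ((f.cs_le a).trans f.BT) ?_) (f.cent_U a)
    exact inf_le_right.trans (centralizer_le f.U_le)
  · have h3 := hAV D h1 h2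
    refine ⟨D, h1, h3, hDX, offM_of_opt h1 hVc f.U_le fun h0 => ?_⟩
    exact hDX ((le_inf (h3.trans f.BT) h0).trans (f.cent_U a))

/-- `V_H ≤ V'` -/
theorem zl_le_V' (hn : NotFF (zl (S : Subgroup G) H)) :
    zl (S : Subgroup G) H ≤ VL (S : Subgroup G) (LH (S : Subgroup G) H) := by
  have h1 := (root_LH (f.SH a) f.char2 hn).zl_le_V
  rwa [zl_LH (f.SH a)] at h1

/-- `B' ≤ C_S(V_H)` -/
theorem WH_le' : WH (S : Subgroup G) (LH (S : Subgroup G) H) ≤
    (S : Subgroup G) ⊓ centralizer (zl (S : Subgroup G) H : Set G) := by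
  have h1 := WH_le (S : Subgroup G) (LH (S : Subgroup G) H)
  unfold QL at h1
  rwa [zl_LH (f.SH a)] at h1

theorem WH_le_B : WH (S : Subgroup G) (LH (S : Subgroup G) H) ≤ B := (f.WH_le' a).trans (f.cs_le a)

/-- **(β)** `V_H` is not FF, its w.c. closure `V'` is not in `O₂(C_G(Z))`. -/
theorem beta (hG : IsCharacteristicTwoType G) (hOff : StmtOff G) (hSne : (S : Subgroup G) ≠ ⊥)
    (hn : NotFF (zl (S : Subgroup G) H))
    (hV : ¬ VL (S : Subgroup G) (LH (S : Subgroup G) H) ≤ o2 (centralizer (zc (S : Subgroup G) : Set G))) :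
    ∃ F, MaxBad (VL (S : Subgroup G) (LH (S : Subgroup G) H)) F ∧
      Flat.WW (VL (S : Subgroup G) (LH (S : Subgroup G) H)) F ≤ B ∧
      ¬ Flat.WW (VL (S : Subgroup G) (LH (S : Subgroup G) H)) F ≤ o2 X ∧
      OffM (cl (VB (S : Subgroup G) B) X) (Flat.WW (VL (S : Subgroup G) (LH (S : Subgroup G) H)) F) := by
  have h := root_LH (f.SH a) f.char2 hn
  set V' := VL (S : Subgroup G) (LH (S : Subgroup G) H) with hV'
  obtain ⟨F0, hF0, hS0, hne0⟩ := exists_WW hG hSne h hV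
  rw [zl_LH (f.SH a)] at hne0
  have hWB : ∀ F, MaxBad V' F → Flat.WW V' F ≤ (S : Subgroup G) → Flat.WW V' F ≤ B := by
    intro F hF hFS
    refine le_trans (le_inf hFS ?_) a.cs.le
    by_contra hne
    have hoff := off_of hG hOff h hF hFS (f.V_le.trans (f.zl_le_V' a hn)) a.low hne
    have h3 := a.nff _ (WW_pgroup _ _) (hFS.trans a.lines.S_le) hoff.sq hoff.comm hne
    exact absurd (FFThm.relIndex_le_iff.1 hoff.le) (not_le.2 h3)
  obtain ⟨D, hD, hDX⟩ := f.exists_nle a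
    (Fam := {D | D = WH (S : Subgroup G) (LH (S : Subgroup G) H) ∨
      ∃ F, MaxBad V' F ∧ Flat.WW V' F = D ∧ Flat.WW V' F ≤ (S : Subgroup G)}) (by
      rintro D (rfl | ⟨F, hF, rfl, hFS⟩)
      · exact f.WH_le_B a
      · exact hWB F hF hFS) (by
      intro g hg hgS
      have hgM : g ∈ ML (S : Subgroup G) (LH (S : Subgroup G) H) := mem_ML_of_le (hgS _ (Or.inl rfl))
      rintro D (rfl | ⟨F, hF, rfl, hFS⟩)
      · rw [cj_eq_of_mem_normalizer hgM]
        exact le_sSup (Or.inl rfl)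
      · have h1 := WW_cj (F := F) (ML_le_norm_V _ _ hgM)
        have h2 := hgS _ (Or.inr ⟨F, hF, rfl, hFS⟩)
        rw [← h1] at h2 ⊢
        exact le_sSup (Or.inr ⟨cj g F, hF.cj (ML_le_norm_V _ _ hgM), rfl, h2⟩))
    (D₀ := Flat.WW V' F0) (Or.inr ⟨F0, hF0, rfl, hS0⟩) hne0
  rcases hD with rfl | ⟨F, hF, rfl, hFS⟩
  · exfalso
    apply hDX
    refine le_trans (le_inf ((f.WH_le_B a).trans f.BT) ?_) (f.cent_U a)
    exact (f.WH_le' a).trans (inf_le_right.trans (centralizer_le f.U_le))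
  · have h3 := hWB F hF hFS
    refine ⟨F, hF, h3, hDX, off_of hG hOff h hF hFS (f.U_le.trans (f.zl_le_V' a hn)) (f.U_low a)
      fun h0 => ?_⟩
    exact hDX ((le_inf (h3.trans f.BT) h0).trans (f.cent_U a))

/-- `V_H` is not FF, `V' ≤ O₂(C_G(Z))`: `B'` is admissible and smaller. -/
theorem closed (hn : NotFF (zl (S : Subgroup G) H))
    (hV : VL (S : Subgroup G) (LH (S : Subgroup G) H) ≤ o2 (centralizer (zc (S : Subgroup G) : Set G))) :
    Adm S L (WH (S : Subgroup G) (LH (S : Subgroup G) H)) ∧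
      WH (S : Subgroup G) (LH (S : Subgroup G) H) ≤ B ∧ WH (S : Subgroup G) (LH (S : Subgroup G) H) ≠ B := by
  have h := root_LH (f.SH a) f.char2 hn
  have h1 := Adm.of_root h hV
  refine ⟨⟨h1.wc, (f.WH_le_B a).trans a.le, h1.cs, h1.comm, h1.sq, h1.nff, h1.low⟩, f.WH_le_B a, fun h0 => ?_⟩
  apply f.nle
  have h2 : zl (S : Subgroup G) H ≤ VB (S : Subgroup G) B := by
    have h3 := f.zl_le_V' a hn
    have h4 : VL (S : Subgroup G) (LH (S : Subgroup G) H) =
        VB (S : Subgroup G) (WH (S : Subgroup G) (LH (S : Subgroup G) H)) := rfl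
    rwa [h4, h0] at h3
  have h3 : cl (VB (S : Subgroup G) B) X = VB (S : Subgroup G) B :=
    le_antisymm (f.U_le.trans h2) (le_cl _ _)
  have h4 := le_normalizer_cl (VB (S : Subgroup G) B) X
  rwa [h3] at h4

/-- **THE LOCAL EXIT**: `B` minimal admissible: `γ` or `β`. -/
theorem main (hG : IsCharacteristicTwoType G) (hOff : StmtOff G) (hSne : (S : Subgroup G) ≠ ⊥)
    (hmin : ∀ B', Adm S L B' → B' ≤ B → B' = B) :
    (¬ NotFF (zl (S : Subgroup G) H) ∧
      ∃ A, Opt (zl (S : Subgroup G) H) A ∧ A ≤ B ∧ ¬ A ≤ o2 X ∧ OffM (cl (VB (S : Subgroup G) B) X) A) ∨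
    (NotFF (zl (S : Subgroup G) H) ∧
      ¬ VL (S : Subgroup G) (LH (S : Subgroup G) H) ≤ o2 (centralizer (zc (S : Subgroup G) : Set G)) ∧
      ∃ F, MaxBad (VL (S : Subgroup G) (LH (S : Subgroup G) H)) F ∧
        Flat.WW (VL (S : Subgroup G) (LH (S : Subgroup G) H)) F ≤ B ∧
        ¬ Flat.WW (VL (S : Subgroup G) (LH (S : Subgroup G) H)) F ≤ o2 X ∧
        OffM (cl (VB (S : Subgroup G) B) X) (Flat.WW (VL (S : Subgroup G) (LH (S : Subgroup G) H)) F)) := by
  by_cases hn : NotFF (zl (S : Subgroup G) H)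
  · by_cases hV : VL (S : Subgroup G) (LH (S : Subgroup G) H) ≤ o2 (centralizer (zc (S : Subgroup G) : Set G))
    · obtain ⟨h1, h2, h3⟩ := f.closed a hn hV
      exact absurd (hmin _ h1 h2) h3
    · exact Or.inr ⟨hn, hV, f.beta a hG hOff hSne hn hV⟩
  · exact Or.inl ⟨hn, f.gamma a hn⟩

/-- **THE LOCAL EXIT**, short form: some `A ≤ B`, `A ≰ O₂(X)`, offends on `U = ⟨V^X⟩`. -/
theorem exists_off (hG : IsCharacteristicTwoType G) (hOff : StmtOff G) (hSne : (S : Subgroup G) ≠ ⊥)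
    (hmin : ∀ B', Adm S L B' → B' ≤ B → B' = B) :
    ∃ A, A ≤ B ∧ ¬ A ≤ o2 X ∧ OffM (cl (VB (S : Subgroup G) B) X) A := by
  rcases f.main a hG hOff hSne hmin with ⟨-, A, -, h1, h2, h3⟩ | ⟨-, -, F, -, h1, h2, h3⟩
  · exact ⟨A, h1, h2, h3⟩
  · exact ⟨_, h1, h2, h3⟩

end Fr

/-! ### with ALPHA (`AlphaEnd.exists_local`) -/

/-- `L` normalises every weakly closed subgroup of `S` in `C_S(V_L)`. -/
theorem L_le_norm {L B : Subgroup G} (h : Root S L) (hB : WC (S : Subgroup G) B)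
    (hle : B ≤ QL (S : Subgroup G) L) : L ≤ normalizer (B : Set G) := by
  intro l hl
  rw [mem_normalizer_iff_cj]
  refine hB.eq l ?_
  have h1 := cj_mono l hle
  have h2 : cj l (QL (S : Subgroup G) L) = QL (S : Subgroup G) L := cj_eq_of_mem_normalizer (h.cs hl)
  rw [h2] at h1
  exact h1.trans inf_le_left

/-- **NotFF reduces to the local exit.** `Root S L` (`L = P`, `V_P` not FF), `V_P ≤ O₂(C_G(Z))`,
`⟨L, C_G(Z)⟩` not 2-local. Then there is a minimal admissible `B`, `V = VB S B`, and the configuration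
`Fl S V F T`, `Z ≤ F`, and for every `X` with `Par V F T X` the group `H = ⟨N_G(B), X⟩` is 2-local and some
`A ≤ B`, `A ≰ O₂(X)`, offends on `U = ⟨V^X⟩` (more precisely: `Fr.main`). -/
theorem exit (hA : FFBr.AStmt.{u}) (hFF : FFThm.Stmt.{u}) (hG : IsCharacteristicTwoType G) (hOff : StmtOff G)
    (hSne : (S : Subgroup G) ≠ ⊥) {L : Subgroup G} (h : Root S L)
    (hz : zl (S : Subgroup G) L ≤ o2 (centralizer (zc (S : Subgroup G) : Set G)))
    (hnl : ∀ R : Subgroup G, R ≠ ⊥ → IsPGroup 2 R → L ≤ normalizer (R : Set G) →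
      ¬ centralizer (zc (S : Subgroup G) : Set G) ≤ normalizer (R : Set G)) :
    ∃ B, Adm S L B ∧ (∀ B', Adm S L B' → B' ≤ B → B' = B) ∧ L ≤ normalizer (B : Set G) ∧
      ∃ F T, Alpha.Fl S (VB (S : Subgroup G) B) F T ∧ zc (S : Subgroup G) ≤ F ∧
        (∃ X, EZero.Par (VB (S : Subgroup G) B) F T X) ∧
        ∀ X, EZero.Par (VB (S : Subgroup G) B) F T X →
          (∃ R : Subgroup G, R ≠ ⊥ ∧ IsPGroup 2 R ∧ normalizer (B : Set G) ⊔ X ≤ normalizer (R : Set G)) ∧
          Fr S B (normalizer (B : Set G) ⊔ X) X T ∧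
          ∃ A, A ≤ B ∧ ¬ A ≤ o2 X ∧ OffM (cl (VB (S : Subgroup G) B) X) A := by
  have hZne : zc (S : Subgroup G) ≠ ⊥ := MinSimple.Basic.zc_ne_bot S.isPGroup' hSne
  obtain ⟨B, a, -, hmin⟩ := exists_min (Adm.of_root h (h.low hG hOff hz hZne))
  have hLB := L_le_norm h a.wc a.le
  have hnz : ¬ centralizer (zc (S : Subgroup G) : Set G) ≤ normalizer (VB (S : Subgroup G) B : Set G) :=
    hnl _ (fun h0 => hZne (le_bot_iff.1 (a.lines.ZV.trans h0.le))) (NoEmp.pgroup_of_sq a.sq)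
      (hLB.trans (le_normalizer_zl _ _))
  obtain ⟨F, T, f, hZ, hX, hall⟩ := AlphaEnd.exists_local hA hFF hG a.lines hnz
  rw [a.cs] at hall
  refine ⟨B, a, hmin, hLB, F, T, f, hZ, hX, fun X p => ?_⟩
  obtain ⟨R, hR, hR2, h1, h2⟩ := hall X p
  have h3 := sup_le h1 h2
  have hQ := f.Q0_le
  rw [a.cs] at hQ
  have fr : Fr S B (normalizer (B : Set G) ⊔ X) X T :=
    { NB := le_sup_left
      XH := le_sup_right
      gen := le_rfl
      char2 := char2_of_loc hG ((wc_S_le a.wc).trans le_sup_left) hR2 hR h3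
      TS := f.T_le
      BT := hQ
      syl := f.sylX p
      mp := f.isMinPar a.lines p
      XZ := p.le.trans (centralizer_le hZ)
      nle := p.nle }
  exact ⟨⟨R, hR, hR2, h3⟩, fr, fr.exists_off a hG hOff hSne hmin⟩

end Cfsg.Agent.Omega.NO3b.Exit
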