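import Cfsg.Agent.Omega.NO3b.K0.Mix.Main
import Cfsg.Agent.Omega.NO3b.K0.Mix.One
import Cfsg.Agent.Omega.NO3b.K0.FullOff

/-!
# One noncentral chief factor (duality), for a single panel

`Pan V F T X L Q0` with `¬ Two V X` : `[U, O₂(X)] ≤ F`, duality, `[U₀, O₂(X)] = 1`, `U₀ = [U, O²(X)]`;
`exists_fix` : if `A ≤ T`, `A ≰ O₂(X)`, acts on `U₀` as an elementary abelian offender, then some element of
`C_{U₀}(T)` is moved by `O²(X)`.
-/

set_option autoImplicit false

namespace Cfsg.Agent.Omega.NO3b.K0.Mix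

open Subgroup Cfsg Cfsg.Agent.ZN Cfsg.Agent.ZN.ChoiceBase Cfsg.Agent.ZN.ChoiceSit
open Cfsg.Agent.MinSimple.MinParabolic (IsMinPar)
open Cfsg.Agent.MinSimple.VModule (oddGen oddGen_le mem_oddGen le_normalizer_oddGen oddGen_le_of_sup)
open Cfsg.Agent.Omega.NO3b.EZero
open Cfsg.Agent.Omega.NO3S.NotFF (commutator_le_of_odd le_centralizer_of_commutator commutator_commutator_eq
  normalizer_commutator le_normalizer_bot)
open Cfsg.Agent.Omega.NO3b.Dual (Dat)
open Cfsg.Agent.Omega.NO3b.CTwo (Sit)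
open Cfsg.Agent.Omega.NO3b.CTwo.Sit (rr)
open scoped commutatorElement

universe u

variable {G : Type u} [Group G]

namespace Pan

variable {V F T X L Q0 : Subgroup G} (h : Pan V F T X L Q0)
include h

omit h in
theorem U0_le : (⁅cl V X, oddGen X⁆ : Subgroup G) ≤ cl V X :=
  CTwo.Sit.commutator_le_of_norm ((oddGen_le X).trans (le_normalizer_cl V X))

omit h in
theorem X_norm_U0 : X ≤ normalizer ((⁅cl V X, oddGen X⁆ : Subgroup G) : Set G) :=
  normalizer_commutator (le_normalizer_cl V X) (le_normalizer_oddGen X)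

variable [Finite G]

omit h [Finite G] in
theorem one_of (hX : ¬ Two V X) : One V X := by
  intro N h1 h2 h3
  by_contra h4
  exact hX ⟨N, h1.trans U0_le, h2, fun h5 => h3 (le_antisymm h1 h5), h4⟩

/-- `[U₀, Q] = 1` -/
theorem o2_cent_U0 (hX : ¬ Two V X) : o2 X ≤ centralizer ((⁅cl V X, oddGen X⁆ : Subgroup G) : Set G) := by
  have h1 := h.dual (one_of hX) le_rfl (ChoiceSit.le_normalizer_o2 X) fun u hu k hk => h.comm_Q (one_of hX) hu hk
  rw [commutator_eq_bot_iff_le_centralizer] at h1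
  exact cent_symm h1

theorem U0_not_cent : ¬ (⁅cl V X, oddGen X⁆ : Subgroup G) ≤ centralizer (oddGen X : Set G) := by
  intro h0
  have h1 := h.U0_comm
  rw [commutator_eq_bot_iff_le_centralizer.2 h0] at h1
  exact h.U_not_cent (commutator_eq_bot_iff_le_centralizer.1 h1.symm)

/-- **An offender on `U₀`, one noncentral chief factor**: `O²(X)` moves `C_{U₀}(T)`. -/
theorem exists_fix (hX : ¬ Two V X) (hno : NoOv X) (hfull : FullOff T X) {A : Subgroup G} (hAT : A ≤ T)
    (hAX : ¬ A ≤ o2 X) (hsq : ∀ a ∈ A, a ^ 2 ∈ centralizer (cl V X : Set G))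
    (hcm : ∀ a ∈ A, ∀ b ∈ A, a * b * a⁻¹ * b⁻¹ ∈ centralizer (cl V X : Set G))
    (hoff : (centralizer (A : Set G)).relIndex ⁅cl V X, oddGen X⁆ ≤
      (centralizer ((⁅cl V X, oddGen X⁆ : Subgroup G) : Set G)).relIndex A) :
    ∃ y ∈ (⁅cl V X, oddGen X⁆ : Subgroup G), y ∈ centralizer (T : Set G) ∧ y ∉ centralizer (oddGen X : Set G) := by
  set U0 : Subgroup G := ⁅cl V X, oddGen X⁆ with hU0
  have hAXle : A ≤ X := hAT.trans h.T_le_X
  have hU0X : X ≤ normalizer (U0 : Set G) := X_norm_U0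
  have hQ := h.o2_cent_U0 hX
  have hnc := h.U0_not_cent
  -- elements of `T` centralising `U` lie in `O₂(X)`
  have hTU : ∀ t ∈ T, t ∈ centralizer (cl V X : Set G) → t ∈ o2 X := by
    intro t ht hc
    refine (h.le_o2_of_cent_U (R := T ⊓ centralizer (cl V X : Set G)) (h.isPGroup_T.to_le inf_le_left)
      (inf_le_left.trans h.T_le_X) inf_le_right) ⟨ht, hc⟩
  have hsq' : ∀ a ∈ A, a ^ 2 ∈ o2 X := fun a ha => hTU _ (pow_mem (hAT ha) 2) (hsq a ha)
  have hcm' : ∀ a ∈ A, ∀ b ∈ A, a * b * a⁻¹ * b⁻¹ ∈ o2 X := fun a ha b hb =>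
    hTU _ (mul_mem (mul_mem (mul_mem (hAT ha) (hAT hb)) (inv_mem (hAT ha))) (inv_mem (hAT hb))) (hcm a ha b hb)
  -- `A ∩ C(U₀) = A ∩ O₂(X)`
  have hrel : (centralizer (U0 : Set G)).relIndex A = (o2 X).relIndex A := by
    rw [← inf_relIndex_right, ← inf_relIndex_right (o2 X)]
    congr 1
    apply le_antisymm
    · refine le_inf ?_ inf_le_right
      exact h.le_o2_of_cent hU0X hnc (h.isPGroup_T.to_le (inf_le_right.trans hAT)) (inf_le_right.trans hAXle)
        inf_le_left
    · exact inf_le_inf_right _ hQ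
  rw [hrel] at hoff
  -- the full preimage
  have hcO : X ≤ normalizer ((centralizer (oddGen X : Set G) : Subgroup G) : Set G) := by
    intro x hx
    rw [mem_normalizer_iff_cj, cj_centralizer, mem_normalizer_iff_cj.1 (le_normalizer_oddGen X hx)]
  let D : Subgroup G :=
    { carrier := {y | y ∈ U0 ∧ ∀ a ∈ A, ⁅y, a⁆ ∈ centralizer (oddGen X : Set G)}
      one_mem' := ⟨one_mem _, fun a _ => by rw [commutatorElement_one_left]; exact one_mem _⟩
      mul_mem' := by
        rintro y z ⟨hy, hy'⟩ ⟨hz, hz'⟩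
        refine ⟨mul_mem hy hz, fun a ha => ?_⟩
        have e1 : ⁅y * z, a⁆ = (y * ⁅z, a⁆ * y⁻¹) * ⁅y, a⁆ := by
          simp only [commutatorElement_def]; group
        rw [e1]
        exact mul_mem ((mem_normalizer_iff.1 (hcO (h.U_le_X (U0_le hy))) _).1 (hz' a ha)) (hy' a ha)
      inv_mem' := by
        rintro y ⟨hy, hy'⟩
        have e1 : y⁻¹ = y := inv_eq_of_mul_eq_one_left (by
          have := h.U_sq y (U0_le hy)
          rwa [pow_two] at this)
        rw [e1]
        exact ⟨hy, hy'⟩ }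
  have hDle : D ≤ U0 := fun y hy => hy.1
  have hN : X ≤ normalizer ((U0 ⊓ centralizer (oddGen X : Set G) : Subgroup G) : Set G) :=
    norm_inf hU0X hcO
  have h1 : (o2 X).relIndex A ≤ D.relIndex U0 := by
    refine hno (U0 ⊓ centralizer (oddGen X : Set G)) U0 A D inf_le_left (U0_le.trans h.U_le_X)
      (fun y hy => h.U_sq y (U0_le hy)) (U0_le.trans (h.U_comm.trans (centralizer_le U0_le))) hN hU0X ?_ ?_
      hAXle hsq' hcm' hDle ?_
    · intro K hK1 hK2 hK3
      rcases h.one' (one_of hX) (hK2.trans U0_le) hK3 with h2 | h2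
      · exact Or.inl (le_antisymm (le_inf hK2 h2) hK1)
      · exact Or.inr (le_antisymm hK2 h2)
    · rw [h.U0_comm]
      exact fun h0 => hnc (h0.trans inf_le_right)
    · rw [commutator_le]
      intro y hy a ha
      refine ⟨?_, hy.2 a ha⟩
      have e1 : ⁅y, a⁆ = y * (a * y⁻¹ * a⁻¹) := by simp only [commutatorElement_def]; group
      rw [e1]
      exact U0.mul_mem hy.1 (conj_mem' hU0X (hAXle ha) (U0.inv_mem hy.1))
  have hCD : U0 ⊓ centralizer (A : Set G) ≤ D := by
    rintro y ⟨hy, hyc⟩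
    refine ⟨hy, fun a ha => ?_⟩
    have : ⁅y, a⁆ = 1 := by
      rw [commutatorElement_eq_one_iff_mul_comm]
      exact (mem_centralizer_iff.1 hyc a ha).symm
    rw [this]
    exact one_mem _
  have key : ∀ K L : Subgroup G, L.relIndex K * Nat.card ↥(K ⊓ L) = Nat.card K := by
    intro K L
    have e := relIndex_inf_mul_relIndex (⊥ : Subgroup G) L K
    rw [relIndex_bot_left, bot_inf_eq, relIndex_bot_left, mul_comm, inf_comm] at e
    exact e
  have k1 := key U0 D
  have k2 := key U0 (centralizer (A : Set G))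
  rw [inf_eq_right.2 hDle] at k1
  have k3 : Nat.card ↥(U0 ⊓ centralizer (A : Set G)) ≤ Nat.card D := Subgroup.card_le_of_le hCD
  have p1 : 0 < Nat.card U0 := Nat.card_pos
  have p2 : 0 < Nat.card ↥(U0 ⊓ centralizer (A : Set G)) := Nat.card_pos
  have h2 : D.relIndex U0 ≤ (centralizer (A : Set G)).relIndex U0 := by
    refine Nat.le_of_mul_le_mul_right (c := Nat.card ↥(U0 ⊓ centralizer (A : Set G))) ?_ p2
    rw [k2]
    exact (Nat.mul_le_mul_left _ k3).trans k1.le
  have h3 : D.relIndex U0 = (centralizer (A : Set G)).relIndex U0 := le_antisymm h2 (hoff.trans h1)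
  have h4 : U0 ⊓ centralizer (A : Set G) = D := by
    refine eq_of_le_of_card_ge hCD (le_of_eq ?_)
    have p3 : 0 < D.relIndex U0 := Nat.pos_of_ne_zero fun h0 => by rw [h0, zero_mul] at k1; omega
    rw [← h3, ← k1] at k2
    exact (Nat.eq_of_mul_eq_mul_left p3 k2).symm
  refine hfull U0 A (U0_le.trans h.U_le_X) (fun y hy => h.U_sq y (U0_le hy))
    (U0_le.trans (h.U_comm.trans (centralizer_le U0_le))) hU0X hQ h.U0_comm ?_ ?_ hAT hsq' hcm' hAX ?_ ?_
  · intro h0
    apply hnc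
    rw [← hU0, h0]
    exact bot_le
  · intro K hK1 hK2 hK3
    rcases h.one' (one_of hX) (hK1.trans U0_le) hK2 with h5 | h5
    · exact h5
    · exact absurd (le_antisymm hK1 h5) hK3
  · intro y hy hya
    have h5 : y ∈ D := ⟨hy, hya⟩
    rw [← h4] at h5
    exact h5.2
  · exact le_antisymm (h1.trans h2) hoff

end Pan

end Cfsg.Agent.Omega.NO3b.K0.Mix
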