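import Mathlib

/-!
# LEMMA DESCENT (helper255, bb 20076): `V₀ = U₁^k`, equivariantly

A group `H` acts on a finite additive group `V` of exponent 2, `X ≤ H` is normalised by the 2-group `S`,
`Z = C_V(S)`, `V = ⟨Z^X⟩`, and all `z ∈ Z#` have the same annihilator in the ring `ring X` generated by `X` in
`End V`.

* `orb X z` : the `X`-submodule generated by `z`;
* `Dat.irr` : `orb X z` is an irreducible `⟨X, S⟩`-module;
* `Dat.exists_iso` : for `z, z' ∈ Z#` there is an `X`- and `S`-equivariant isomorphism `orb X z ≃ orb X z'` which maps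
  `z` to `z'`;
* `Dat.exists_fam` : `V` is the direct sum of `orb X z`, `z ∈ F ⊆ Z#`;
* `Dat.exists_pow` : `V = U₁^k`, `X`- and `S`-equivariantly.
-/

set_option autoImplicit false

namespace Cfsg.Agent.Omega.NO3b.Exit.Descent

open Subgroup

universe u v

section base

variable {H : Type u} {V : Type v} [Group H] [AddCommGroup V] [DistribMulAction H V]

/-- `v ↦ x v` -/
def op (V : Type v) [AddCommGroup V] [DistribMulAction H V] (x : H) : AddMonoid.End V :=
  DistribMulAction.toAddMonoidEnd H V x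

theorem op_apply (x : H) (v : V) : op V x v = x • v := rfl

theorem op_mul (x y : H) : op V (x * y) = op V x * op V y := map_mul _ x y

theorem op_one : op V (1 : H) = 1 := map_one _

/-- the ring generated by `X` in `End V` -/
def ring (V : Type v) [AddCommGroup V] [DistribMulAction H V] (X : Subgroup H) :
    AddSubgroup (AddMonoid.End V) :=
  AddSubgroup.closure {a | ∃ x ∈ X, a = op V x}

theorem op_mem {X : Subgroup H} {x : H} (hx : x ∈ X) : op V x ∈ ring V X :=
  AddSubgroup.subset_closure ⟨x, hx, rfl⟩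

theorem one_mem' (X : Subgroup H) : (1 : AddMonoid.End V) ∈ ring V X := by
  rw [← op_one (H := H)]; exact op_mem X.one_mem

theorem op_mul_mem {X : Subgroup H} {x : H} (hx : x ∈ X) {a : AddMonoid.End V} (ha : a ∈ ring V X) :
    op V x * a ∈ ring V X := by
  have h : ring V X ≤ (ring V X).comap (AddMonoidHom.mulLeft (op V x)) := by
    refine (AddSubgroup.closure_le _).2 ?_
    rintro _ ⟨y, hy, rfl⟩
    change op V x * op V y ∈ ring V X
    rw [← op_mul]
    exact op_mem (X.mul_mem hx hy)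
  exact h ha

theorem conj_mem {X : Subgroup H} {s : H} (hs : ∀ x ∈ X, s * x * s⁻¹ ∈ X) {a : AddMonoid.End V}
    (ha : a ∈ ring V X) : op V s * a * op V s⁻¹ ∈ ring V X := by
  have h : ring V X ≤ (ring V X).comap
      ((AddMonoidHom.mulRight (op V s⁻¹)).comp (AddMonoidHom.mulLeft (op V s))) := by
    refine (AddSubgroup.closure_le _).2 ?_
    rintro _ ⟨y, hy, rfl⟩
    change op V s * op V y * op V s⁻¹ ∈ ring V X
    rw [← op_mul, ← op_mul]
    exact op_mem (hs y hy)
  exact h ha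

/-- an `X`-invariant subgroup is invariant under `ring X` -/
theorem apply_mem {X : Subgroup H} {A : AddSubgroup V} (hA : ∀ x ∈ X, ∀ v ∈ A, x • v ∈ A) {v : V} (hv : v ∈ A)
    {a : AddMonoid.End V} (ha : a ∈ ring V X) : a v ∈ A := by
  have h : ring V X ≤ A.comap (AddMonoidHom.eval v) := by
    refine (AddSubgroup.closure_le _).2 ?_
    rintro _ ⟨y, hy, rfl⟩
    exact hA y hy v hv
  exact h ha

/-- the `X`-submodule generated by `z` -/
def orb (X : Subgroup H) (z : V) : AddSubgroup V := (ring V X).map (AddMonoidHom.eval z)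

theorem mem_orb {X : Subgroup H} {z v : V} : v ∈ orb X z ↔ ∃ a ∈ ring V X, a z = v := Iff.rfl

theorem self_mem (X : Subgroup H) (z : V) : z ∈ orb X z := mem_orb.2 ⟨1, one_mem' X, rfl⟩

theorem smul_mem_orb {X : Subgroup H} {x : H} (hx : x ∈ X) {z v : V} (hv : v ∈ orb X z) : x • v ∈ orb X z := by
  obtain ⟨a, ha, rfl⟩ := mem_orb.1 hv
  exact mem_orb.2 ⟨op V x * a, op_mul_mem hx ha, rfl⟩

theorem orb_le {X : Subgroup H} {A : AddSubgroup V} (hA : ∀ x ∈ X, ∀ v ∈ A, x • v ∈ A) {z : V} (hz : z ∈ A) :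
    orb X z ≤ A := by
  intro v hv
  obtain ⟨a, ha, rfl⟩ := mem_orb.1 hv
  exact apply_mem hA hz ha

theorem smul_apply {s : H} {z : V} (hz : s • z = z)
    {a : AddMonoid.End V} : s • a z = (op V s * a * op V s⁻¹) z := by
  have h : s⁻¹ • z = z := by rw [inv_smul_eq_iff, hz]
  change s • a z = s • a (s⁻¹ • z)
  rw [h]

theorem smul_mem_orb' {X : Subgroup H} {s : H} (hs : ∀ x ∈ X, s * x * s⁻¹ ∈ X) {z : V} (hz : s • z = z) {v : V}
    (hv : v ∈ orb X z) : s • v ∈ orb X z := by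
  obtain ⟨a, ha, rfl⟩ := mem_orb.1 hv
  exact mem_orb.2 ⟨_, conj_mem hs ha, (smul_apply hz).symm⟩

/-- A 2-group fixes an element `≠ 0` of an invariant subgroup `≠ 0` of exponent 2. -/
theorem exists_fix [Finite V] {S : Subgroup H} (hS : IsPGroup 2 S) (h2 : ∀ v : V, v + v = 0) {A : AddSubgroup V}
    (hA : ∀ s ∈ S, ∀ v ∈ A, s • v ∈ A) (hne : A ≠ ⊥) : ∃ z ∈ A, z ≠ 0 ∧ ∀ s ∈ S, s • z = z := by
  classical
  have : Fact (Nat.Prime 2) := ⟨Nat.prime_two⟩
  let act : MulAction S A :=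
    { smul := fun s v => ⟨(s : H) • (v : V), hA s s.2 v v.2⟩
      one_smul := fun v => Subtype.ext (one_smul H (v : V))
      mul_smul := fun s t v => Subtype.ext (mul_smul (s : H) (t : H) (v : V)) }
  obtain ⟨a, ha, hane⟩ := (AddSubgroup.bot_or_exists_ne_zero A).resolve_left hne
  have hd : 2 ∣ Nat.card A := by
    have h1 : addOrderOf (⟨a, ha⟩ : A) = 2 := by
      refine addOrderOf_eq_prime (Subtype.ext ?_) fun h0 => hane (congrArg Subtype.val h0)
      change (2 : ℕ) • a = 0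
      rw [two_nsmul, h2]
    rw [← h1]
    exact addOrderOf_dvd_natCard _
  obtain ⟨b, hb, hne'⟩ := hS.exists_fixed_point_of_prime_dvd_card_of_fixed_point A hd
    (a := (0 : A)) (fun s => Subtype.ext (smul_zero (s : H)))
  exact ⟨b, b.2, fun h0 => hne' (Subtype.ext h0.symm), fun s hs => congrArg Subtype.val (hb ⟨s, hs⟩)⟩

/-- The situation. -/
structure Dat (V : Type v) [AddCommGroup V] [DistribMulAction H V] (X S : Subgroup H) : Prop where
  two : IsPGroup 2 S
  exp : ∀ v : V, v + v = 0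
  norm : ∀ s ∈ S, ∀ x ∈ X, s * x * s⁻¹ ∈ X
  gen : ∀ A : AddSubgroup V, (∀ x ∈ X, ∀ v ∈ A, x • v ∈ A) → (∀ z : V, (∀ s ∈ S, s • z = z) → z ∈ A) → A = ⊤
  ann : ∀ z z' : V, z ≠ 0 → (∀ s ∈ S, s • z = z) → (∀ s ∈ S, s • z' = z') → ∀ a ∈ ring V X, a z = 0 → a z' = 0

end base

namespace Dat

variable {H : Type u} {V : Type v} [Group H] [AddCommGroup V] [DistribMulAction H V] [Finite V]
  {X S : Subgroup H} (D : Dat V X S)
include D

omit [Finite V] in
theorem smul_S {s : H} (hs : s ∈ S) {z v : V} (hz : ∀ s ∈ S, s • z = z) (hv : v ∈ orb X z) : s • v ∈ orb X z :=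
  smul_mem_orb' (D.norm s hs) (hz s hs) hv

omit [Finite V] in
/-- The isomorphism. -/
theorem exists_iso {z z' : V} (hz : z ≠ 0) (hzS : ∀ s ∈ S, s • z = z) (hz' : z' ≠ 0)
    (hzS' : ∀ s ∈ S, s • z' = z') :
    ∃ f : orb X z ≃+ orb X z', (∀ x ∈ X, ∀ v w : orb X z, (w : V) = x • (v : V) → (f w : V) = x • (f v : V)) ∧
      (∀ s ∈ S, ∀ v w : orb X z, (w : V) = s • (v : V) → (f w : V) = s • (f v : V)) ∧
      ∀ v : orb X z, (v : V) = z → (f v : V) = z' := by
  have key : ∀ a ∈ ring V X, ∀ b ∈ ring V X, a z = b z ↔ a z' = b z' := by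
    intro a ha b hb
    constructor
    · intro h
      have h1 := D.ann z z' hz hzS hzS' (a - b) (sub_mem ha hb) (by
        change a z - b z = 0
        rw [h, sub_self])
      exact sub_eq_zero.1 h1
    · intro h
      have h1 := D.ann z' z hz' hzS' hzS (a - b) (sub_mem ha hb) (by
        change a z' - b z' = 0
        rw [h, sub_self])
      exact sub_eq_zero.1 h1
  have hc : ∀ v : orb X z, ∃ a ∈ ring V X, a z = v := fun v => mem_orb.1 v.2
  choose c hcm hcz using hc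
  have hc' : ∀ v : orb X z', ∃ a ∈ ring V X, a z' = v := fun v => mem_orb.1 v.2
  choose c' hcm' hcz' using hc'
  let f : orb X z ≃+ orb X z' :=
    { toFun := fun v => ⟨c v z', mem_orb.2 ⟨_, hcm v, rfl⟩⟩
      invFun := fun v => ⟨c' v z, mem_orb.2 ⟨_, hcm' v, rfl⟩⟩
      left_inv := fun v => Subtype.ext (by
        change c' _ z = v
        rw [← hcz v]
        exact (key _ (hcm' _) _ (hcm v)).2 (hcz' _))
      right_inv := fun v => Subtype.ext (by
        change c _ z' = v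
        rw [← hcz' v]
        exact (key _ (hcm _) _ (hcm' v)).1 (hcz _))
      map_add' := fun v w => Subtype.ext (by
        change c (v + w) z' = c v z' + c w z'
        refine (key _ (hcm _) (c v + c w) (add_mem (hcm v) (hcm w))).1 ?_
        change c (v + w) z = c v z + c w z
        rw [hcz, hcz, hcz]
        rfl) }
  have hf : ∀ v : orb X z, (f v : V) = c v z' := fun v => rfl
  refine ⟨f, ?_, ?_, ?_⟩
  · intro x hx v w hw
    rw [hf, hf]
    refine (key _ (hcm w) (op V x * c v) (op_mul_mem hx (hcm v))).1 ?_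
    rw [hcz, hw, ← hcz v]
    rfl
  · intro s hs v w hw
    rw [hf, hf, smul_apply (hzS' s hs)]
    refine (key _ (hcm w) _ (conj_mem (D.norm s hs) (hcm v))).1 ?_
    rw [hcz, hw, ← smul_apply (hzS s hs), hcz v]
  · intro v hv
    rw [hf]
    exact (key _ (hcm v) 1 (one_mem' X)).1 (by rw [hcz, hv]; rfl)

omit [Finite V] in
theorem card_orb {z z' : V} (hz : z ≠ 0) (hzS : ∀ s ∈ S, s • z = z) (hz' : z' ≠ 0)
    (hzS' : ∀ s ∈ S, s • z' = z') : Nat.card (orb X z) = Nat.card (orb X z') := by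
  obtain ⟨f, -⟩ := D.exists_iso hz hzS hz' hzS'
  exact Nat.card_congr f.toEquiv

/-- `orb X z` is irreducible. -/
theorem irr {z : V} (hz : z ≠ 0) (hzS : ∀ s ∈ S, s • z = z) {A : AddSubgroup V} (hA : A ≤ orb X z) (hne : A ≠ ⊥)
    (hX : ∀ x ∈ X, ∀ v ∈ A, x • v ∈ A) (hS : ∀ s ∈ S, ∀ v ∈ A, s • v ∈ A) : A = orb X z := by
  obtain ⟨z', hz'A, hz', hzS'⟩ := exists_fix D.two D.exp hS hne
  have h1 : orb X z' ≤ A := orb_le hX hz'A
  have h2 : Nat.card (orb X z) ≤ Nat.card A := by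
    rw [D.card_orb hz hzS hz' hzS']
    exact AddSubgroup.card_le_of_le h1
  exact AddSubgroup.eq_of_le_of_card_ge hA h2

/-- **`V` is a direct sum.** -/
theorem exists_fam : ∃ F : Finset V, (∀ z ∈ F, z ≠ 0 ∧ ∀ s ∈ S, s • z = z) ∧
    iSupIndep (fun z : F => orb X (z : V)) ∧ (⨆ z : F, orb X (z : V)) = ⊤ := by
  classical
  have : Fintype V := Fintype.ofFinite V
  let P : Finset (Finset V) := Finset.univ.filter fun F =>
    (∀ z ∈ F, z ≠ 0 ∧ ∀ s ∈ S, s • z = z) ∧ F.SupIndep (orb X)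
  have hP : P.Nonempty := ⟨∅, by
    rw [Finset.mem_filter]
    exact ⟨Finset.mem_univ _, by simp, Finset.supIndep_empty _⟩⟩
  obtain ⟨F, hF, hmax⟩ := P.exists_max_image Finset.card hP
  rw [Finset.mem_filter] at hF
  obtain ⟨-, hF1, hF2⟩ := hF
  refine ⟨F, hF1, hF2.independent, ?_⟩
  set B : AddSubgroup V := ⨆ z : F, orb X (z : V) with hB
  have hBX : ∀ x ∈ X, ∀ v ∈ B, x • v ∈ B := by
    intro x hx v hv
    have h : B ≤ B.comap (op V x) := iSup_le fun z w hw =>
      (le_iSup (fun z : F => orb X (z : V)) z) (smul_mem_orb hx hw)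
    exact h hv
  have hBS : ∀ s ∈ S, ∀ v ∈ B, s • v ∈ B := by
    intro s hs v hv
    have h : B ≤ B.comap (op V s) := iSup_le fun z w hw =>
      (le_iSup (fun z : F => orb X (z : V)) z) (D.smul_S hs (hF1 z z.2).2 hw)
    exact h hv
  refine D.gen B hBX fun z hzS => ?_
  by_contra hzB
  have hz0 : z ≠ 0 := fun h0 => hzB (h0 ▸ B.zero_mem)
  have hinf : orb X z ⊓ B = ⊥ := by
    by_contra hne
    have h := D.irr hz0 hzS (A := orb X z ⊓ B) inf_le_left hne
      (fun x hx v hv => ⟨smul_mem_orb hx hv.1, hBX x hx v hv.2⟩)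
      (fun s hs v hv => ⟨D.smul_S hs hzS hv.1, hBS s hs v hv.2⟩)
    exact hzB ((h.symm.le (self_mem X z)).2)
  have hzF : z ∉ F := fun hz => hzB ((le_iSup (fun z : F => orb X (z : V)) ⟨z, hz⟩) (self_mem X z))
  have hsup : F.sup (orb X) = B := by
    rw [Finset.sup_eq_iSup, hB, iSup_subtype]
  have h1 : (insert z F) ∈ P := by
    rw [Finset.mem_filter]
    refine ⟨Finset.mem_univ _, ?_, hF2.insert ?_⟩
    · intro w hw
      rcases Finset.mem_insert.1 hw with rfl | hw
      · exact ⟨hz0, hzS⟩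
      · exact hF1 w hw
    · rw [hsup, disjoint_iff, hinf]
  have h2 := hmax _ h1
  rw [Finset.card_insert_of_notMem hzF] at h2
  omega

/-- **`V = U₁^k`, `X`- and `S`-equivariantly.** -/
theorem exists_pow : ∃ (k : ℕ) (U : Fin k → AddSubgroup V),
    (∀ j, ∃ z : V, z ≠ 0 ∧ (∀ s ∈ S, s • z = z) ∧ U j = orb X z) ∧ iSupIndep U ∧ (⨆ j, U j) = ⊤ ∧
    ∀ i j, ∃ f : U i ≃+ U j, (∀ x ∈ X, ∀ v w : U i, (w : V) = x • (v : V) → (f w : V) = x • (f v : V)) ∧
      ∀ s ∈ S, ∀ v w : U i, (w : V) = s • (v : V) → (f w : V) = s • (f v : V) := by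
  obtain ⟨F, hF1, hF2, hF3⟩ := D.exists_fam
  let e : Fin F.card ≃ F := F.equivFin.symm
  refine ⟨F.card, fun j => orb X (e j : V), fun j => ⟨e j, (hF1 _ (e j).2).1, (hF1 _ (e j).2).2, rfl⟩,
    hF2.comp e.injective, ?_, ?_⟩
  · rw [← hF3]
    exact e.surjective.iSup_comp (fun z : F => orb X (z : V))
  · intro i j
    obtain ⟨f, h1, h2, -⟩ := D.exists_iso (hF1 _ (e i).2).1 (hF1 _ (e i).2).2 (hF1 _ (e j).2).1 (hF1 _ (e j).2).2
    exact ⟨f, h1, h2⟩

end Dat

end Cfsg.Agent.Omega.NO3b.Exit.Descent
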