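import Cfsg.Agent.Omega.NO3b.Exit.TenSchur
import Cfsg.Agent.Omega.NO3b.Exit.Descent

/-!
# Descent (helper255, bb 20076), part 2: one block `A ⊗_K E`

`Y` acts irreducibly on the finite additive group `A` of exponent 2, `K = KK Y A = End_Y(A)`, and `Y` induces all
`K`-transvections of `A`; `T ≤ Y` a subgroup of odd index (a Sylow 2-subgroup).

* `fix_line` : `C_A(T) ≤ K n` for `0 ≠ n ∈ C_A(T)`;
* `img Y A U` : `⟨f a | f ∈ Hom_Y(A, U), a ∈ A⟩ = A ⊗ E`;
* `exists_of_fix` : `w ∈ img`, fixed by `T`, is `f n` for some `f ∈ Hom_Y(A, U)`;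
* `ann_blk` : two elements `w ≠ 0`, `w'` of `img` fixed by `T`: every element of the ring generated by `Y` which kills
  `w` kills `w'`.
-/

set_option autoImplicit false

namespace Cfsg.Agent.Omega.NO3b.Exit.Descent

open Subgroup Cfsg.Agent.Omega.NO3b.Exit.Ten

universe u v w

section blk

variable {Y : Type u} {A : Type v} [Group Y] [AddCommGroup A] [DistribMulAction Y A] [Finite A] [hI : IsIrr Y A]

/-- `Y` induces all transvections -/
def AllTv (Y : Type u) (A : Type v) [Group Y] [AddCommGroup A] [DistribMulAction Y A] [Finite A] [IsIrr Y A] :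
    Prop :=
  ∀ (φ : Module.Dual (KK Y A) A) (a : A), φ a = 0 → ∃ k : Y, ∀ x : A, k • x = x + φ x • a

/-- `C_A(T)` is a line. -/
theorem fix_line (htv : AllTv Y A) (two : ∀ a : A, a + a = 0) {T : Subgroup Y} (hT : ¬ 2 ∣ T.index)
    {n : A} (hn0 : n ≠ 0) (hn : ∀ t ∈ T, t • n = n) {n' : A} (hn' : ∀ t ∈ T, t • n' = n') :
    ∃ κ : KK Y A, n' = κ • n := by
  classical
  by_contra hcon
  push Not at hcon
  have hTn : T ≤ MulAction.stabilizer Y n := fun t ht => hn t ht
  let Yn := MulAction.stabilizer Y n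
  let O : Set A := MulAction.orbit Yn n'
  -- the orbit has odd length
  have hodd : ¬ 2 ∣ Nat.card O := by
    have h1 : Nat.card O = (MulAction.stabilizer Yn n').index := by
      rw [Subgroup.index]
      exact Nat.card_congr (MulAction.orbitEquivQuotientStabilizer Yn n')
    have h2 : T.subgroupOf Yn ≤ MulAction.stabilizer Yn n' := fun t ht => hn' (t : Y) ht
    have h3 : (MulAction.stabilizer Yn n').index ∣ (T.subgroupOf Yn).index := Subgroup.index_dvd_of_le h2
    have h4 : (T.subgroupOf Yn).index ∣ T.index := by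
      have := Subgroup.relIndex_mul_index hTn
      exact ⟨_, this.symm⟩
    intro h5
    exact hT ((h5.trans (h1 ▸ h3)).trans h4)
  -- translation by `n`
  have hmem : ∀ x ∈ O, x + n ∈ O := by
    rintro x ⟨y, rfl⟩
    have hx : ∀ κ : KK Y A, (y : Y) • n' ≠ κ • n := by
      intro κ hκ
      apply hcon κ
      have hy : (y : Y)⁻¹ • n = n := by rw [inv_smul_eq_iff]; exact (MulAction.mem_stabilizer_iff.1 y.2).symm
      calc n' = (y : Y)⁻¹ • (y : Y) • n' := (inv_smul_smul _ _).symm
        _ = (y : Y)⁻¹ • κ • n := by rw [hκ]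
        _ = κ • (y : Y)⁻¹ • n := (KK.smul_smul_comm _ _ _).symm
        _ = κ • n := by rw [hy]
    -- a functional with `φ n = 0`, `φ (y n') = 1`
    have hli : (y : Y) • n' ∉ Submodule.span (KK Y A) ({n} : Set A) := by
      intro h
      obtain ⟨κ, hκ⟩ := Submodule.mem_span_singleton.1 h
      exact hx κ hκ.symm
    obtain ⟨φ, hφ1, hφ2⟩ := Submodule.exists_dual_map_eq_bot_of_notMem hli inferInstance
    have hφn : φ n = 0 := by
      have h : φ n ∈ (Submodule.span (KK Y A) ({n} : Set A)).map φ :=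
        ⟨n, Submodule.mem_span_singleton_self n, rfl⟩
      rw [hφ2, Submodule.mem_bot] at h
      exact h
    set c := φ ((y : Y) • n') with hc
    obtain ⟨k, hk⟩ := htv (c⁻¹ • φ) n (by rw [LinearMap.smul_apply, hφn, smul_zero])
    have hkn : k • n = n := by
      rw [hk, LinearMap.smul_apply, hφn, smul_zero, zero_smul, add_zero]
    have hky : k • (y : Y) • n' = (y : Y) • n' + n := by
      rw [hk, LinearMap.smul_apply, ← hc, smul_eq_mul, inv_mul_cancel₀ hφ1, one_smul]
    refine ⟨(⟨k, hkn⟩ : Yn) * y, ?_⟩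
    change (k * (y : Y)) • n' = (y : Y) • n' + n
    rw [mul_smul, hky]
  apply hodd
  have hfin : Fintype O := Fintype.ofFinite O
  have h6 : ∑ x : O, (1 : ZMod 2) = 0 := by
    refine Finset.sum_involution (fun x _ => (⟨(x : A) + n, hmem x x.2⟩ : O)) ?_ ?_ ?_ ?_
    · intro x _; decide
    · intro x _ _ h0
      apply hn0
      have h7 := congrArg Subtype.val h0
      exact left_eq_add.1 h7.symm
    · intro x _; exact Finset.mem_univ _
    · intro x _
      apply Subtype.ext
      change (x : A) + n + n = x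
      rw [add_assoc, two, add_zero]
  rw [Finset.sum_const, Finset.card_univ, nsmul_eq_mul, mul_one] at h6
  rw [Nat.card_eq_fintype_card]
  exact (ZMod.natCast_eq_zero_iff _ 2).1 h6

variable (Y A) in
/-- `A ⊗ E` -/
def img (U : Type w) [AddCommGroup U] [DistribMulAction Y U] : AddSubgroup U :=
  AddSubgroup.closure {u | ∃ (f : HomY Y A U) (a : A), u = (f : A →+ U) a}

variable {U : Type w} [AddCommGroup U] [DistribMulAction Y U]

omit [Finite A] hI in
theorem mem_img (f : HomY Y A U) (a : A) : (f : A →+ U) a ∈ img Y A U :=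
  AddSubgroup.subset_closure ⟨f, a, rfl⟩

/-- elements of `img` in coordinates -/
theorem exists_coord [Finite U] : ∃ (d : ℕ) (f : Fin d → HomY Y A U), LinearIndependent (KK Y A) f ∧
    ∀ w ∈ img Y A U, ∃ a : Fin d → A, w = ∑ i, (f i : A →+ U) (a i) := by
  have hfin : Finite (A →+ U) := Finite.of_injective (fun f => (f : A → U)) DFunLike.coe_injective
  have hfin2 : Finite (HomY Y A U) := inferInstance
  have hfin3 : Module.Finite (KK Y A) (HomY Y A U) := Module.Finite.of_finite
  let b := Module.finBasis (KK Y A) (HomY Y A U)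
  refine ⟨_, b, b.linearIndependent, fun w hw => ?_⟩
  let N : AddSubgroup U :=
    { carrier := {w | ∃ a : Fin (Module.finrank (KK Y A) (HomY Y A U)) → A, w = ∑ i, ((b i : HomY Y A U) : A →+ U) (a i)}
      zero_mem' := ⟨0, by simp⟩
      add_mem' := by
        rintro x y ⟨a, rfl⟩ ⟨c, rfl⟩
        refine ⟨a + c, ?_⟩
        rw [← Finset.sum_add_distrib]
        exact Finset.sum_congr rfl fun i _ => by rw [Pi.add_apply, map_add]
      neg_mem' := by
        rintro x ⟨a, rfl⟩
        refine ⟨-a, ?_⟩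
        rw [← Finset.sum_neg_distrib]
        exact Finset.sum_congr rfl fun i _ => by rw [Pi.neg_apply, map_neg] }
  have h : img Y A U ≤ N := by
    refine (AddSubgroup.closure_le _).2 ?_
    rintro _ ⟨f, a, rfl⟩
    refine ⟨fun i => b.repr f i • a, ?_⟩
    have e : f = ∑ i, b.repr f i • b i := (b.sum_repr f).symm
    conv_lhs => rw [e]
    rw [AddSubgroup.val_finsetSum, AddMonoidHom.finsetSum_apply]
    exact Finset.sum_congr rfl fun i _ => by rw [HomY.smul_apply]
  exact h hw

/-- a fixed element of `A ⊗ E` is pure -/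
theorem exists_of_fix [Finite U] (htv : AllTv Y A) (two : ∀ a : A, a + a = 0) {T : Subgroup Y}
    (hT : ¬ 2 ∣ T.index) {n : A} (hn0 : n ≠ 0) (hn : ∀ t ∈ T, t • n = n) {w : U} (hw : w ∈ img Y A U)
    (hwT : ∀ t ∈ T, t • w = w) : ∃ f : HomY Y A U, w = (f : A →+ U) n := by
  obtain ⟨d, f, hf, hco⟩ := exists_coord (Y := Y) (A := A) (U := U)
  obtain ⟨a, rfl⟩ := hco w hw
  have h1 : ∀ t ∈ T, ∀ i, t • a i = a i := by
    intro t ht i
    have h2 := hwT t ht
    rw [Finset.smul_sum] at h2
    have h3 := HomY.ind hf Finset.univ (fun i => t • a i - a i) (by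
      rw [← sub_eq_zero.2 h2, ← Finset.sum_sub_distrib]
      exact Finset.sum_congr rfl fun i _ => by rw [map_sub, (f i).2]) i (Finset.mem_univ _)
    exact sub_eq_zero.1 h3
  choose κ hκ using fun i => fix_line htv two hT hn0 hn (fun t ht => h1 t ht i)
  refine ⟨∑ i, κ i • f i, ?_⟩
  rw [AddSubgroup.val_finsetSum, AddMonoidHom.finsetSum_apply]
  exact Finset.sum_congr rfl fun i _ => by rw [HomY.smul_apply, ← hκ]

omit [Finite A] hI in
/-- `f` commutes with the rings generated by `Y` -/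
theorem exists_ring (X : Subgroup Y) {c : AddMonoid.End U} (hc : c ∈ ring U X) :
    ∃ c' ∈ ring A X, ∀ (f : HomY Y A U) (a : A), c ((f : A →+ U) a) = (f : A →+ U) (c' a) := by
  induction hc using AddSubgroup.closure_induction with
  | mem c hc =>
    obtain ⟨x, hx, rfl⟩ := hc
    exact ⟨op A x, op_mem hx, fun f a => (f.2 x a).symm⟩
  | zero => exact ⟨0, zero_mem _, fun f a => (map_zero (f : A →+ U)).symm⟩
  | add c d _ _ hc hd =>
    obtain ⟨c', hc', h1⟩ := hc
    obtain ⟨d', hd', h2⟩ := hd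
    refine ⟨c' + d', add_mem hc' hd', fun f a => ?_⟩
    change c ((f : A →+ U) a) + d ((f : A →+ U) a) = (f : A →+ U) (c' a + d' a)
    rw [h1, h2, map_add]
  | neg c _ hc =>
    obtain ⟨c', hc', h1⟩ := hc
    refine ⟨-c', neg_mem hc', fun f a => ?_⟩
    change - c ((f : A →+ U) a) = (f : A →+ U) (- c' a)
    rw [h1, map_neg]

/-- **(ANN) for one block.** -/
theorem ann_blk [Finite U] (htv : AllTv Y A) (two : ∀ a : A, a + a = 0) {T : Subgroup Y} (hT2 : IsPGroup 2 T)
    (hT : ¬ 2 ∣ T.index) {w w' : U} (hw : w ∈ img Y A U) (hwT : ∀ t ∈ T, t • w = w) (hw0 : w ≠ 0)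
    (hw' : w' ∈ img Y A U) (hwT' : ∀ t ∈ T, t • w' = w') {c : AddMonoid.End U} (hc : c ∈ ring U (⊤ : Subgroup Y))
    (h0 : c w = 0) : c w' = 0 := by
  obtain ⟨n, -, hn0, hn⟩ := exists_fix (V := A) (H := Y) hT2 two (A := ⊤) (fun _ _ _ _ => trivial) (by
    intro h
    obtain ⟨a, ha⟩ := hI.ne
    have : a ∈ (⊤ : AddSubgroup A) := trivial
    rw [h] at this
    exact ha this)
  obtain ⟨f, rfl⟩ := exists_of_fix htv two hT hn0 hn hw hwT
  obtain ⟨f', rfl⟩ := exists_of_fix htv two hT hn0 hn hw' hwT'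
  obtain ⟨c', -, hcc⟩ := exists_ring (A := A) ⊤ hc
  have hf0 : f ≠ 0 := by
    rintro rfl
    exact hw0 rfl
  rw [hcc] at h0 ⊢
  have h1 : c' n = 0 := HomY.inj hf0 (h0.trans (map_zero _).symm)
  rw [h1, map_zero]

end blk

end Cfsg.Agent.Omega.NO3b.Exit.Descent
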