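import Cfsg.Agent.Omega.NO3b.Exit.BO

/-!
# The local exit of NotFF: TYPE 2 (#18053 (3), helper999)

`MB.typeTwo` : if `|B : N_B(V^g)| = 2` for one line `V^g` which is not `B`-invariant, then `T2 B V F`:
`|B : B ∩ O₂(X)| = 2`, `f(B) = |W|`, `C_W(B ∩ O₂(X)) = C_W(B)`, `|B| |F| = |V|`, and for every line `V^x` which is
not `B`-invariant `W = V^x C_W(B)`, `V^x ∩ C_W(B) = F`, `N_B(V^x) = B ∩ O₂(X)` acts faithfully on `V^x`.
-/

set_option autoImplicit false

namespace Cfsg.Agent.Omega.NO3b.Exit.TT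

open Cfsg.Agent.Omega.FF.Basic Cfsg.Agent.Omega.FF.Quad
open Cfsg (pCore)
open scoped Pointwise

variable {X : Type*} [Group X] [Finite X] {W : Type*} [AddCommGroup W] [Finite W] [DistribMulAction X W]
  {S : Sylow 2 X} {V F : AddSubgroup W} {B : Subgroup X}

/-- The conclusion of (3) for the line `V^x`. -/
structure T2x (B : Subgroup X) (V F : AddSubgroup W) (x : X) : Prop where
  sup : x • V ⊔ fx W B = ⊤
  inf : x • V ⊓ fx W B = F
  nf_eq : B ⊓ nf X (x • V) = B ⊓ pCore 2 X
  cf_eq : B ⊓ pCore 2 X ⊓ cf X (x • V) = ⊥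
  inf₀ : x • V ⊓ fx W (B ⊓ pCore 2 X) = F

/-- The conclusion of (3): TYPE 2. -/
structure T2 (B : Subgroup X) (V F : AddSubgroup W) : Prop where
  idx : 2 * Nat.card ↥(B ⊓ pCore 2 X) = Nat.card B
  card : Nat.card B * Nat.card F = Nat.card V
  mm_eq : mm W B = Nat.card W
  fx_eq : fx W (B ⊓ pCore 2 X) = fx W B
  all : ∀ x : X, ¬ B ≤ nf X (x • V) → T2x B V F x

theorem card_inf_lt {G : Type*} [Group G] [Finite G] {A C : Subgroup G} (hA : IsPGroup 2 A) (hne : ¬ A ≤ C) :
    2 * Nat.card ↥(A ⊓ C) ≤ Nat.card A := by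
  have hf : Fact (Nat.Prime 2) := ⟨Nat.prime_two⟩
  have h1 : Nat.card ↥(A ⊓ C) < Nat.card A := by
    refine lt_of_le_of_ne (Subgroup.card_le_of_le inf_le_left) fun h => hne ?_
    have := Subgroup.eq_of_le_of_card_ge (inf_le_left : A ⊓ C ≤ A) h.ge
    rw [← this]; exact inf_le_right
  exact two_mul_le_of_pow (IsPGroup.iff_card.1 (hA.to_le inf_le_left)) (IsPGroup.iff_card.1 hA) h1

/-- The elements which are trivial on `W / F`. -/
def KF (X : Type*) [Group X] {W : Type*} [AddCommGroup W] [DistribMulAction X W] (F : AddSubgroup W)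
    (hF : ∀ x : X, ∀ f ∈ F, x • f = f) : Subgroup X where
  carrier := {x | ∀ w : W, x • w - w ∈ F}
  one_mem' := fun w => by rw [one_smul, sub_self]; exact F.zero_mem
  mul_mem' := fun {a b} ha hb w => by
    have e : (a * b) • w - w = (a • (b • w - w)) + (a • w - w) := by rw [mul_smul, smul_sub]; abel
    rw [e, hF a _ (hb w)]; exact F.add_mem (hb w) (ha w)
  inv_mem' := fun {a} ha w => by
    have h1 := ha (a⁻¹ • w)
    rw [smul_inv_smul] at h1
    have e : a⁻¹ • w - w = -(w - a⁻¹ • w) := by abel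
    rw [e]; exact F.neg_mem h1

namespace Dat

variable (h : Dat S V F)
include h

omit [Finite X] [Finite W] in
theorem KF_two {x : X} (hx : ∀ w : W, x • w - w ∈ F) : x * x = 1 := by
  apply h.faith
  intro w
  have h1 := h.Fx x _ (hx w)
  have h2 : x • x • w = (x • w - w) + x • w := by
    have := h1
    rw [smul_sub] at this
    rw [← this]; abel
  rw [mul_smul, h2]
  have h3 := h.two (x • w)
  have e : (x • w - w) + x • w = (x • w + x • w) - w := by abel
  rw [e, h3, zero_sub]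
  exact neg_eq_of_add_eq_zero_left (h.two w)

omit [Finite W] [Finite X] in
theorem KF_le : KF X F h.Fx ≤ pCore 2 X := by
  refine Lib.Cores.le_pCore ⟨fun a ha g => ?_⟩ ?_
  · intro w
    have h1 := ha (g⁻¹ • w)
    have h2 := h.Fx g _ h1
    have e : (g * a * g⁻¹) • w - w = g • (a • g⁻¹ • w - g⁻¹ • w) := by
      rw [smul_sub, smul_inv_smul, mul_smul, mul_smul]
    rw [e, h2]; exact h1
  · intro x
    refine ⟨1, Subtype.ext ?_⟩
    have := h.KF_two x.2
    simpa [pow_two] using this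

/-- `|V / F| > 2` -/
theorem two_lt : 2 * Nat.card F < Nat.card V := by
  by_contra hcon
  rw [not_lt] at hcon
  have hsq : ∀ a ∈ (S : Subgroup X), ∀ v ∈ V, a • a • v = v := by
    intro a ha v hv
    have hmem : a • v - v ∈ F := by
      by_contra hne
      -- `0`, `v`, `a v - v` in different cosets
      have hvF : v ∉ F := fun h0 => hne (by rw [h.Fx a v h0, sub_self]; exact F.zero_mem)
      have havV := nf_smul (h.SV ha) hv
      have havF : a • v ∉ F := fun h0 => hvF (by
        have := h.Fx a⁻¹ _ h0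
        rw [inv_smul_smul] at this
        rw [this]; exact h0)
      have h3 : F.relIndex V ≤ 2 := by
        have := card_mul_relIndex h.FV
        have p : 0 < Nat.card F := Nat.card_pos
        rw [← this] at hcon
        by_contra h4
        rw [not_le] at h4
        have : Nat.card F * 3 ≤ Nat.card F * F.relIndex V := Nat.mul_le_mul_left _ h4
        omega
      have h4 : F.relIndex V ≠ 1 := by
        intro h5
        rw [AddSubgroup.relIndex_eq_one] at h5
        exact hvF (h5 hv)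
      have h5 : F.relIndex V ≠ 0 := AddSubgroup.index_ne_zero_of_finite
      have h6 : F.relIndex V = 2 := by omega
      have h7 := AddSubgroup.add_mem_iff_of_index_two (H := F.addSubgroupOf V) h6 (a := ⟨a • v, havV⟩)
        (b := ⟨v, hv⟩)
      have h8 : a • v + v ∈ F := by
        have : (⟨a • v, havV⟩ + ⟨v, hv⟩ : V) ∈ F.addSubgroupOf V := by
          rw [h7]
          simp only [AddSubgroup.mem_addSubgroupOf]
          exact ⟨fun h9 => absurd h9 havF, fun h9 => absurd h9 hvF⟩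
        exact this
      apply hne
      have e : a • v - v = a • v + v - (v + v) := by abel
      rw [e, h.two, sub_zero]; exact h8
    have h1 := h.Fx a _ hmem
    have h2 : a • a • v = (a • v - v) + a • v := by
      rw [smul_sub] at h1
      rw [← h1]; abel
    have e : (a • v - v) + a • v = (a • v + a • v) - v := by abel
    rw [h2, e, h.two, zero_sub]
    exact neg_eq_of_add_eq_zero_left (h.two v)
  have h1 := h.nff S S.isPGroup' h.SV hsq h.mv
  have h2 : Nat.card F ≤ Nat.card ↥(V ⊓ fx W (S : Subgroup X)) := card_le (le_inf h.FV (h.F_fx _))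
  have h3 := card_inf_lt S.isPGroup' h.mv
  have h4 : Nat.card V * Nat.card ↥((S : Subgroup X) ⊓ cf X V) ≤
      Nat.card ↥(S : Subgroup X) * Nat.card ↥(V ⊓ fx W (S : Subgroup X)) := by
    calc Nat.card V * Nat.card ↥((S : Subgroup X) ⊓ cf X V)
        ≤ (2 * Nat.card F) * Nat.card ↥((S : Subgroup X) ⊓ cf X V) := Nat.mul_le_mul_right _ hcon
      _ = (2 * Nat.card ↥((S : Subgroup X) ⊓ cf X V)) * Nat.card F := by ring
      _ ≤ Nat.card ↥(S : Subgroup X) * Nat.card F := Nat.mul_le_mul_right _ h3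
      _ ≤ _ := Nat.mul_le_mul_left _ h2
  exact absurd h1 (not_lt.2 h4)

end Dat

namespace MB

variable (m : MB W B) (h : Dat S V F)
include m h

/-- (3) for one line -/
theorem one {g : X} (hg : ¬ B ≤ nf X (g • V)) (hidx : 2 * Nat.card ↥(B ⊓ nf X (g • V)) = Nat.card B) :
    T2x B V F g ∧ 2 * Nat.card ↥(B ⊓ pCore 2 X) = Nat.card B ∧ Nat.card B * Nat.card F = Nat.card V ∧
      mm W B = Nat.card W ∧ fx W (B ⊓ pCore 2 X) = fx W B := by
  set Bg := B ⊓ nf X (g • V) with hBg
  have hBgB : Bg < B := lt_of_le_of_ne inf_le_left fun h0 => hg (by rw [← h0]; exact inf_le_right)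
  have hinf : g • V ⊓ fx W B = F :=
    le_antisymm (fx_le h hg) (le_inf (h.F_le g) (h.F_fx B))
  have hs := card_sup_inf (g • V) (fx W B)
  rw [hinf, card_smul'] at hs
  have hW := m.card_le_mm
  have p1 : 0 < Nat.card (fx W B) := Nat.card_pos
  have pF : 0 < Nat.card F := Nat.card_pos
  have hVF : ¬ g • V ≤ F := by
    intro h0
    apply hg
    have h1 : g • V = F := le_antisymm h0 (h.F_le g)
    intro b _
    rw [mem_nf, h1, h.F_smul]
  have hne : Bg ≠ ⊥ := by
    intro h0
    have hc : Nat.card B = 2 := by rw [← hidx, h0, Subgroup.card_bot]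
    rw [mm, hc] at hW
    have h1 := card_le_top (g • V ⊔ fx W B)
    have h2 : Nat.card V * Nat.card (fx W B) ≤ 2 * Nat.card F * Nat.card (fx W B) := by
      rw [← hs]
      calc Nat.card ↥(g • V ⊔ fx W B) * Nat.card F ≤ (2 * Nat.card (fx W B)) * Nat.card F :=
            Nat.mul_le_mul_right _ (h1.trans hW)
        _ = _ := by ring
    exact absurd h.two_lt (not_lt.2 (Nat.le_of_mul_le_mul_right h2 p1))
  -- `C_W(B_g) = C_W(B)`
  have hfx : fx W Bg = fx W B := by
    refine (eq_of_card_le (fx_anti hBgB.le) ?_).symm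
    have h1 := m.two_mul h hBgB hne
    rw [mm, mm, ← hidx] at h1
    have p : 0 < 2 * Nat.card Bg := Nat.mul_pos (by norm_num) Nat.card_pos
    refine Nat.le_of_mul_le_mul_left ?_ p
    calc 2 * Nat.card Bg * Nat.card (fx W Bg) = 2 * (Nat.card Bg * Nat.card (fx W Bg)) := by ring
      _ ≤ _ := h1
  have hmv : ¬ Bg ≤ cf X (g • V) := by
    intro h0
    apply hVF
    rw [← hinf, ← hfx]
    exact le_inf le_rfl (le_cf.1 h0)
  set E := Bg ⊓ cf X (g • V) with hE
  have hea : EA Bg := m.bo.ea.mono hBgB.le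
  have h1 := h.nff' g hea.isPGroup inf_le_right
    (fun a ha v _ => by rw [smul_smul, hea a ha, one_smul]) hmv
  rw [hfx, hinf] at h1
  have hf : Fact (Nat.Prime 2) := ⟨Nat.prime_two⟩
  have h2 : 2 * (Nat.card Bg * Nat.card F) ≤ Nat.card V * Nat.card E := by
    refine two_mul_le_of_pow ?_ ?_ h1
    · obtain ⟨a, ha⟩ := IsPGroup.iff_card.1 hea.isPGroup
      obtain ⟨b, hb⟩ := card_pow h.two F
      exact ⟨a + b, by rw [ha, hb, pow_add]⟩
    · obtain ⟨a, ha⟩ := IsPGroup.iff_card.1 (hea.isPGroup.to_le (inf_le_left : E ≤ Bg))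
      obtain ⟨b, hb⟩ := card_pow h.two V
      exact ⟨b + a, by rw [ha, hb, pow_add]⟩
  have h3 : g • V ⊔ fx W B ≤ fx W E :=
    sup_le (le_cf.1 inf_le_right) (fx_anti (inf_le_left.trans hBgB.le))
  have h4 := card_le h3
  have h5 : mm W B ≤ mm W E := by
    rw [mm, mm, ← hidx]
    refine Nat.le_of_mul_le_mul_right ?_ pF
    calc 2 * Nat.card Bg * Nat.card (fx W B) * Nat.card F
        = 2 * (Nat.card Bg * Nat.card F) * Nat.card (fx W B) := by ring
      _ ≤ Nat.card V * Nat.card E * Nat.card (fx W B) := Nat.mul_le_mul_right _ h2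
      _ = Nat.card E * (Nat.card V * Nat.card (fx W B)) := by ring
      _ = Nat.card E * (Nat.card ↥(g • V ⊔ fx W B) * Nat.card F) := by rw [hs]
      _ = Nat.card E * Nat.card ↥(g • V ⊔ fx W B) * Nat.card F := by ring
      _ ≤ Nat.card E * Nat.card (fx W E) * Nat.card F :=
        Nat.mul_le_mul_right _ (Nat.mul_le_mul_left _ h4)
  have hE0 : E = ⊥ := by
    by_contra h0
    have h6 : 2 * mm W E ≤ mm W B := m.two_mul h (lt_of_le_of_lt (inf_le_left : E ≤ Bg) hBgB) h0
    have p : 0 < mm W B := Nat.mul_pos Nat.card_pos Nat.card_pos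
    omega
  rw [hE0, mm_bot] at h5
  have hmm : mm W B = Nat.card W := le_antisymm h5 hW
  rw [hE0, Subgroup.card_bot, mul_one] at h2
  -- equality everywhere
  have h6 : Nat.card ↥(g • V ⊔ fx W B) = Nat.card W ∧ Nat.card V = 2 * (Nat.card Bg * Nat.card F) := by
    have h7 := card_le_top (g • V ⊔ fx W B)
    have h8 : Nat.card W * Nat.card F = 2 * (Nat.card Bg * Nat.card F) * Nat.card (fx W B) := by
      rw [← hmm, mm, ← hidx]; ring
    have h9 : Nat.card W * Nat.card F ≤ Nat.card ↥(g • V ⊔ fx W B) * Nat.card F := by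
      rw [h8, hs]; exact Nat.mul_le_mul_right _ h2
    have h10 := le_antisymm h7 (Nat.le_of_mul_le_mul_right h9 pF)
    refine ⟨h10, ?_⟩
    have h11 : Nat.card V * Nat.card (fx W B) = 2 * (Nat.card Bg * Nat.card F) * Nat.card (fx W B) := by
      rw [← hs, h10, h8]
    exact Nat.eq_of_mul_eq_mul_right p1 h11
  have hsup : g • V ⊔ fx W B = ⊤ := by
    apply eq_of_card_le le_top
    rw [card_top, h6.1]
  -- `B_g ≤ O₂(X)`
  have hBgQ : Bg ≤ pCore 2 X := by
    refine le_trans (fun b hb => ?_) h.KF_le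
    intro w
    have hw : w ∈ g • V ⊔ fx W B := by rw [hsup]; exact AddSubgroup.mem_top w
    obtain ⟨v, hv, c, hc, rfl⟩ := mem_sup hw
    have e : b • (v + c) - (v + c) = (b • v - v) + (b • c - c) := by rw [smul_add]; abel
    rw [e, hc b (hBgB.le hb), sub_self, add_zero]
    exact m.comm_le h hg (hBgB.le hb) hb.2 hv
  have hBg0 : Bg = B ⊓ pCore 2 X :=
    le_antisymm (le_inf inf_le_left hBgQ) (le_inf inf_le_left (inf_le_right.trans (h.core_nf g)))
  refine ⟨⟨hsup, hinf, hBg0, ?_, ?_⟩, ?_, ?_, hmm, ?_⟩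
  · rw [← hBg0]; exact hE0
  · rw [← hBg0, hfx]; exact hinf
  · rw [← hBg0]; exact hidx
  · rw [h6.2, ← hidx]; ring
  · rw [← hBg0]; exact hfx

/-- **(3) TYPE 2** -/
theorem typeTwo {g : X} (hg : ¬ B ≤ nf X (g • V)) (hidx : 2 * Nat.card ↥(B ⊓ nf X (g • V)) = Nat.card B) :
    T2 B V F := by
  obtain ⟨-, h1, h2, h3, h4⟩ := m.one h hg hidx
  refine ⟨h1, h2, h3, h4, fun x hx => (m.one h hx ?_).1⟩
  have h5 : B ⊓ pCore 2 X ≤ B ⊓ nf X (x • V) := le_inf inf_le_left (inf_le_right.trans (h.core_nf x))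
  have h6 := Subgroup.card_le_of_le h5
  have h7 := card_inf_lt m.bo.ea.isPGroup hx
  omega

/-- TYPE 2 from `|B : B ∩ O₂(X)| = 2`, if `B` moves some line -/
theorem typeTwo' {g : X} (hg : ¬ B ≤ nf X (g • V)) (hidx : 2 * Nat.card ↥(B ⊓ pCore 2 X) = Nat.card B) :
    T2 B V F := by
  refine m.typeTwo h hg ?_
  have h5 : B ⊓ pCore 2 X ≤ B ⊓ nf X (g • V) := le_inf inf_le_left (inf_le_right.trans (h.core_nf g))
  have h6 := Subgroup.card_le_of_le h5
  have h7 := card_inf_lt m.bo.ea.isPGroup hg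
  omega

/-- `[W, B ∩ O₂(X)] ≤ F` in TYPE 2 -/
theorem T2.comm_core {B : Subgroup X} {V F : AddSubgroup W} (t : T2 B V F) (m : MB W B) (h : Dat S V F) {g : X}
    (hg : ¬ B ≤ nf X (g • V)) {b : X} (hb : b ∈ B ⊓ pCore 2 X) (w : W) : b • w - w ∈ F := by
  have tx := t.all g hg
  have hw : w ∈ g • V ⊔ fx W B := by rw [tx.sup]; exact AddSubgroup.mem_top w
  obtain ⟨v, hv, c, hc, rfl⟩ := mem_sup hw
  have e : b • (v + c) - (v + c) = (b • v - v) + (b • c - c) := by rw [smul_add]; abel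
  rw [e, hc b hb.1, sub_self, add_zero]
  have hb' : b ∈ B ⊓ nf X (g • V) := by rw [tx.nf_eq]; exact hb
  exact m.comm_le h hg hb.1 hb'.2 hv

end MB

end Cfsg.Agent.Omega.NO3b.Exit.TT
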