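import Cfsg.Agent.Omega.NO3b.Exit.BlkHX

/-!
# The blocks of `V` in LOC without (PR) (helper255, bb 20845), part 3: `P` is transitive on the blocks

`PF B O VP` : `B : Blk0 Y Q BB V F L C h M KV S`, `O = O²(P) ≤ M`, `VP = ⟨C_V(S)^O⟩`,

* (MIN) `N ≤ M`, normalised by `O` and `S`, contains `O` or `S ∩ N` centralises `VP`;
* (NE) `S ∩ YM` moves `VP`; (CZ) `C_V(S) ∩ C_V(O) = 0`.

Then `O_le` : `O ≤ YM`, `all_eq` : `V = Σ m V₁`, **`trans`** : `S` is transitive on the blocks, **`ann`** : `z ≠ 0`,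
`z' ∈ C_V(S)`: every element of the ring generated by `KV` which kills `z` kills `z'`.
-/

set_option autoImplicit false

open scoped Pointwise

namespace Cfsg.Agent.Omega.NO3b.Exit.BlkZ

open Subgroup Cfsg.Agent.Omega.NO3b.Exit Ten Descent
open Cfsg.Agent.Omega.NO3b.Exit.TBlk hiding Blk

universe u v

section grp

variable {Γ : Type u} [Group Γ] [Finite Γ]

theorem relIndex_sup_normal (S N : Subgroup Γ) [N.Normal] : S.relIndex (N ⊔ S) = S.relIndex N := by
  have h1 : S.relIndex N * N.relIndex (N ⊔ S) = (S ⊓ N).relIndex (N ⊔ S) := by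
    have := relIndex_inf_mul_relIndex S N (N ⊔ S)
    rwa [inf_eq_left.2 (le_sup_left : N ≤ N ⊔ S)] at this
  have h2 : N.relIndex S * S.relIndex (N ⊔ S) = (N ⊓ S).relIndex (N ⊔ S) := by
    have := relIndex_inf_mul_relIndex N S (N ⊔ S)
    rwa [inf_eq_left.2 (le_sup_right : S ≤ N ⊔ S)] at this
  rw [relIndex_sup_left] at h1
  rw [inf_comm, ← h1] at h2
  have h3 : N.relIndex S ≠ 0 := index_ne_zero_of_finite
  refine Nat.eq_of_mul_eq_mul_left (Nat.pos_of_ne_zero h3) ?_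
  rw [h2, mul_comm]

/-- a Sylow 2-subgroup of `K E`, `K`, `E` normal, is contained in `(S ∩ K) E` -/
theorem le_sup_of_syl {S K E : Subgroup Γ} [K.Normal] [E.Normal] (hS : IsPGroup 2 S) (ho : ¬ 2 ∣ S.index)
    (hKE : K ⊔ E = ⊤) : S ≤ (S ⊓ K) ⊔ E := by
  have hf : Fact (Nat.Prime 2) := ⟨Nat.prime_two⟩
  set L := (S ⊓ K) ⊔ E with hL
  have h1 : ¬ 2 ∣ L.index := by
    have e1 : K ⊔ L = ⊤ := by
      rw [eq_top_iff, ← hKE]
      exact sup_le le_sup_left (le_sup_right.trans le_sup_right)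
    have e2 : L.index = L.relIndex K := by
      rw [← relIndex_sup_normal L K, e1, relIndex_top_right]
    have e3 : L.relIndex K ∣ S.relIndex K := by
      rw [← inf_relIndex_right S K]
      exact relIndex_dvd_of_le_left K le_sup_left
    rw [e2]
    exact fun h => not_dvd_relIndex ho (h.trans e3)
  have hL2 : L ≤ S ⊔ E := sup_le (inf_le_left.trans le_sup_left) le_sup_right
  have h2 : L.relIndex (S ⊔ E) ∣ L.index := relIndex_dvd_index_of_le hL2
  have h3 : L.relIndex (S ⊔ E) ∣ E.relIndex S := by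
    have e1 := relIndex_mul_relIndex E L (S ⊔ E) le_sup_right hL2
    have e2 : E.relIndex (S ⊔ E) = E.relIndex S := relIndex_sup_right S E
    exact ⟨E.relIndex (S ⊓ K ⊔ E), by rw [← e2, ← e1, mul_comm]⟩
  have h4 : ∃ n, E.relIndex S = 2 ^ n := by
    obtain ⟨n, hn⟩ := IsPGroup.iff_card.1 hS
    obtain ⟨k, -, hk⟩ := (Nat.dvd_prime_pow Nat.prime_two).1 ((relIndex_dvd_card E S).trans hn.dvd)
    exact ⟨k, hk⟩
  obtain ⟨n, hn⟩ := h4
  rw [hn] at h3
  obtain ⟨k, -, hk⟩ := (Nat.dvd_prime_pow Nat.prime_two).1 h3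
  have h5 : L.relIndex (S ⊔ E) = 1 := by
    rcases Nat.eq_zero_or_pos k with h0 | h0
    · rw [hk, h0, pow_zero]
    · exfalso
      apply h1
      refine (dvd_trans ?_ h2)
      rw [hk]
      exact dvd_pow_self 2 h0.ne'
  exact le_sup_left.trans (relIndex_eq_one.1 h5)

end grp

namespace Blk0

variable {H : Type u} {U : Type v} [Group H] [Finite H] [AddCommGroup U] [DistribMulAction H U] [Finite U]
variable {Y Q BB : Subgroup H} {V F L C : AddSubgroup U} {h : H} {M KV S : Subgroup H}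
variable (B : Blk0 Y Q BB V F L C h M KV S)
include B

/-- the sum of the blocks outside the `S`-orbit of `m V₁` -/
def othS (_B : Blk0 Y Q BB V F L C h M KV S) (m : H) : AddSubgroup U :=
  AddSubgroup.closure {v | ∃ m' ∈ M, (∀ s ∈ S, (s * m) • V1 _B.dat ≠ m' • V1 _B.dat) ∧ v ∈ m' • V1 _B.dat}

omit [Finite H] [Finite U] in
theorem othS_le_all (m : H) : B.othS m ≤ B.all := (AddSubgroup.closure_le _).2 (by
  rintro v ⟨m', hm', -, hv⟩
  exact B.le_all hm' hv)

omit [Finite H] [Finite U] in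
theorem orbS_le_rest {m m' : H} (hm : m ∈ M) (hne : ∀ s ∈ S, (s * m) • V1 B.dat ≠ m' • V1 B.dat) :
    B.orbS m ≤ B.rest m' := (AddSubgroup.closure_le _).2 (by
  rintro v ⟨s, hs, hv⟩
  exact AddSubgroup.subset_closure ⟨s * m, mul_mem (B.SM hs) hm, fun e => hne s hs e.symm, hv⟩)

omit [Finite H] [Finite U] in
theorem othS_le_rest {m m' s : H} (hs : s ∈ S) (e : (s * m) • V1 B.dat = m' • V1 B.dat) :
    B.othS m ≤ B.rest m' := (AddSubgroup.closure_le _).2 (by
  rintro v ⟨m'', hm'', hne, hv⟩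
  exact AddSubgroup.subset_closure ⟨m'', hm'', fun e' => hne s hs (e.trans e'), hv⟩)

omit [Finite H] [Finite U] in
/-- blocks outside the orbit -/
theorem orbS_le_othS {m m' : H} (hm' : m' ∈ M) (hne : ∀ s ∈ S, (s * m) • V1 B.dat ≠ m' • V1 B.dat) :
    B.orbS m' ≤ B.othS m := (AddSubgroup.closure_le _).2 (by
  rintro v ⟨s, hs, hv⟩
  refine AddSubgroup.subset_closure ⟨s * m', mul_mem (B.SM hs) hm', fun t ht e => ?_, hv⟩
  refine hne (s⁻¹ * t) (mul_mem (inv_mem hs) ht) ?_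
  rw [mul_assoc, mul_smul, e, mul_smul s m', inv_smul_smul])

omit [Finite H] [Finite U] in
theorem smul_othS {m s : H} (hs : s ∈ S) {v : U} (hv : v ∈ B.othS m) : s • v ∈ B.othS m := by
  induction hv using AddSubgroup.closure_induction with
  | mem v hv =>
    obtain ⟨m', hm', hne, hv⟩ := hv
    refine AddSubgroup.subset_closure ⟨s * m', mul_mem (B.SM hs) hm', fun t ht e => ?_, ?_⟩
    · refine hne (s⁻¹ * t) (mul_mem (inv_mem hs) ht) ?_
      rw [mul_assoc, mul_smul, e, mul_smul s m', inv_smul_smul]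
    · rw [mul_smul]
      exact AddSubgroup.smul_mem_pointwise_smul _ _ _ hv
  | zero => rw [smul_zero]; exact zero_mem _
  | add a b _ _ ha hb => rw [smul_add]; exact add_mem ha hb
  | neg a _ ha => rw [smul_neg]; exact neg_mem ha

theorem othS_K {m x : H} (hx : x ∈ KV) {v : U} (hv : v ∈ B.othS m) : x • v ∈ B.othS m := by
  induction hv using AddSubgroup.closure_induction with
  | mem v hv =>
    obtain ⟨m', hm', hne, hv⟩ := hv
    exact AddSubgroup.subset_closure ⟨m', hm', hne, B.smul_V1_K hm' hx hv⟩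
  | zero => rw [smul_zero]; exact zero_mem _
  | add a b _ _ ha hb => rw [smul_add]; exact add_mem ha hb
  | neg a _ ha => rw [smul_neg]; exact neg_mem ha

theorem orbS_K {m x : H} (hm : m ∈ M) (hx : x ∈ KV) {v : U} (hv : v ∈ B.orbS m) : x • v ∈ B.orbS m := by
  induction hv using AddSubgroup.closure_induction with
  | mem v hv =>
    obtain ⟨s, hs, hv⟩ := hv
    exact AddSubgroup.subset_closure ⟨s, hs, B.smul_V1_K (mul_mem (B.SM hs) hm) hx hv⟩
  | zero => rw [smul_zero]; exact zero_mem _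
  | add a b _ _ ha hb => rw [smul_add]; exact add_mem ha hb
  | neg a _ ha => rw [smul_neg]; exact neg_mem ha

theorem orb_disj {m : H} (hm : m ∈ M) {v : U} (h1 : v ∈ B.orbS m) (h2 : v ∈ B.othS m) : v = 0 := by
  refine B.all_sep' (B.orbS_le_all hm h1) fun m' hm' => ?_
  by_cases hex : ∃ s ∈ S, (s * m) • V1 B.dat = m' • V1 B.dat
  · obtain ⟨s, hs, e⟩ := hex
    exact B.othS_le_rest hs e h2
  · push Not at hex
    exact B.orbS_le_rest hm hex h1

omit [Finite H] [Finite U] in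
theorem orb_add {v : U} (hv : v ∈ B.all) (m : H) : ∃ a ∈ B.orbS m, ∃ b ∈ B.othS m, v = a + b := by
  induction hv using AddSubgroup.closure_induction with
  | mem v hv =>
    obtain ⟨m', hm', hv⟩ := hv
    by_cases hex : ∃ s ∈ S, (s * m) • V1 B.dat = m' • V1 B.dat
    · obtain ⟨s, hs, e⟩ := hex
      exact ⟨v, AddSubgroup.subset_closure ⟨s, hs, e ▸ hv⟩, 0, zero_mem _, (add_zero v).symm⟩
    · push Not at hex
      exact ⟨0, zero_mem _, v, AddSubgroup.subset_closure ⟨m', hm', hex, hv⟩, (zero_add v).symm⟩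
  | zero => exact ⟨0, zero_mem _, 0, zero_mem _, (add_zero 0).symm⟩
  | add a b _ _ ha hb =>
    obtain ⟨a1, ha1, a2, ha2, rfl⟩ := ha
    obtain ⟨b1, hb1, b2, hb2, rfl⟩ := hb
    exact ⟨_, add_mem ha1 hb1, _, add_mem ha2 hb2, by abel⟩
  | neg a _ ha =>
    obtain ⟨a1, ha1, a2, ha2, rfl⟩ := ha
    exact ⟨_, neg_mem ha1, _, neg_mem ha2, by abel⟩

omit [Finite H] [Finite U] B in
/-- the elements of `R` trivial on `W` -/
def fixer (R : Subgroup H) (W : AddSubgroup U) : Subgroup H where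
  carrier := {x | x ∈ R ∧ ∀ w ∈ W, x • w = w}
  one_mem' := ⟨one_mem _, fun w _ => one_smul _ w⟩
  mul_mem' := fun {a b} ha hb => ⟨mul_mem ha.1 hb.1, fun w hw => by rw [mul_smul, hb.2 w hw, ha.2 w hw]⟩
  inv_mem' := fun {a} ha => ⟨inv_mem ha.1, fun w hw => by rw [inv_smul_eq_iff, ha.2 w hw]⟩

omit [Finite H] [Finite U] B in
theorem fixer_conj {R : Subgroup H} {W : AddSubgroup U} {g n : H} (hR : g * n * g⁻¹ ∈ R)
    (hW : ∀ w ∈ W, g⁻¹ • w ∈ W) (hn : n ∈ fixer R W) : g * n * g⁻¹ ∈ fixer R W :=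
  ⟨hR, fun w hw => by rw [mul_smul, mul_smul, hn.2 _ (hW w hw), smul_inv_smul]⟩

/-- On an `S`-orbit of blocks the elements of `S ∩ YM` act as elements of `S` trivial on the other blocks. -/
theorem exists_K {m : H} (hm : m ∈ M) {s : H} (hs : s ∈ S) (hsY : s ∈ B.YM) :
    ∃ k ∈ S, k ∈ fixer B.YM (B.othS m) ∧ ∀ v ∈ B.orbS m, s • v = k • v := by
  let K : Subgroup B.YM := (fixer B.YM (B.othS m)).subgroupOf B.YM
  let E : Subgroup B.YM := (fixer B.YM (B.orbS m)).subgroupOf B.YM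
  have hK : K.Normal := ⟨fun n hn g => by
    rw [mem_subgroupOf] at hn ⊢
    exact fixer_conj (B.YM_conj (B.KM (B.YM_le g.2)) n.2) (fun w hw => B.othS_K (inv_mem (B.YM_le g.2)) hw) hn⟩
  have hE : E.Normal := ⟨fun n hn g => by
    rw [mem_subgroupOf] at hn ⊢
    exact fixer_conj (B.YM_conj (B.KM (B.YM_le g.2)) n.2) (fun w hw => B.orbS_K hm (inv_mem (B.YM_le g.2)) hw) hn⟩
  have hYMn : (B.YM.subgroupOf M).Normal := ⟨fun n hn g => by
    rw [mem_subgroupOf] at hn ⊢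
    exact B.YM_conj g.2 hn⟩
  have hodd : ¬ 2 ∣ (S.subgroupOf B.YM).index := by
    have h1 := not_dvd_relIndex (M := M) (S := S.subgroupOf M) (N := B.YM.subgroupOf M) B.syl
    rwa [relIndex_subgroupOf (B.YM_le.trans B.KM)] at h1
  have hKE : K ⊔ E = ⊤ := by
    rw [eq_top_iff]
    rintro ⟨x, hx⟩ -
    have key : ∀ x (hx : x ∈ B.YM), ∃ a ∈ K, ∃ b ∈ E, a * b = ⟨x, hx⟩ := by
      intro x hx
      induction hx using closure_induction with
      | mem x hx =>
        obtain ⟨m', hm', k, hk, rfl⟩ := hx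
        by_cases hex : ∃ s ∈ S, (s * m) • V1 B.dat = m' • V1 B.dat
        · obtain ⟨s, hs, e⟩ := hex
          refine ⟨⟨_, B.conj_mem_YM hm' hk⟩, ?_, 1, one_mem _, mul_one _⟩
          exact ⟨B.conj_mem_YM hm' hk, fun w hw => B.cent_rest hm' hk (B.othS_le_rest hs e hw)⟩
        · push Not at hex
          refine ⟨1, one_mem _, ⟨_, B.conj_mem_YM hm' hk⟩, ?_, one_mul _⟩
          exact ⟨B.conj_mem_YM hm' hk, fun w hw => B.cent_rest hm' hk (B.orbS_le_rest hm hex hw)⟩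
      | one => exact ⟨1, one_mem _, 1, one_mem _, mul_one _⟩
      | mul x y hx hy ihx ihy =>
        obtain ⟨a, ha, b, hb, e⟩ := ihx
        obtain ⟨a', ha', b', hb', e'⟩ := ihy
        refine ⟨a * (b * a' * b⁻¹), mul_mem ha (hK.conj_mem a' ha' b), b * b', mul_mem hb hb', ?_⟩
        have e2 : (⟨x * y, mul_mem hx hy⟩ : B.YM) = ⟨x, hx⟩ * ⟨y, hy⟩ := rfl
        rw [e2, ← e, ← e']
        group
      | inv x hx ih =>
        obtain ⟨a, ha, b, hb, e⟩ := ih
        refine ⟨b⁻¹ * a⁻¹ * b, ?_, b⁻¹, inv_mem hb, ?_⟩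
        · have h1 := hK.conj_mem a⁻¹ (inv_mem ha) b⁻¹
          rwa [inv_inv] at h1
        · have e2 : (⟨x⁻¹, inv_mem hx⟩ : B.YM) = (⟨x, hx⟩ : B.YM)⁻¹ := rfl
          rw [e2, ← e]
          group
    obtain ⟨a, ha, b, hb, e⟩ := key x hx
    rw [← e]
    exact mul_mem_sup ha hb
  have h1 := le_sup_of_syl (S := S.subgroupOf B.YM) (B.S2.comap_of_injective _ (subtype_injective _)) hodd hKE
    (show (⟨s, hsY⟩ : B.YM) ∈ S.subgroupOf B.YM from hs)
  obtain ⟨k, hk, e, he, h2⟩ := mem_sup_of_normal_right.1 h1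
  refine ⟨k, hk.1, hk.2, fun v hv => ?_⟩
  have h3 : (k : H) * (e : H) = s := congrArg Subtype.val h2
  have h4 : (e : H) • v = v := he.2 v hv
  rw [← h3, mul_smul, h4]

end Blk0

/-- The part of `P`. -/
structure PF {H : Type u} {U : Type v} [Group H] [AddCommGroup U] [DistribMulAction H U]
    {Y Q BB : Subgroup H} {V F L C : AddSubgroup U} {h : H} {M KV S : Subgroup H}
    (B : Blk0 Y Q BB V F L C h M KV S) (O : Subgroup H) (VP : AddSubgroup U) : Prop where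
  OM : O ≤ M
  gen : ∀ W : AddSubgroup U, (∀ o ∈ O, ∀ w ∈ W, o • w ∈ W) → (∀ v ∈ V, (∀ s ∈ S, s • v = v) → v ∈ W) → VP ≤ W
  fix : ∀ z ∈ V, (∀ s ∈ S, s • z = z) → z ∈ VP
  VO : ∀ o ∈ O, ∀ v ∈ VP, o • v ∈ VP
  min : ∀ N ≤ M, (∀ o ∈ O, ∀ n ∈ N, o * n * o⁻¹ ∈ N) → (∀ s ∈ S, ∀ n ∈ N, s * n * s⁻¹ ∈ N) →
    O ≤ N ∨ ∀ s ∈ S, s ∈ N → ∀ v ∈ VP, s • v = v
  ne : ∃ s ∈ S, s ∈ B.YM ∧ ∃ v ∈ VP, s • v ≠ v
  cz : ∀ z ∈ V, (∀ s ∈ S, s • z = z) → (∀ o ∈ O, o • z = z) → z = 0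

namespace PF

variable {H : Type u} {U : Type v} [Group H] [AddCommGroup U] [DistribMulAction H U]
variable {Y Q BB : Subgroup H} {V F L C : AddSubgroup U} {h : H} {M KV S O : Subgroup H} {VP : AddSubgroup U}
variable {B : Blk0 Y Q BB V F L C h M KV S} (P : PF B O VP)
include P

theorem O_le : O ≤ B.YM := by
  refine (P.min B.YM (B.YM_le.trans B.KM) (fun o ho n hn => B.YM_conj (P.OM ho) hn)
    fun s hs n hn => B.YM_conj (B.SM hs) hn).resolve_right fun h1 => ?_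
  obtain ⟨s, hs, hsY, v, hv, hne⟩ := P.ne
  exact hne (h1 s hs hsY v hv)

variable [Finite H] [Finite U]

theorem le_sum : V ≤ B.all := by
  intro v hv
  obtain ⟨a, ha, c, hc, hcY, rfl⟩ := B.gen_dec hv
  let W : AddSubgroup U :=
    { carrier := {c | c ∈ V ∧ ∀ x ∈ B.YM, x • c = c}
      zero_mem' := ⟨zero_mem _, fun x _ => smul_zero x⟩
      add_mem' := fun ha hb => ⟨add_mem ha.1 hb.1, fun x hx => by rw [smul_add, ha.2 x hx, hb.2 x hx]⟩
      neg_mem' := fun ha => ⟨neg_mem ha.1, fun x hx => by rw [smul_neg, ha.2 x hx]⟩ }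
  have hW : W = ⊥ := by
    by_contra hne
    obtain ⟨z, hz, hz0, hzS⟩ := exists_fix B.S2 B.dat.two (A := W) (fun s hs w hw =>
      ⟨B.mV s (B.SM hs) w hw.1, fun x hx => by
        have h1 : s⁻¹ * x * s ∈ B.YM := by
          have := B.YM_conj (inv_mem (B.SM hs)) hx
          rwa [inv_inv] at this
        have h2 := hw.2 _ h1
        rwa [mul_smul, mul_smul, inv_smul_eq_iff] at h2⟩) hne
    exact hz0 (P.cz z hz.1 hzS fun o ho => hz.2 o (P.O_le ho))
  have hc0 : c ∈ W := ⟨hc, hcY⟩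
  rw [hW, AddSubgroup.mem_bot] at hc0
  rw [hc0, add_zero]
  exact ha

theorem all_eq : B.all = V := le_antisymm B.all_le P.le_sum

/-- `V = m V₁ + rest`. -/
theorem exists_add (m : H) {v : U} (hv : v ∈ V) :
    ∃ a ∈ m • V1 B.dat, ∃ b ∈ B.rest m, v = a + b := B.mem_all (P.le_sum hv) m

/-- an element of `V` without components is zero -/
theorem inf_rest {v : U} (hvV : v ∈ V) (hv : ∀ m ∈ M, v ∈ B.rest m) : v = 0 := B.all_sep' (P.le_sum hvV) hv

/-- `VP = (VP ∩ orbit) + (other blocks)` -/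
theorem VP_dec {m : H} (hm : m ∈ M) {v : U} (hv : v ∈ VP) : ∃ a ∈ VP, a ∈ B.orbS m ∧ ∃ b ∈ B.othS m, v = a + b := by
  let W : AddSubgroup U :=
    { carrier := {v | ∃ a ∈ VP, a ∈ B.orbS m ∧ ∃ b ∈ B.othS m, v = a + b}
      zero_mem' := ⟨0, zero_mem _, zero_mem _, 0, zero_mem _, (add_zero 0).symm⟩
      add_mem' := by
        rintro _ _ ⟨a, ha, ha', b, hb, rfl⟩ ⟨c, hc, hc', d, hd, rfl⟩
        exact ⟨a + c, add_mem ha hc, add_mem ha' hc', b + d, add_mem hb hd, by abel⟩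
      neg_mem' := by
        rintro _ ⟨a, ha, ha', b, hb, rfl⟩
        exact ⟨-a, neg_mem ha, neg_mem ha', -b, neg_mem hb, by abel⟩ }
  have h1 : VP ≤ W := by
    refine P.gen W ?_ ?_
    · rintro o ho _ ⟨a, ha, ha', b, hb, rfl⟩
      have hoK := B.YM_le (P.O_le ho)
      exact ⟨o • a, P.VO o ho a ha, B.orbS_K hm hoK ha', o • b, B.othS_K hoK hb, smul_add _ _ _⟩
    · intro z hz hzS
      obtain ⟨a, ha, b, hb, rfl⟩ := B.orb_add (P.le_sum hz) m
      have haS : ∀ s ∈ S, s • a = a := by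
        intro s hs
        have h3 := hzS s hs
        rw [smul_add] at h3
        have h4 : s • a - a = b - s • b := by
          rw [sub_eq_sub_iff_add_eq_add, h3, add_comm]
        rw [← sub_eq_zero]
        refine B.orb_disj hm (sub_mem (B.smul_orbS hs ha) ha) ?_
        rw [h4]
        exact sub_mem hb (B.smul_othS hs hb)
      exact ⟨a, P.fix a (B.all_le (B.orbS_le_all hm ha)) haS, ha, b, hb, rfl⟩
  exact h1 hv

/-- **`S` is transitive on the blocks.** -/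
theorem trans {m m' : H} (hm : m ∈ M) (hm' : m' ∈ M) : ∃ s ∈ S, (s * m) • V1 B.dat = m' • V1 B.dat := by
  -- some orbit with `O ≤ K`
  have hex : ∃ m0 ∈ M, O ≤ Blk0.fixer B.YM (B.othS m0) := by
    by_contra hcon
    push Not at hcon
    obtain ⟨s, hs, hsY, v, hv, hne⟩ := P.ne
    apply hne
    rw [← sub_eq_zero]
    have hvV : v ∈ V := by
      have h1 : VP ≤ V := P.gen V (fun o ho w hw => B.mV o (P.OM ho) w hw) fun v hv _ => hv
      exact h1 hv
    refine P.inf_rest (sub_mem (B.mV s (B.SM hs) v hvV) hvV) fun m1 hm1 => ?_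
    obtain ⟨a, ha, ha', b, hb, e⟩ := P.VP_dec hm1 hv
    obtain ⟨k, hkS, hk, hks⟩ := B.exists_K hm1 hs hsY
    have h1 := (P.min (Blk0.fixer B.YM (B.othS m1)) (fun x hx => B.KM (B.YM_le hx.1))
      (fun o ho n hn => Blk0.fixer_conj (B.YM_conj (P.OM ho) hn.1)
        (fun w hw => B.othS_K (inv_mem (B.YM_le (P.O_le ho))) hw) hn)
      (fun t ht n hn => Blk0.fixer_conj (B.YM_conj (B.SM ht) hn.1)
        (fun w hw => B.smul_othS (inv_mem ht) hw) hn)).resolve_left (hcon m1 hm1)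
    have h2 : s • a = a := by rw [hks a ha', h1 k hkS hk a ha]
    rw [e]
    have e2 : s • (a + b) - (a + b) = (s • a - a) + (s • b - b) := by rw [smul_add]; abel
    rw [e2, h2, sub_self, zero_add]
    have h3 : s • b - b ∈ B.othS m1 := sub_mem (B.smul_othS hs hb) hb
    exact B.othS_le_rest (one_mem S) (by rw [one_mul]) h3
  obtain ⟨m0, hm0, hO⟩ := hex
  have key : ∀ m1 ∈ M, ∃ s ∈ S, (s * m0) • V1 B.dat = m1 • V1 B.dat := by
    intro m1 hm1
    by_contra hcon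
    push Not at hcon
    obtain ⟨z, hz, hzS, hzr⟩ := B.exists_comp hm1
    apply hzr
    rw [P.cz z (B.all_le (B.orbS_le_all hm1 hz)) hzS fun o ho => (hO ho).2 z (B.orbS_le_othS hm1 hcon hz)]
    exact zero_mem _
  obtain ⟨s, hs, e⟩ := key m hm
  obtain ⟨s', hs', e'⟩ := key m' hm'
  refine ⟨s' * s⁻¹, mul_mem hs' (inv_mem hs), ?_⟩
  rw [← e', mul_smul, ← e, ← mul_smul, mul_assoc, inv_mul_cancel_left]

/-- the component of a fixed point is nonzero -/
theorem comp_ne {z : U} (hz0 : z ≠ 0) (hzV : z ∈ V) (hz : ∀ s ∈ S, s • z = z) {m : H} (hm : m ∈ M) :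
    z ∉ B.rest m := by
  intro h1
  refine hz0 (P.inf_rest hzV fun m' hm' => ?_)
  obtain ⟨s, hs, e⟩ := P.trans hm hm'
  have h2 := B.smul_rest (B.SM hs) h1
  rw [hz s hs] at h2
  rwa [B.rest_congr e] at h2

/-- **(ANN)** -/
theorem ann {z z' : U} (hzV : z ∈ V) (hz0 : z ≠ 0) (hz : ∀ s ∈ S, s • z = z) (hzV' : z' ∈ V)
    (hz' : ∀ s ∈ S, s • z' = z') {c : AddMonoid.End U} (hc : c ∈ ring U KV) (h0 : c z = 0) : c z' = 0 := by
  have hcV : c z' ∈ V := apply_mem (X := KV) (fun k hk v hv => B.mV k (B.KM hk) v hv) hzV' hc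
  refine P.inf_rest hcV fun m hm => ?_
  obtain ⟨a, ha, b, hb, e⟩ := P.exists_add m hzV
  obtain ⟨a', ha', b', hb', e'⟩ := P.exists_add m hzV'
  have hca : c a ∈ m • V1 B.dat := apply_mem (fun x hx v hv => B.smul_V1_K hm hx hv) ha hc
  have hcb : c b ∈ B.rest m := apply_mem (fun x hx v hv => B.rest_K hm hx hv) hb hc
  have hcb' : c b' ∈ B.rest m := apply_mem (fun x hx v hv => B.rest_K hm hx hv) hb' hc
  have h1 : c a = 0 := by
    rw [e, map_add] at h0
    have h2 : c a ∈ m • V1 B.dat ⊓ B.rest m := by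
      refine AddSubgroup.mem_inf.2 ⟨hca, ?_⟩
      rw [eq_neg_of_add_eq_zero_left h0]
      exact neg_mem hcb
    rwa [B.indep hm, AddSubgroup.mem_bot] at h2
  have ha0 : a ≠ 0 := by
    intro h2
    apply P.comp_ne hz0 hzV hz hm
    rw [e, h2, zero_add]
    exact hb
  have h3 : c a' = 0 := B.ann_comp hm ha ha0 (fun s hs hsY => B.comp_fix hm ha hb e (hz s hs) (B.YM_le hsY)) ha'
    (fun s hs hsY => B.comp_fix hm ha' hb' e' (hz' s hs) (B.YM_le hsY)) hc h1
  rw [e', map_add, h3, zero_add]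
  exact hcb'

end PF

end Cfsg.Agent.Omega.NO3b.Exit.BlkZ
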