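import Cfsg.Agent.Omega.NO3b.Exit.Descent

/-!
# Descent (helper255, bb 20076), part 3: group form

`V` an elementary abelian 2-subgroup of the finite group `G`, normalised by `X` and by the 2-group `S`, `S ≤ N_G(X)`,
`V = ⟨C_V(S)^X⟩`, and all elements `≠ 1` of `C_V(S)` have the same annihilator in `F₂[X]` (`GDat`).

* `GDat.exists_pow` : `V` is the direct product of subgroups `U j`, `j : Fin k`, normalised by `X` and `S`, irreducible
  under `⟨X, S⟩`, and for all `i`, `j` there is an `X`- and `S`-equivariant isomorphism `U i ≃* U j`.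
-/

set_option autoImplicit false

namespace Cfsg.Agent.Omega.NO3b.Exit.Descent

open Subgroup

universe u

variable {G : Type u} [Group G]

/-- `V` as a module for `H ≤ N_G(V)`. -/
def VM {H V : Subgroup G} (_ : H ≤ normalizer (V : Set G)) (_ : V ≤ centralizer (V : Set G)) : Type u :=
  Additive ↥V

namespace VM

variable {H V : Subgroup G} {hH : H ≤ normalizer (V : Set G)} {hV : V ≤ centralizer (V : Set G)}

/-- the underlying element -/
def val (v : VM hH hV) : G := ((Additive.toMul v : ↥V) : G)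

def mk (g : G) (hg : g ∈ V) : VM hH hV := Additive.ofMul ⟨g, hg⟩

theorem val_mk (g : G) (hg : g ∈ V) : (mk g hg : VM hH hV).val = g := rfl

theorem val_mem (v : VM hH hV) : v.val ∈ V := (Additive.toMul v : ↥V).2

theorem ext {v w : VM hH hV} (h : v.val = w.val) : v = w := Subtype.ext h

instance : AddCommGroup (VM hH hV) :=
  { (inferInstance : AddGroup (Additive ↥V)) with
    add_comm := fun v w => ext (mem_centralizer_iff.1 (hV (val_mem w)) _ (val_mem v)) }

theorem val_add (v w : VM hH hV) : (v + w).val = v.val * w.val := rfl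

theorem val_zero : (0 : VM hH hV).val = 1 := rfl

theorem val_neg (v : VM hH hV) : (-v).val = v.val⁻¹ := rfl

instance : DistribMulAction H (VM hH hV) where
  smul h v := mk ((h : G) * v.val * (h : G)⁻¹) ((mem_normalizer_iff.1 (hH h.2) _).1 v.val_mem)
  one_smul v := ext (by change (1 : G) * v.val * (1 : G)⁻¹ = v.val; group)
  mul_smul h k v := ext (by
    change ((h * k : H) : G) * v.val * ((h * k : H) : G)⁻¹ = h * (k * v.val * (k : G)⁻¹) * (h : G)⁻¹
    rw [Subgroup.coe_mul]; group)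
  smul_zero h := ext (by change (h : G) * 1 * (h : G)⁻¹ = 1; group)
  smul_add h v w := ext (by
    change (h : G) * (v.val * w.val) * (h : G)⁻¹ = h * v.val * (h : G)⁻¹ * (h * w.val * (h : G)⁻¹)
    group)

theorem val_smul (h : H) (v : VM hH hV) : (h • v).val = h * v.val * (h : G)⁻¹ := rfl

instance [Finite G] : Finite (VM hH hV) := Finite.of_injective (fun v => v.val) fun _ _ h => ext h

/-- the subgroup of `G` -/
def toG (A : AddSubgroup (VM hH hV)) : Subgroup G where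
  carrier := {g | ∃ hg : g ∈ V, (mk g hg : VM hH hV) ∈ A}
  one_mem' := ⟨one_mem _, A.zero_mem⟩
  mul_mem' := by
    rintro x y ⟨hx, hx'⟩ ⟨hy, hy'⟩
    exact ⟨mul_mem hx hy, A.add_mem hx' hy'⟩
  inv_mem' := by
    rintro x ⟨hx, hx'⟩
    exact ⟨inv_mem hx, A.neg_mem hx'⟩

/-- the subgroup of the module -/
def ofG (K : Subgroup G) : AddSubgroup (VM hH hV) where
  carrier := {v | v.val ∈ K}
  zero_mem' := K.one_mem
  add_mem' := fun {v w} (hv : v.val ∈ K) (hw : w.val ∈ K) => K.mul_mem hv hw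
  neg_mem' := fun {v} (hv : v.val ∈ K) => K.inv_mem hv

theorem mem_toG {A : AddSubgroup (VM hH hV)} {g : G} : g ∈ toG A ↔ ∃ hg : g ∈ V, (mk g hg : VM hH hV) ∈ A := Iff.rfl

theorem mem_ofG {K : Subgroup G} {v : VM hH hV} : v ∈ (ofG K : AddSubgroup (VM hH hV)) ↔ v.val ∈ K := Iff.rfl

theorem val_mem_toG {A : AddSubgroup (VM hH hV)} {v : VM hH hV} (hv : v ∈ A) : v.val ∈ toG A := ⟨v.val_mem, hv⟩

theorem of_val_mem {A : AddSubgroup (VM hH hV)} {v : VM hH hV} (hv : v.val ∈ toG A) : v ∈ A := hv.2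

theorem toG_le (A : AddSubgroup (VM hH hV)) : toG A ≤ V := fun _ h => h.1

theorem toG_mono {A B : AddSubgroup (VM hH hV)} (h : A ≤ B) : toG A ≤ toG B := fun _ hg => ⟨hg.1, h hg.2⟩

theorem toG_top : toG (⊤ : AddSubgroup (VM hH hV)) = V :=
  le_antisymm (toG_le _) fun _ hg => ⟨hg, trivial⟩

theorem toG_bot : toG (⊥ : AddSubgroup (VM hH hV)) = ⊥ := by
  rw [eq_bot_iff]
  rintro g ⟨hg, hg'⟩
  rw [AddSubgroup.mem_bot] at hg'
  have h := congrArg val hg'
  exact mem_bot.2 h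

theorem toG_inf (A B : AddSubgroup (VM hH hV)) : toG (A ⊓ B) = toG A ⊓ toG B := by
  ext g
  constructor
  · rintro ⟨hg, h1, h2⟩
    exact ⟨⟨hg, h1⟩, ⟨hg, h2⟩⟩
  · rintro ⟨⟨hg, h1⟩, ⟨_, h2⟩⟩
    exact ⟨hg, h1, h2⟩

theorem toG_iSup {κ : Sort*} (A : κ → AddSubgroup (VM hH hV)) : toG (⨆ i, A i) = ⨆ i, toG (A i) := by
  apply le_antisymm
  · have h : (⨆ i, A i) ≤ ofG (⨆ i, toG (A i)) := iSup_le fun i v hv =>
      (le_iSup (fun i => toG (A i)) i) (val_mem_toG hv)
    rintro g ⟨hg, hg'⟩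
    exact h hg'
  · exact iSup_le fun i => toG_mono (le_iSup A i)

theorem indep_toG {κ : Type*} {A : κ → AddSubgroup (VM hH hV)} (h : iSupIndep A) :
    iSupIndep fun i => toG (A i) := by
  rw [iSupIndep_def] at h ⊢
  intro i
  have h1 := h i
  rw [disjoint_iff] at h1 ⊢
  have e : (⨆ (j) (_ : j ≠ i), toG (A j)) = toG (⨆ (j) (_ : j ≠ i), A j) := by
    rw [toG_iSup]
    exact iSup_congr fun j => (toG_iSup _).symm
  rw [e, ← toG_inf, h1, toG_bot]

/-- an isomorphism -/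
noncomputable def isoG {A B : AddSubgroup (VM hH hV)} (f : A ≃+ B) : toG A ≃* toG B where
  toFun g := ⟨((f ⟨mk g.1 g.2.1, g.2.2⟩ : B) : VM hH hV).val, val_mem_toG (f _).2⟩
  invFun g := ⟨((f.symm ⟨mk g.1 g.2.1, g.2.2⟩ : A) : VM hH hV).val, val_mem_toG (f.symm _).2⟩
  left_inv g := Subtype.ext (by
    change ((f.symm (f ⟨mk g.1 g.2.1, g.2.2⟩) : A) : VM hH hV).val = g
    rw [f.symm_apply_apply]
    rfl)
  right_inv g := Subtype.ext (by
    change ((f (f.symm ⟨mk g.1 g.2.1, g.2.2⟩) : B) : VM hH hV).val = g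
    rw [f.apply_symm_apply]
    rfl)
  map_mul' g g' := Subtype.ext (by
    have e : (⟨mk (g * g' : toG A).1 (g * g').2.1, (g * g').2.2⟩ : A) =
        ⟨mk g.1 g.2.1, g.2.2⟩ + ⟨mk g'.1 g'.2.1, g'.2.2⟩ := rfl
    change ((f ⟨mk (g * g' : toG A).1 (g * g').2.1, (g * g').2.2⟩ : B) : VM hH hV).val = _
    rw [e, map_add]
    rfl)

theorem isoG_val {A B : AddSubgroup (VM hH hV)} (f : A ≃+ B) {v : A} {g : toG A} (h : (g : G) = (v : VM hH hV).val) :
    ((isoG f g : toG B) : G) = ((f v : B) : VM hH hV).val := by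
  have e : (⟨mk g.1 g.2.1, g.2.2⟩ : A) = v := Subtype.ext (ext h)
  change ((f ⟨mk g.1 g.2.1, g.2.2⟩ : B) : VM hH hV).val = _
  rw [e]

end VM

/-- The situation of LEMMA DESCENT, group form. -/
structure GDat (V X S : Subgroup G) : Prop where
  comm : V ≤ centralizer (V : Set G)
  sq : ∀ v ∈ V, v * v = 1
  two : IsPGroup 2 S
  SV : S ≤ normalizer (V : Set G)
  XV : X ≤ normalizer (V : Set G)
  SX : S ≤ normalizer (X : Set G)
  gen : ∀ A : Subgroup G, A ≤ V → X ≤ normalizer (A : Set G) → V ⊓ centralizer (S : Set G) ≤ A → A = V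
  ann : ∀ z z' : G, z ∈ V → z ≠ 1 → z ∈ centralizer (S : Set G) → z' ∈ V → z' ∈ centralizer (S : Set G) →
    ∀ l : List G, (∀ x ∈ l, x ∈ X) → (l.map fun x => x * z * x⁻¹).prod = 1 →
      (l.map fun x => x * z' * x⁻¹).prod = 1

namespace GDat

variable [Finite G] {V X S : Subgroup G} (D : GDat V X S)
include D

omit [Finite G] in
/-- elements of `ring` are sums of lists -/
theorem exists_list {H : Subgroup G} (hH : H ≤ normalizer (V : Set G)) {X' : Subgroup H}
    {c : AddMonoid.End (VM hH D.comm)} (hc : c ∈ ring (VM hH D.comm) X') :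
    ∃ l : List G, (∀ x ∈ l, ∃ x' ∈ X', (x' : G) = x) ∧
      ∀ v : VM hH D.comm, (c v).val = (l.map fun x => x * v.val * x⁻¹).prod := by
  have hneg : ∀ v : VM hH D.comm, -v = v := fun v => VM.ext (by
    rw [VM.val_neg]
    exact inv_eq_of_mul_eq_one_left (D.sq _ v.val_mem))
  induction hc using AddSubgroup.closure_induction with
  | mem c hc =>
    obtain ⟨x, hx, rfl⟩ := hc
    refine ⟨[(x : G)], fun y hy => ⟨x, hx, (List.mem_singleton.1 hy).symm⟩, fun v => ?_⟩
    rw [List.map_cons, List.map_nil, List.prod_cons, List.prod_nil, mul_one]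
    rfl
  | zero => exact ⟨[], by simp, fun v => rfl⟩
  | add c d _ _ hc hd =>
    obtain ⟨l, hl, h1⟩ := hc
    obtain ⟨m, hm, h2⟩ := hd
    refine ⟨l ++ m, fun x hx => ?_, fun v => ?_⟩
    · rcases List.mem_append.1 hx with h | h
      · exact hl x h
      · exact hm x h
    · rw [List.map_append, List.prod_append, ← h1, ← h2]
      rfl
  | neg c _ hc =>
    obtain ⟨l, hl, h1⟩ := hc
    refine ⟨l, hl, fun v => ?_⟩
    rw [← h1]
    change (-(c v)).val = _
    rw [hneg]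

/-- **LEMMA DESCENT.** -/
theorem exists_pow : ∃ (k : ℕ) (U : Fin k → Subgroup G), (∀ j, U j ≤ V) ∧ iSupIndep U ∧ (⨆ j, U j) = V ∧
    (∀ j, U j ≠ ⊥) ∧ (∀ j, X ≤ normalizer (U j : Set G)) ∧ (∀ j, S ≤ normalizer (U j : Set G)) ∧
    (∀ j, ∀ A : Subgroup G, A ≤ U j → A ≠ ⊥ → X ≤ normalizer (A : Set G) → S ≤ normalizer (A : Set G) → A = U j) ∧
    ∀ i j, ∃ f : U i ≃* U j, (∀ x ∈ X, ∀ v w : U i, (w : G) = x * v * x⁻¹ → (f w : G) = x * f v * x⁻¹) ∧
      ∀ s ∈ S, ∀ v w : U i, (w : G) = s * v * s⁻¹ → (f w : G) = s * f v * s⁻¹ := by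
  classical
  set H : Subgroup G := X ⊔ S with hHdef
  have hH : H ≤ normalizer (V : Set G) := sup_le D.XV D.SV
  let X' : Subgroup H := X.subgroupOf H
  let S' : Subgroup H := S.subgroupOf H
  have hfix : ∀ z : VM hH D.comm, (∀ s ∈ S', s • z = z) → z.val ∈ V ⊓ centralizer (S : Set G) := by
    intro z hz
    refine ⟨z.val_mem, mem_centralizer_iff.2 fun s hs => ?_⟩
    have h1 := congrArg VM.val (hz ⟨s, (le_sup_right : S ≤ H) hs⟩ (mem_subgroupOf.2 hs))
    rw [VM.val_smul] at h1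
    exact mul_inv_eq_iff_eq_mul.1 h1
  have hfix' : ∀ z : VM hH D.comm, z.val ∈ centralizer (S : Set G) → ∀ s ∈ S', s • z = z := by
    intro z hz s hs
    refine VM.ext ?_
    rw [VM.val_smul, mul_inv_eq_iff_eq_mul]
    exact mem_centralizer_iff.1 hz _ (mem_subgroupOf.1 hs)
  have hXn : ∀ A : AddSubgroup (VM hH D.comm), (∀ x ∈ X', ∀ v ∈ A, x • v ∈ A) → X ≤ normalizer (VM.toG A : Set G) := by
    intro A hA
    have key : ∀ x ∈ X, ∀ g ∈ VM.toG A, x * g * x⁻¹ ∈ VM.toG A := by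
      rintro x hx g ⟨hg, hg'⟩
      exact VM.val_mem_toG (hA ⟨x, (le_sup_left : X ≤ H) hx⟩ (mem_subgroupOf.2 hx) _ hg')
    intro x hx
    rw [mem_normalizer_iff]
    intro g
    refine ⟨key x hx g, fun h => ?_⟩
    have h1 := key x⁻¹ (inv_mem hx) _ h
    have e : x⁻¹ * (x * g * x⁻¹) * x⁻¹⁻¹ = g := by group
    rwa [e] at h1
  have hSn : ∀ A : AddSubgroup (VM hH D.comm), (∀ x ∈ S', ∀ v ∈ A, x • v ∈ A) → S ≤ normalizer (VM.toG A : Set G) := by
    intro A hA
    have key : ∀ x ∈ S, ∀ g ∈ VM.toG A, x * g * x⁻¹ ∈ VM.toG A := by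
      rintro x hx g ⟨hg, hg'⟩
      exact VM.val_mem_toG (hA ⟨x, (le_sup_right : S ≤ H) hx⟩ (mem_subgroupOf.2 hx) _ hg')
    intro x hx
    rw [mem_normalizer_iff]
    intro g
    refine ⟨key x hx g, fun h => ?_⟩
    have h1 := key x⁻¹ (inv_mem hx) _ h
    have e : x⁻¹ * (x * g * x⁻¹) * x⁻¹⁻¹ = g := by group
    rwa [e] at h1
  have E : Dat (VM hH D.comm) X' S' :=
    { two := D.two.comap_of_injective _ (subtype_injective H)
      exp := fun v => VM.ext (D.sq _ v.val_mem)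
      norm := fun s hs x hx => (mem_normalizer_iff.1 (D.SX (mem_subgroupOf.1 hs)) _).1 (mem_subgroupOf.1 hx)
      gen := by
        intro A hA hZ
        have h1 := D.gen (VM.toG A) (VM.toG_le A) (hXn A hA) (by
          intro z hz
          exact ⟨hz.1, hZ _ (hfix' _ hz.2)⟩)
        rw [eq_top_iff]
        intro v _
        exact VM.of_val_mem (h1.symm ▸ v.val_mem)
      ann := by
        intro z z' hz0 hz hz' c hc h0
        obtain ⟨l, hl, h1⟩ := D.exists_list hH hc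
        have h2 := hfix z hz
        have h3 := hfix z' hz'
        refine VM.ext ?_
        rw [h1, VM.val_zero]
        refine D.ann z.val z'.val h2.1 (fun h => hz0 (VM.ext h)) h2.2 h3.1 h3.2 l ?_ ?_
        · intro x hx
          obtain ⟨x', hx', rfl⟩ := hl x hx
          exact mem_subgroupOf.1 hx'
        · rw [← h1, h0, VM.val_zero] }
  obtain ⟨k, U, hU, hind, htop, hiso⟩ := E.exists_pow
  have hUX : ∀ j, ∀ x ∈ X', ∀ v ∈ U j, x • v ∈ U j := by
    intro j x hx v hv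
    obtain ⟨z, -, -, hz⟩ := hU j
    rw [hz] at hv ⊢
    exact smul_mem_orb hx hv
  have hUS : ∀ j, ∀ s ∈ S', ∀ v ∈ U j, s • v ∈ U j := by
    intro j s hs v hv
    obtain ⟨z, -, hzS, hz⟩ := hU j
    rw [hz] at hv ⊢
    exact E.smul_S hs hzS hv
  refine ⟨k, fun j => VM.toG (U j), fun j => VM.toG_le _, VM.indep_toG hind, ?_, ?_, fun j => hXn _ (hUX j),
    fun j => hSn _ (hUS j), ?_, ?_⟩
  · rw [← VM.toG_iSup, htop, VM.toG_top]
  · intro j h0
    obtain ⟨z, hz0, -, hz⟩ := hU j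
    apply hz0
    have h1 : z.val ∈ VM.toG (U j) := VM.val_mem_toG (by rw [hz]; exact self_mem X' z)
    have h2 : z.val ∈ (⊥ : Subgroup G) := h0 ▸ h1
    exact VM.ext (mem_bot.1 h2)
  · intro j A hA hne hAX hAS
    obtain ⟨z, hz0, hzS, hz⟩ := hU j
    have h1 := E.irr hz0 hzS (A := VM.ofG A) (by
      intro v hv
      rw [← hz]
      exact VM.of_val_mem (hA hv)) (by
      intro h0
      apply hne
      rw [eq_bot_iff]
      intro g hg
      have h2 : (VM.mk g (hA hg).1 : VM hH D.comm) ∈ (VM.ofG A : AddSubgroup (VM hH D.comm)) := hg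
      rw [h0, AddSubgroup.mem_bot] at h2
      exact mem_bot.2 (congrArg VM.val h2)) (by
      intro x hx v hv
      exact (mem_normalizer_iff.1 (hAX (mem_subgroupOf.1 hx)) _).1 hv) (by
      intro x hx v hv
      exact (mem_normalizer_iff.1 (hAS (mem_subgroupOf.1 hx)) _).1 hv)
    refine le_antisymm hA ?_
    rintro g ⟨hg, hg'⟩
    rw [hz, ← h1] at hg'
    exact hg'
  · intro i j
    obtain ⟨f, h1, h2⟩ := hiso i j
    refine ⟨VM.isoG f, ?_, ?_⟩
    · intro x hx v w hw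
      let v' : U i := ⟨VM.mk v.1 v.2.1, v.2.2⟩
      let w' : U i := ⟨VM.mk w.1 w.2.1, w.2.2⟩
      have h3 := h1 ⟨x, (le_sup_left : X ≤ H) hx⟩ (mem_subgroupOf.2 hx) v' w' (VM.ext hw)
      rw [VM.isoG_val f (v := w') rfl, VM.isoG_val f (v := v') rfl, h3, VM.val_smul]
    · intro x hx v w hw
      let v' : U i := ⟨VM.mk v.1 v.2.1, v.2.2⟩
      let w' : U i := ⟨VM.mk w.1 w.2.1, w.2.2⟩
      have h3 := h2 ⟨x, (le_sup_right : S ≤ H) hx⟩ (mem_subgroupOf.2 hx) v' w' (VM.ext hw)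
      rw [VM.isoG_val f (v := w') rfl, VM.isoG_val f (v := v') rfl, h3, VM.val_smul]

end GDat

end Cfsg.Agent.Omega.NO3b.Exit.Descent
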