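import Cfsg.Agent.Omega.NO3b.Exit.TightBlk
import Cfsg.Agent.Omega.NO3b.Exit.TenField
import Cfsg.Agent.Omega.NO3b.Exit.DescBlk

/-!
# Descent (helper255, bb 20076), part 4: (ANN) from the blocks of `V` (`TBlk.Blk`)

For `B : Blk Y Q BB V F L C h M KV S O`:

* `allTv` : `Y` induces all transvections on `AM`; `V1_le_img`;
* `inf_rest` : an element of `V` without component in every block is zero;
* `comp_ne` : an element `≠ 0` of `C_V(S)` has a component `≠ 0` in every block;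
* `odd_T` : `{y ∈ Y | m y m⁻¹ ∈ S}` has odd index in `Y`;
* **`ann`** : `z ≠ 0`, `z'` in `C_V(S)`: every element of the ring generated by `KV` (so by `O`) which kills `z` kills `z'`.
-/

set_option autoImplicit false

open scoped Pointwise

namespace Cfsg.Agent.Omega.NO3b.Exit.DescAnn

open Subgroup Cfsg.Agent.Omega.NO3b.Exit Ten TBlk Descent

universe u v

section dat

variable {H : Type u} {U : Type v} [Group H] [AddCommGroup U] [DistribMulAction H U]
variable {Y Q BB : Subgroup H} {V F L C : AddSubgroup U} {h : H} (D : Dat Y Q BB V F L C h)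

theorem allTv [Finite H] [Finite U] : AllTv Y (AM D) := by
  intro φ a ha
  obtain ⟨k, d, -, hk⟩ := D.mdl.trans' φ ha
  exact ⟨_, hk⟩

theorem V1_le_img [Finite H] [Finite U] : V1 D ≤ img Y (AM D) U := by
  refine (AddSubgroup.closure_le _).2 ?_
  rintro _ ⟨y, hy, u, rfl⟩
  have h1 := mem_img (D.mdl.psi u) (AM.mk y hy)
  rw [Mdl.psi_apply, D.bt_apply] at h1
  exact h1

end dat

variable {H : Type u} {U : Type v} [Group H] [Finite H] [AddCommGroup U] [DistribMulAction H U] [Finite U]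
variable {Y Q BB : Subgroup H} {V F L C : AddSubgroup U} {h : H} {M KV S O : Subgroup H}
variable (B : Blk Y Q BB V F L C h M KV S O)
include B

/-- the ring generated by `KV` acts on `V₁ = A ⊗ E` through `A` -/
theorem exists_ringK {c : AddMonoid.End U} (hc : c ∈ ring U KV) :
    ∃ c' : AddMonoid.End (AM B.dat), ∀ (f : HomY Y (AM B.dat) U) (a : AM B.dat),
      c ((f : AM B.dat →+ U) a) = (f : AM B.dat →+ U) (c' a) := by
  induction hc using AddSubgroup.closure_induction with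
  | mem c hc =>
    obtain ⟨x, hx, rfl⟩ := hc
    let c' : AddMonoid.End (AM B.dat) :=
      AddMonoidHom.mk' (fun a => AM.mk (x * a.val * x⁻¹) (B.AA_K x hx _ a.val_mem)) fun a b => AM.ext (by
        change x * (a.val * b.val) * x⁻¹ = x * a.val * x⁻¹ * (x * b.val * x⁻¹)
        group)
    refine ⟨c', fun f a => ?_⟩
    obtain ⟨u, rfl⟩ := B.dat.mdl.psi_surj f
    rw [Mdl.psi_apply, Mdl.psi_apply, B.dat.bt_apply, B.dat.bt_apply]
    exact (B.br_K hx a.val_mem u).symm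
  | zero => exact ⟨0, fun f a => (map_zero (f : AM B.dat →+ U)).symm⟩
  | add c d _ _ hc hd =>
    obtain ⟨c', h1⟩ := hc
    obtain ⟨d', h2⟩ := hd
    refine ⟨c' + d', fun f a => ?_⟩
    change c ((f : AM B.dat →+ U) a) + d ((f : AM B.dat →+ U) a) = (f : AM B.dat →+ U) (c' a + d' a)
    rw [h1, h2, map_add]
  | neg c _ hc =>
    obtain ⟨c', h1⟩ := hc
    refine ⟨-c', fun f a => ?_⟩
    change - c ((f : AM B.dat →+ U) a) = (f : AM B.dat →+ U) (- c' a)
    rw [h1, map_neg]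

/-- one block -/
theorem ann_one {T : Subgroup H} (hT2 : IsPGroup 2 T) (hT : ¬ 2 ∣ T.relIndex Y) {w w' : U} (hw : w ∈ V1 B.dat)
    (hwT : ∀ t ∈ T, t ∈ Y → t • w = w) (hw0 : w ≠ 0) (hw' : w' ∈ V1 B.dat) (hwT' : ∀ t ∈ T, t ∈ Y → t • w' = w')
    {c : AddMonoid.End U} (hc : c ∈ ring U KV) (h0 : c w = 0) : c w' = 0 := by
  have hT' : ¬ 2 ∣ (T.subgroupOf Y).index := hT
  have hT2' : IsPGroup 2 (T.subgroupOf Y) := hT2.comap_of_injective _ (subtype_injective Y)
  obtain ⟨n, -, hn0, hn⟩ := exists_fix (V := AM B.dat) (H := Y) hT2' B.dat.AM_two (A := ⊤)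
    (fun _ _ _ _ => trivial) (by
      intro h
      obtain ⟨a, ha⟩ := (B.dat.isIrr).ne
      have : a ∈ (⊤ : AddSubgroup (AM B.dat)) := trivial
      rw [h] at this
      exact ha this)
  obtain ⟨f, rfl⟩ := exists_of_fix (allTv B.dat) B.dat.AM_two hT' hn0 hn (V1_le_img B.dat hw)
    (fun t ht => hwT t (mem_subgroupOf.1 ht) t.2)
  obtain ⟨f', rfl⟩ := exists_of_fix (allTv B.dat) B.dat.AM_two hT' hn0 hn (V1_le_img B.dat hw')
    (fun t ht => hwT' t (mem_subgroupOf.1 ht) t.2)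
  obtain ⟨c', hcc⟩ := exists_ringK B hc
  have hf0 : f ≠ 0 := by
    rintro rfl
    exact hw0 rfl
  rw [hcc] at h0 ⊢
  have h1 : c' n = 0 := HomY.inj hf0 (h0.trans (map_zero _).symm)
  rw [h1, map_zero]

omit [Finite H] [Finite U] in
/-- `x ∈ M` maps `rest m` to `rest (x m)` -/
theorem smul_rest {m x : H} (hx : x ∈ M) {v : U} (hv : v ∈ B.rest m) : x • v ∈ B.rest (x * m) := by
  induction hv using AddSubgroup.closure_induction with
  | mem v hv =>
    obtain ⟨m', hm', hne, hv⟩ := hv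
    refine AddSubgroup.subset_closure ⟨x * m', mul_mem hx hm', fun e => hne ?_, ?_⟩
    · rw [mul_smul, mul_smul] at e
      exact smul_left_cancel x e
    · rw [mul_smul]
      exact AddSubgroup.smul_mem_pointwise_smul _ _ _ hv
  | zero => rw [smul_zero]; exact zero_mem _
  | add a b _ _ ha hb => rw [smul_add]; exact add_mem ha hb
  | neg a _ ha => rw [smul_neg]; exact neg_mem ha

omit [Finite H] [Finite U] in
theorem rest_congr {m m' : H} (e : m • V1 B.dat = m' • V1 B.dat) : B.rest m = B.rest m' := by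
  unfold Blk.rest
  rw [e]

/-- an element of `V` without components is zero -/
theorem inf_rest {v : U} (hvV : v ∈ V) (hv : ∀ m ∈ M, v ∈ B.rest m) : v = 0 := by
  by_contra hv0
  let A : AddSubgroup U :=
    { carrier := {v | v ∈ V ∧ ∀ m ∈ M, v ∈ B.rest m}
      zero_mem' := ⟨zero_mem _, fun m _ => zero_mem _⟩
      add_mem' := fun {a b} ha hb => ⟨add_mem ha.1 hb.1, fun m hm => add_mem (ha.2 m hm) (hb.2 m hm)⟩
      neg_mem' := fun {a} ha => ⟨neg_mem ha.1, fun m hm => neg_mem (ha.2 m hm)⟩ }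
  have hAS : ∀ s ∈ S, ∀ v ∈ A, s • v ∈ A := by
    rintro s hs v ⟨h1, h2⟩
    refine ⟨B.mV s (B.SM hs) v h1, fun m hm => ?_⟩
    have h3 := smul_rest B (B.SM hs) (h2 _ (mul_mem (inv_mem (B.SM hs)) hm))
    rwa [mul_inv_cancel_left] at h3
  have hne : A ≠ ⊥ := by
    intro h0
    have h1 : v ∈ A := ⟨hvV, hv⟩
    rw [h0] at h1
    exact hv0 h1
  obtain ⟨z, hz, hz0, hzS⟩ := exists_fix B.S2 B.dat.two hAS hne
  apply hz0
  have hYM : ∀ x ∈ B.YM, x • z = z := by
    intro x hx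
    induction hx using closure_induction with
    | mem x hx =>
      obtain ⟨m, hm, k, hk, rfl⟩ := hx
      exact B.cent_rest hm hk (hz.2 m hm)
    | one => exact one_smul _ _
    | mul a b _ _ ha hb => rw [mul_smul, hb, ha]
    | inv a _ ha => rw [inv_smul_eq_iff, ha]
  exact B.cz z hz.1 hzS fun o ho => hYM o (B.O_le ho)

/-- the component of a fixed point is nonzero -/
theorem comp_ne {z : U} (hz0 : z ≠ 0) (hzV : z ∈ V) (hz : ∀ s ∈ S, s • z = z) {m : H} (hm : m ∈ M) :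
    z ∉ B.rest m := by
  intro h1
  refine hz0 (inf_rest B hzV fun m' hm' => ?_)
  obtain ⟨s, hs, e⟩ := B.trans hm hm'
  have h2 := smul_rest B (B.SM hs) h1
  rw [hz s hs] at h2
  rwa [rest_congr B (m := s * m) (m' := m') (by rw [mul_smul, e])] at h2

omit [Finite U] [AddCommGroup U] [DistribMulAction H U] B in
/-- a subgroup of odd index meets a subnormal subgroup in a subgroup of odd index -/
theorem sn_odd {Y K T : Subgroup H} (h : Sn Y K) (hT : ¬ 2 ∣ T.relIndex K) : ¬ 2 ∣ T.relIndex Y := by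
  induction h with
  | refl => exact hT
  | @step K K' _ h1 h2 ih =>
    refine ih ?_
    have hn : (K.subgroupOf K').Normal := ⟨fun n hn g => h2 g g.2 n hn⟩
    have h3 := not_dvd_relIndex (M := K') (S := T.subgroupOf K') (N := K.subgroupOf K') hT
    rwa [relIndex_subgroupOf h1] at h3

omit [Finite U] in
theorem odd_T {m : H} (hm : m ∈ M) : ¬ 2 ∣ (S.map (MulAut.conj m⁻¹).toMonoidHom).relIndex Y := by
  refine sn_odd (K := KV) B.sn ?_
  have hn : (KV.subgroupOf M).Normal := ⟨fun n hn g => B.nK g g.2 n hn⟩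
  have h1 : ¬ 2 ∣ ((S.map (MulAut.conj m⁻¹).toMonoidHom).subgroupOf M).index := by
    have e : (S.map (MulAut.conj m⁻¹).toMonoidHom).relIndex (M.map (MulAut.conj m⁻¹).toMonoidHom) = S.relIndex M :=
      relIndex_map_map_of_injective _ _ (MulAut.conj m⁻¹).injective
    have e2 : M.map (MulAut.conj m⁻¹).toMonoidHom = M := by
      ext x
      constructor
      · rintro ⟨y, hy, rfl⟩
        exact mul_mem (mul_mem (inv_mem hm) hy) (inv_mem (inv_mem hm))
      · intro hx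
        refine ⟨m * x * m⁻¹, mul_mem (mul_mem hm hx) (inv_mem hm), ?_⟩
        change m⁻¹ * (m * x * m⁻¹) * m⁻¹⁻¹ = x
        group
    rw [e2] at e
    change ¬ 2 ∣ (S.map (MulAut.conj m⁻¹).toMonoidHom).relIndex M
    rw [e]
    exact B.syl
  have h2 := not_dvd_relIndex (N := KV.subgroupOf M) h1
  rwa [relIndex_subgroupOf B.KM] at h2

/-- the component in `m V₁` of a fixed point is fixed by `m Y m⁻¹ ∩ S` -/
theorem comp_fix {m : H} (hm : m ∈ M) {z a b : U} (hz : ∀ s ∈ S, s • z = z) (ha : a ∈ m • V1 B.dat)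
    (hb : b ∈ B.rest m) (e : z = a + b) {s : H} (hs : s ∈ S) (hsK : s ∈ KV) : s • a = a := by
  have h1 : s • a ∈ m • V1 B.dat := B.smul_V1_K hm hsK ha
  have h2 : s • b ∈ B.rest m := by
    have h3 := smul_rest B (B.SM hs) hb
    rwa [rest_congr B (m := s * m) (m' := m) (by rw [mul_smul, B.smul_eq_K hm hsK])] at h3
  have h3 := hz s hs
  rw [e, smul_add] at h3
  have h4 : s • a - a = b - s • b := by
    rw [sub_eq_sub_iff_add_eq_add, h3, add_comm]
  have h5 : s • a - a ∈ m • V1 B.dat ⊓ B.rest m :=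
    AddSubgroup.mem_inf.2 ⟨sub_mem h1 ha, by rw [h4]; exact sub_mem hb h2⟩
  rw [B.indep hm, AddSubgroup.mem_bot] at h5
  exact sub_eq_zero.1 h5

/-- **(ANN)** -/
theorem ann {z z' : U} (hzV : z ∈ V) (hz0 : z ≠ 0) (hz : ∀ s ∈ S, s • z = z) (hzV' : z' ∈ V)
    (hz' : ∀ s ∈ S, s • z' = z') {c : AddMonoid.End U} (hc : c ∈ ring U KV) (h0 : c z = 0) : c z' = 0 := by
  have hcV : c z' ∈ V := apply_mem (X := KV) (fun k hk v hv => B.mV k (B.KM hk) v hv) hzV' hc
  refine inf_rest B hcV fun m hm => ?_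
  obtain ⟨a, ha, b, hb, e⟩ := B.exists_add m hzV
  obtain ⟨a', ha', b', hb', e'⟩ := B.exists_add m hzV'
  have hrK : ∀ x ∈ KV, ∀ v ∈ B.rest m, x • v ∈ B.rest m := by
    intro x hx v hv
    have h3 := smul_rest B (B.KM hx) hv
    rwa [rest_congr B (m := x * m) (m' := m) (by rw [mul_smul, B.smul_eq_K hm hx])] at h3
  have hVK : ∀ x ∈ KV, ∀ v ∈ m • V1 B.dat, x • v ∈ m • V1 B.dat := fun x hx v hv => B.smul_V1_K hm hx hv
  have hca : c a ∈ m • V1 B.dat := apply_mem hVK ha hc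
  have hcb : c b ∈ B.rest m := apply_mem hrK hb hc
  have hcb' : c b' ∈ B.rest m := apply_mem hrK hb' hc
  have h1 : c a = 0 := by
    rw [e, map_add] at h0
    have h2 : c a ∈ m • V1 B.dat ⊓ B.rest m := by
      refine AddSubgroup.mem_inf.2 ⟨hca, ?_⟩
      rw [eq_neg_of_add_eq_zero_left h0]
      exact neg_mem hcb
    rwa [B.indep hm, AddSubgroup.mem_bot] at h2
  have ha0 : a ≠ 0 := by
    intro h2
    apply comp_ne B hz0 hzV hz hm
    rw [e, h2, zero_add]
    exact hb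
  -- conjugate by `m⁻¹`
  have hcm : op U m⁻¹ * c * op U m⁻¹⁻¹ ∈ ring U KV :=
    Descent.conj_mem (fun x hx => B.nK _ (inv_mem hm) x hx) hc
  have key : ∀ v : U, (op U m⁻¹ * c * op U m⁻¹⁻¹) (m⁻¹ • v) = m⁻¹ • c v := by
    intro v
    change m⁻¹ • c (m⁻¹⁻¹ • m⁻¹ • v) = _
    rw [inv_inv, smul_inv_smul]
  have hmem : ∀ v ∈ m • V1 B.dat, m⁻¹ • v ∈ V1 B.dat := fun v hv =>
    AddSubgroup.mem_pointwise_smul_iff_inv_smul_mem.1 hv
  have hfix : ∀ v, v ∈ m • V1 B.dat → (∀ s ∈ S, s ∈ KV → s • v = v) →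
      ∀ t ∈ S.map (MulAut.conj m⁻¹).toMonoidHom, t ∈ Y → t • m⁻¹ • v = m⁻¹ • v := by
    rintro v - hv _ ⟨s, hs, rfl⟩ ht
    have hsK : s ∈ KV := by
      have h2 := B.nK m hm _ (B.YK ht)
      have e3 : m * (MulAut.conj m⁻¹).toMonoidHom s * m⁻¹ = s := by
        change m * (m⁻¹ * s * m⁻¹⁻¹) * m⁻¹ = s
        group
      rwa [e3] at h2
    change (m⁻¹ * s * m⁻¹⁻¹) • m⁻¹ • v = _
    rw [smul_smul, inv_inv, mul_assoc, mul_inv_cancel, mul_one, mul_smul, hv s hs hsK]
  have h2 : (op U m⁻¹ * c * op U m⁻¹⁻¹) (m⁻¹ • a') = 0 := by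
    refine ann_one B (T := S.map (MulAut.conj m⁻¹).toMonoidHom) (B.S2.map _) (odd_T B hm)
      (w := m⁻¹ • a) (hmem a ha) (hfix a ha fun s hs hsK => comp_fix B hm hz ha hb e hs hsK) ?_ (hmem a' ha')
      (hfix a' ha' fun s hs hsK => comp_fix B hm hz' ha' hb' e' hs hsK) hcm ?_
    · intro h3
      exact ha0 (by rw [← smul_inv_smul m a, h3, smul_zero])
    · rw [key, h1, smul_zero]
  rw [key] at h2
  have h3 : c a' = 0 := by rw [← smul_inv_smul m (c a'), h2, smul_zero]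
  rw [e', map_add, h3, zero_add]
  exact hcb'

end Cfsg.Agent.Omega.NO3b.Exit.DescAnn
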