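import Cfsg.Agent.Omega.NO3b.Exit.BlkTwo

/-!
# The base point in LOC, LEMMA T2 (helper506, bb 22310), from the blocks `Blk0` (helper255, bb 22738)

* `exists_of_sq` : a `K`-linear `g` with `(g - 1)² = 0` is induced by `Y`;
* `smul_hom` : `k ∈ KV` acts on the block `V₁` as `kA k ⊗ 1`;
* **`exists_y`** : `t ∈ M` with `[V₁, t] ≤ X ≤ C(t)` and `r ∈ KV` which fixes `X` but not `V₁`: `t` acts on `V₁` as an
  element of `Y`;
* `fc B D` : `C_V(C_{YM}(D))`; `bad B D` : the sum of the blocks which are not contained in `fc D`;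
* **`t2`** : `t ∈ M`, `[V, t] ≤ D ≤ C_V(t)`: some `m ∈ M` is trivial on `bad D` and equal to `t` on `fc D`;
* `fc_fx` : `fc (C_V(S)) = C_V(S ∩ YM)`; `fc_F` : `fc F = F`.
-/

set_option autoImplicit false

open scoped Pointwise

namespace Cfsg.Agent.Omega.NO3b.Exit.BlkZ

open Subgroup Cfsg.Agent.Omega.NO3b.Exit Ten Descent
open Cfsg.Agent.Omega.NO3b.Exit.TBlk hiding Blk

universe u v

section one

variable {Y : Type u} {A : Type v} [Group Y] [AddCommGroup A] [DistribMulAction Y A] [Finite A]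
  [hI : IsIrr Y A]

/-- a `K`-linear `g` with `(g - 1)² = 0` is induced by `Y` -/
theorem exists_of_sq (htv : AllTv Y A) (g : A →ₗ[KK Y A] A) (hg : ∀ a, g (g a - a) = g a - a) :
    ∃ y : Y, ∀ a, y • a = g a := by
  classical
  let ν : A →ₗ[KK Y A] A := g - LinearMap.id
  have hν : ∀ a, ν a = g a - a := fun a => rfl
  have hνν : ∀ a, ν (ν a) = 0 := fun a => by rw [hν (ν a), hν a, hg, sub_self]
  let b := Module.finBasis (KK Y A) (LinearMap.range ν)
  let φ : Fin (Module.finrank (KK Y A) (LinearMap.range ν)) → Module.Dual (KK Y A) A := fun j =>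
    (b.coord j).comp ν.rangeRestrict
  have hφ : ∀ i j, φ i (b j : A) = 0 := by
    intro i j
    have h1 : ν.rangeRestrict (b j : A) = 0 := by
      apply Subtype.ext
      obtain ⟨a, ha⟩ := (b j).2
      change ν (b j : A) = 0
      rw [← ha, hνν]
    change b.coord i (ν.rangeRestrict (b j : A)) = 0
    rw [h1, map_zero]
  have hsum : ∀ a, ∑ j, φ j a • (b j : A) = ν a := by
    intro a
    have h1 := b.sum_repr (ν.rangeRestrict a)
    have h2 := congrArg (fun x : LinearMap.range ν => (x : A)) h1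
    rw [AddSubmonoidClass.coe_finsetSum] at h2
    exact h2
  have key : ∀ s : Finset (Fin (Module.finrank (KK Y A) (LinearMap.range ν))),
      ∃ y : Y, ∀ a, y • a = a + ∑ j ∈ s, φ j a • (b j : A) := by
    intro s
    induction s using Finset.induction_on with
    | empty => exact ⟨1, fun a => by rw [one_smul, Finset.sum_empty, add_zero]⟩
    | insert i s hi ih =>
      obtain ⟨y, hy⟩ := ih
      obtain ⟨y', hy'⟩ := htv (φ i) (b i : A) (hφ i i)
      refine ⟨y' * y, fun a => ?_⟩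
      have h1 : φ i (∑ j ∈ s, φ j a • (b j : A)) = 0 := by
        rw [map_sum]
        exact Finset.sum_eq_zero fun j _ => by rw [map_smul, hφ, smul_zero]
      rw [mul_smul, hy, hy', map_add, h1, add_zero, Finset.sum_insert hi]
      abel
  obtain ⟨y, hy⟩ := key Finset.univ
  refine ⟨y, fun a => ?_⟩
  rw [hy, hsum, hν]
  abel

end one

namespace Blk0

variable {H : Type u} {U : Type v} [Group H] [Finite H] [AddCommGroup U] [DistribMulAction H U] [Finite U]
variable {Y Q BB : Subgroup H} {V F L C : AddSubgroup U} {h : H} {M KV S : Subgroup H}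
variable (B : Blk0 Y Q BB V F L C h M KV S)
include B

/-- the action of `k ∈ KV` on `AA` -/
def kA {k : H} (hk : k ∈ KV) : AM B.dat →+ AM B.dat :=
  AddMonoidHom.mk' (fun a => AM.mk (k * a.val * k⁻¹) (B.AA_K k hk _ a.val_mem)) fun a b => AM.ext (by
    change k * (a.val * b.val) * k⁻¹ = (k * a.val * k⁻¹) * (k * b.val * k⁻¹)
    group)

theorem val_kA {k : H} (hk : k ∈ KV) (a : AM B.dat) : (B.kA hk a).val = k * a.val * k⁻¹ := rfl

theorem smul_hom {k : H} (hk : k ∈ KV) (f : HomY Y (AM B.dat) U) (a : AM B.dat) :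
    k • (f : AM B.dat →+ U) a = (f : AM B.dat →+ U) (B.kA hk a) := by
  obtain ⟨u, rfl⟩ := B.dat.mdl.psi_surj f
  rw [Mdl.psi_apply, Mdl.psi_apply, B.dat.bt_apply, B.dat.bt_apply, val_kA, B.br_K hk a.val_mem]

theorem kA_smul {k : H} (hk : k ∈ KV) (κ : KK Y (AM B.dat)) (a : AM B.dat) :
    B.kA hk (κ • a) = κ • B.kA hk a := by
  obtain ⟨f, hf⟩ := B.dat.mdl.exists_ne
  refine HomY.inj hf ?_
  rw [← B.smul_hom hk f, ← HomY.smul_apply, B.smul_hom hk (κ • f), HomY.smul_apply]

/-- the elements of `V₁` -/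
theorem V1_ind {P : U → Prop} (h0 : P 0) (hadd : ∀ a b, P a → P b → P (a + b)) (hneg : ∀ a, P a → P (-a))
    (hom : ∀ (f : HomY Y (AM B.dat) U) (a : AM B.dat), P ((f : AM B.dat →+ U) a)) {v : U} (hv : v ∈ V1 B.dat) : P v := by
  induction hv using AddSubgroup.closure_induction with
  | mem v hv =>
    obtain ⟨x, hx, u, rfl⟩ := hv
    have h1 := hom (B.dat.mdl.psi u) (AM.mk x hx)
    rwa [Mdl.psi_apply, B.dat.bt_apply] at h1
  | zero => exact h0
  | add a b _ _ ha hb => exact hadd a b ha hb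
  | neg a _ ha => exact hneg a ha

/-- `t ∈ M` with `[V₁, t] ≤ X ≤ C(t)` acts on `V₁` as an element of `Y`, if some `r ∈ KV` fixes `X` and moves `V₁`. -/
theorem exists_y {t : H} (ht : t ∈ M) {X : AddSubgroup U} (h1 : ∀ v ∈ V1 B.dat, br t v ∈ X)
    (h2 : ∀ x ∈ X, t • x = x) {r : H} (hr : r ∈ KV) (hrX : ∀ x ∈ X, r • x = x)
    (hrV : ∃ v ∈ V1 B.dat, r • v ≠ v) : ∃ y ∈ Y, ∀ v ∈ V1 B.dat, t • v = y • v := by
  classical
  have hI := B.dat.isIrr
  -- `r` moves `AA`
  have hrA : ∃ a0 : AM B.dat, B.kA hr a0 ≠ a0 := by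
    by_contra hcon
    push Not at hcon
    obtain ⟨v, hv, hne⟩ := hrV
    refine hne (B.V1_ind (P := fun v => r • v = v) (smul_zero _) (fun a b ha hb => by rw [smul_add, ha, hb])
      (fun a ha => by rw [smul_neg, ha]) (fun f a => by rw [B.smul_hom hr, hcon]) hv)
  obtain ⟨a0, ha0⟩ := hrA
  -- the lines
  have line : ∀ f : HomY Y (AM B.dat) U, f ≠ 0 → ∀ a : AM B.dat, ∃ a' : AM B.dat,
      t • (f : AM B.dat →+ U) a = (f : AM B.dat →+ U) a' := by
    intro f hf
    let N : AddSubgroup (AM B.dat) :=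
      { carrier := {a | ∃ a', t • (f : AM B.dat →+ U) a' = (f : AM B.dat →+ U) a}
        zero_mem' := ⟨0, by rw [map_zero, smul_zero]⟩
        add_mem' := by
          rintro a b ⟨a', ha⟩ ⟨b', hb⟩
          exact ⟨a' + b', by rw [map_add, smul_add, ha, hb, map_add]⟩
        neg_mem' := by
          rintro a ⟨a', ha⟩
          exact ⟨-a', by rw [map_neg, smul_neg, ha, map_neg]⟩ }
    have hN : N = ⊤ := by
      rcases hI.irr N (fun k n hn => by
        obtain ⟨n', hn'⟩ := hn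
        refine ⟨B.kA (B.nK' ht (B.YK k.2)) n', ?_⟩
        rw [← B.smul_hom, f.2, ← hn']
        change t • ((t⁻¹ * (k : H) * t) • (f : AM B.dat →+ U) n') = (k : H) • (t • (f : AM B.dat →+ U) n')
        rw [smul_smul, smul_smul]
        congr 1
        group) with h3 | h3
      · exfalso
        have h4 : B.kA hr a0 - a0 ∈ N := by
          refine ⟨B.kA (B.nK' ht hr) a0 - a0, ?_⟩
          have h5 := hrX _ (h1 _ (hom_mem B f a0))
          rw [br_def, smul_sub, B.smul_hom hr] at h5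
          have h6 : r • t • (f : AM B.dat →+ U) a0 = t • (f : AM B.dat →+ U) (B.kA (B.nK' ht hr) a0) := by
            rw [← B.smul_hom (B.nK' ht hr), smul_smul, smul_smul]
            congr 1
            group
          rw [h6] at h5
          rw [map_sub, map_sub, smul_sub]
          have h7 := sub_eq_sub_iff_sub_eq_sub.1 h5
          exact h7
        rw [h3, AddSubgroup.mem_bot, sub_eq_zero] at h4
        exact ha0 h4
      · exact h3
    have h3 : ∀ a : AM B.dat, ∃ a', t • (f : AM B.dat →+ U) a' = (f : AM B.dat →+ U) a := fun a => by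
      have h4 : a ∈ N := by rw [hN]; trivial
      exact h4
    choose θ hθ using h3
    have hinj : Function.Injective θ := fun a b e => HomY.inj hf (by rw [← hθ a, ← hθ b, e])
    have hbij := Finite.injective_iff_bijective.1 hinj
    intro a
    obtain ⟨c, rfl⟩ := hbij.2 a
    exact ⟨c, hθ c⟩
  -- a fixed line
  obtain ⟨f, hf⟩ := B.dat.mdl.exists_ne
  choose g hg using line f hf
  have hfi := HomY.inj hf
  have hgadd : ∀ a b, g (a + b) = g a + g b := fun a b => hfi (by rw [← hg, map_add, smul_add, hg, hg, map_add])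
  have hginj : Function.Injective g := fun a b e => hfi (smul_left_cancel t (by rw [hg, hg, e]))
  have hgsurj := (Finite.injective_iff_bijective.1 hginj).2
  -- `(g - 1) a` is fixed by `r`
  have hgr : ∀ a, B.kA hr (g a - a) = g a - a := by
    intro a
    apply hfi
    rw [← B.smul_hom hr]
    have h5 := hrX _ (h1 _ (hom_mem B f a))
    rw [br_def, hg] at h5
    rw [map_sub]
    exact h5
  -- intertwining
  have hgk : ∀ (k : Y) (a : AM B.dat), k • g a = g (B.kA (B.nK' ht (B.YK k.2)) a) := by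
    intro k a
    apply hfi
    rw [← hg, ← B.smul_hom, f.2, ← hg]
    change (k : H) • t • (f : AM B.dat →+ U) a = t • (t⁻¹ * (k : H) * t) • (f : AM B.dat →+ U) a
    rw [smul_smul, smul_smul]
    congr 1
    group
  -- `K`-linearity
  have hglin : ∀ (κ : KK Y (AM B.dat)) (a : AM B.dat), g (κ • a) = κ • g a := by
    intro κ
    have hgs := hgsurj
    choose gi hgi using hgs
    have hgi' : ∀ a, gi (g a) = a := fun a => hginj (hgi _)
    have hgiadd : ∀ a b, gi (a + b) = gi a + gi b := fun a b => hginj (by rw [hgi, hgadd, hgi, hgi])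
    let κ' : KK Y (AM B.dat) := KK.mk Y (AM B.dat)
      (AddMonoidHom.mk' (fun a => g (κ • gi a)) fun a b => by rw [hgiadd, smul_add, hgadd]) (by
        intro k a
        change g (κ • gi (k • a)) = k • g (κ • gi a)
        have h5 := hgk k (gi a)
        rw [hgi] at h5
        rw [h5, hgi', hgk, B.kA_smul])
    have hκ' : ∀ a, κ' • g a = g (κ • a) := fun a => by
      change g (κ • gi (g a)) = g (κ • a)
      rw [hgi']
    by_cases he : κ' = κ
    · intro a
      rw [← hκ', he]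
    exfalso
    have h5 : ∀ a : AM B.dat, B.kA hr ((κ' - κ) • g a) = (κ' - κ) • g a := by
      intro a
      have e : (κ' - κ) • g a = (g (κ • a) - κ • a) - κ • (g a - a) := by
        rw [sub_smul, hκ', smul_sub]
        abel
      rw [e, map_sub, hgr, B.kA_smul, hgr]
    have h6 : κ' - κ ≠ 0 := sub_ne_zero.2 he
    apply ha0
    obtain ⟨c, hc⟩ := hgsurj ((κ' - κ)⁻¹ • a0)
    have h7 := h5 c
    rw [hc, smul_smul, mul_inv_cancel₀ h6, one_smul] at h7
    exact h7
  let gl : AM B.dat →ₗ[KK Y (AM B.dat)] AM B.dat :=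
    { toFun := g
      map_add' := hgadd
      map_smul' := fun κ a => by rw [RingHom.id_apply]; exact hglin κ a }
  -- all lines
  have all : ∀ (f' : HomY Y (AM B.dat) U) (a : AM B.dat), t • (f' : AM B.dat →+ U) a = (f' : AM B.dat →+ U) (g a) := by
    intro f' a
    by_cases hf' : ∃ κ : KK Y (AM B.dat), f' = κ • f
    · obtain ⟨κ, rfl⟩ := hf'
      rw [HomY.smul_apply, HomY.smul_apply, hg, hglin]
    have hf'0 : f' ≠ 0 := by
      rintro rfl
      exact hf' ⟨0, by rw [zero_smul]⟩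
    have hsum0 : f + f' ≠ 0 := by
      intro e
      apply hf'
      refine ⟨-1, ?_⟩
      rw [neg_smul, one_smul]
      exact (neg_eq_of_add_eq_zero_right e).symm
    obtain ⟨c, hc⟩ := line (f + f') hsum0 a
    obtain ⟨d, hd⟩ := line f' hf'0 a
    have h5 : (f : AM B.dat →+ U) (c - g a) = (f' : AM B.dat →+ U) (d - c) := by
      have h6 : ((f + f' : HomY Y (AM B.dat) U) : AM B.dat →+ U) a =
          (f : AM B.dat →+ U) a + (f' : AM B.dat →+ U) a := rfl
      have h7 : ((f + f' : HomY Y (AM B.dat) U) : AM B.dat →+ U) c =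
          (f : AM B.dat →+ U) c + (f' : AM B.dat →+ U) c := rfl
      rw [h6, smul_add, hg, hd, h7] at hc
      rw [map_sub, map_sub, sub_eq_sub_iff_add_eq_add, ← hc]
      abel
    have h8 : c - g a = 0 := by
      by_contra hne
      obtain ⟨κ, hκ⟩ := HomY.fact h5 hne
      have hκ0 : κ ≠ 0 := by
        rintro rfl
        rw [zero_smul] at hκ
        exact hf hκ
      exact hf' ⟨κ⁻¹, by rw [hκ, smul_smul, inv_mul_cancel₀ hκ0, one_smul]⟩
    rw [h8, map_zero] at h5
    have h9 : d - c = 0 := by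
      by_contra hne
      exact hf'0 (HomY.eq_zero h5.symm hne)
    rw [hd, sub_eq_zero.1 h9, sub_eq_zero.1 h8]
  obtain ⟨y, hy⟩ := exists_of_sq (allTv B.dat) gl (by
    intro a
    change g (g a - a) = g a - a
    apply hfi
    rw [← hg]
    have h5 := h2 _ (h1 _ (hom_mem B f a))
    rw [br_def, hg] at h5
    rw [map_sub]
    exact h5)
  refine ⟨y, y.2, fun v hv => ?_⟩
  refine B.V1_ind (P := fun v => t • v = (y : H) • v) (by rw [smul_zero, smul_zero])
    (fun a b ha hb => by rw [smul_add, smul_add, ha, hb]) (fun a ha => by rw [smul_neg, smul_neg, ha])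
    (fun f' a => ?_) hv
  rw [all]
  change _ = y • (f' : AM B.dat →+ U) a
  rw [← f'.2, hy]
  rfl

/-- the same for the block `m V₁` -/
theorem exists_ym {m t : H} (hm : m ∈ M) (ht : t ∈ M) {X : AddSubgroup U} (h1 : ∀ v ∈ m • V1 B.dat, br t v ∈ X)
    (h2 : ∀ x ∈ X, t • x = x) {r : H} (hr : r ∈ KV) (hrX : ∀ x ∈ X, r • x = x)
    (hrV : ∃ v ∈ m • V1 B.dat, r • v ≠ v) : ∃ y ∈ Y, ∀ v ∈ m • V1 B.dat, t • v = (m * y * m⁻¹) • v := by
  have hc : ∀ (x : H) (w : U), (m⁻¹ * x * m) • w = m⁻¹ • x • m • w := fun x w => by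
    rw [mul_smul, mul_smul]
  obtain ⟨y, hy, e⟩ := B.exists_y (t := m⁻¹ * t * m) (mul_mem (mul_mem (inv_mem hm) ht) hm) (X := m⁻¹ • X)
    (fun v hv => by
      have h3 := h1 _ (B.mem_smul.2 ⟨v, hv, rfl⟩)
      have h4 : br (m⁻¹ * t * m) v = m⁻¹ • br t (m • v) := by
        rw [br_def, br_def, hc, smul_sub, inv_smul_smul]
      rw [h4]
      exact AddSubgroup.smul_mem_pointwise_smul _ _ _ h3)
    (fun x hx => by
      obtain ⟨x', hx', rfl⟩ := (AddSubgroup.mem_smul_pointwise_iff_exists _ _ _).1 hx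
      rw [hc, smul_inv_smul, h2 _ hx'])
    (r := m⁻¹ * r * m) (B.nK' hm hr)
    (fun x hx => by
      obtain ⟨x', hx', rfl⟩ := (AddSubgroup.mem_smul_pointwise_iff_exists _ _ _).1 hx
      rw [hc, smul_inv_smul, hrX _ hx'])
    (by
      obtain ⟨v, hv, hne⟩ := hrV
      obtain ⟨w, hw, rfl⟩ := B.mem_smul.1 hv
      refine ⟨w, hw, fun h5 => hne ?_⟩
      rw [hc, inv_smul_eq_iff] at h5
      exact h5)
  refine ⟨y, hy, fun v hv => ?_⟩
  obtain ⟨w, hw, rfl⟩ := B.mem_smul.1 hv
  have h5 := e w hw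
  rw [hc, inv_smul_eq_iff] at h5
  rw [h5, mul_smul, mul_smul, inv_smul_smul]

/-- `C_V(C_{YM}(D))` -/
def fc (D : AddSubgroup U) : AddSubgroup U where
  carrier := {v | v ∈ V ∧ ∀ r ∈ B.YM, (∀ d ∈ D, r • d = d) → r • v = v}
  zero_mem' := ⟨zero_mem _, fun r _ _ => smul_zero r⟩
  add_mem' := by
    rintro a b ⟨ha, ha'⟩ ⟨hb, hb'⟩
    exact ⟨add_mem ha hb, fun r hr hD => by rw [smul_add, ha' r hr hD, hb' r hr hD]⟩
  neg_mem' := by
    rintro a ⟨ha, ha'⟩
    exact ⟨neg_mem ha, fun r hr hD => by rw [smul_neg, ha' r hr hD]⟩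

omit [Finite H] [Finite U] in
theorem mem_fc {D : AddSubgroup U} {v : U} :
    v ∈ B.fc D ↔ v ∈ V ∧ ∀ r ∈ B.YM, (∀ d ∈ D, r • d = d) → r • v = v := Iff.rfl

omit [Finite H] [Finite U] in
theorem fc_le (D : AddSubgroup U) : B.fc D ≤ V := fun _ hv => hv.1

omit [Finite H] [Finite U] in
theorem le_fc {D : AddSubgroup U} (hD : D ≤ V) : D ≤ B.fc D := fun _ hv => ⟨hD hv, fun _ _ h => h _ hv⟩

omit [Finite H] [Finite U] in
theorem fc_mono {D D' : AddSubgroup U} (hD : D ≤ D') : B.fc D ≤ B.fc D' :=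
  fun _ hv => ⟨hv.1, fun r hr h => hv.2 r hr fun d hd => h d (hD hd)⟩

/-- `m V₁` is bad: not contained in `fc D` -/
def Bad (D : AddSubgroup U) (m : H) : Prop := ∃ w ∈ m • V1 B.dat, w ∉ B.fc D

/-- the sum of the bad blocks -/
def bad (D : AddSubgroup U) : AddSubgroup U :=
  AddSubgroup.closure {v | ∃ m ∈ M, B.Bad D m ∧ v ∈ m • V1 B.dat}

omit [Finite H] [Finite U] in
theorem Bad_congr {D : AddSubgroup U} {m m' : H} (e : m • V1 B.dat = m' • V1 B.dat) (h : B.Bad D m) : B.Bad D m' := by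
  unfold Bad at *
  rwa [← e]

omit [Finite H] [Finite U] in
theorem bad_le_all (D : AddSubgroup U) : B.bad D ≤ B.all := by
  refine (AddSubgroup.closure_le _).2 ?_
  rintro v ⟨m, hm, -, hv⟩
  exact B.le_all hm hv

omit [Finite H] [Finite U] in
theorem bad_le (D : AddSubgroup U) : B.bad D ≤ V := (B.bad_le_all D).trans B.all_le

theorem le_bad_sup (D : AddSubgroup U) : V ≤ B.bad D ⊔ B.fc D := by
  intro v hv
  obtain ⟨a, ha, c, hc, hx, rfl⟩ := B.gen_dec hv
  refine add_mem ?_ (le_sup_right (a := B.bad D) (show c ∈ B.fc D from ⟨hc, fun r hr _ => hx r hr⟩))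
  have h1 : B.all ≤ B.bad D ⊔ B.fc D := by
    refine (AddSubgroup.closure_le _).2 ?_
    rintro w ⟨m, hm, hw⟩
    by_cases hb : B.Bad D m
    · exact le_sup_left (a := B.bad D) (AddSubgroup.subset_closure ⟨m, hm, hb, hw⟩)
    · refine le_sup_right (a := B.bad D) ?_
      by_contra hcon
      exact hb ⟨w, hw, hcon⟩
  exact h1 ha

variable {D : AddSubgroup U} {t : H}

/-- the product of the elements `m y m⁻¹` over a set of bad blocks -/
theorem exists_ys (ht : t ∈ M) (h1 : ∀ v ∈ V, br t v ∈ D) (h2 : ∀ d ∈ D, t • d = d) (s : Finset H) :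
    ∃ y ∈ B.YM,
      (∀ m ∈ M, (∃ m' ∈ s, m' ∈ M ∧ m' • V1 B.dat = m • V1 B.dat) → B.Bad D m → ∀ v ∈ m • V1 B.dat, y • v = t • v) ∧
      ∀ m ∈ M, ((¬ ∃ m' ∈ s, m' ∈ M ∧ m' • V1 B.dat = m • V1 B.dat) ∨ ¬ B.Bad D m) →
        ∀ v ∈ m • V1 B.dat, y • v = v := by
  classical
  induction s using Finset.induction_on with
  | empty =>
    refine ⟨1, one_mem _, ?_, fun _ _ _ _ _ => one_smul _ _⟩
    rintro m hm ⟨m', hm', -⟩
    simp at hm'
  | insert m0 s hm0s ih =>
    obtain ⟨y, hy, hy1, hy2⟩ := ih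
    by_cases hc : m0 ∈ M ∧ B.Bad D m0 ∧ ¬ ∃ m' ∈ s, m' ∈ M ∧ m' • V1 B.dat = m0 • V1 B.dat
    · obtain ⟨hm0, hb0, hn0⟩ := hc
      obtain ⟨w, hw, hwn⟩ := hb0
      have hwV := B.smul_V1_le hm0 hw
      have h3 : ∃ r ∈ B.YM, (∀ d ∈ D, r • d = d) ∧ r • w ≠ w := by
        by_contra hcon
        push Not at hcon
        exact hwn ⟨hwV, hcon⟩
      obtain ⟨r, hr, hrD, hrw⟩ := h3
      obtain ⟨y0, hy0, e0⟩ := B.exists_ym hm0 ht (fun v hv => h1 v (B.smul_V1_le hm0 hv)) h2 (B.YM_le hr) hrD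
        ⟨w, hw, hrw⟩
      refine ⟨m0 * y0 * m0⁻¹ * y, mul_mem (B.conj_mem_YM hm0 hy0) hy, ?_, ?_⟩
      · rintro m hm ⟨m', hm', hm'M, e'⟩ hbm v hv
        by_cases e : m0 • V1 B.dat = m • V1 B.dat
        · rw [mul_smul, hy2 m hm (Or.inl (by rwa [← e])) v hv, ← e0 v (by rwa [e])]
        · have h4 : m' ∈ s := by
            rcases Finset.mem_insert.1 hm' with rfl | h5
            · exact absurd e' e
            · exact h5
          rw [mul_smul, hy1 m hm ⟨m', h4, hm'M, e'⟩ hbm v hv]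
          refine B.cent hm0 hm e hy0 ?_
          rw [← hy1 m hm ⟨m', h4, hm'M, e'⟩ hbm v hv]
          exact B.smul_V1_K hm (B.YM_le hy) hv
      · intro m hm hor v hv
        have e : m0 • V1 B.dat ≠ m • V1 B.dat := by
          intro e
          rcases hor with h5 | h5
          · exact h5 ⟨m0, Finset.mem_insert_self _ _, hm0, e⟩
          · exact h5 (B.Bad_congr e ⟨w, hw, hwn⟩)
        have h6 : (¬ ∃ m' ∈ s, m' ∈ M ∧ m' • V1 B.dat = m • V1 B.dat) ∨ ¬ B.Bad D m := by
          rcases hor with h5 | h5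
          · left
            rintro ⟨m', h7, h8⟩
            exact h5 ⟨m', Finset.mem_insert_of_mem h7, h8⟩
          · exact Or.inr h5
        rw [mul_smul, hy2 m hm h6 v hv]
        exact B.cent hm0 hm e hy0 hv
    · refine ⟨y, hy, ?_, ?_⟩
      · rintro m hm ⟨m', hm', hm'M, e'⟩ hbm v hv
        rcases Finset.mem_insert.1 hm' with rfl | h5
        · have h6 : ∃ m'' ∈ s, m'' ∈ M ∧ m'' • V1 B.dat = m • V1 B.dat := by
            by_contra hcon
            exact hc ⟨hm'M, B.Bad_congr e'.symm hbm, by rwa [e']⟩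
          exact hy1 m hm h6 hbm v hv
        · exact hy1 m hm ⟨m', h5, hm'M, e'⟩ hbm v hv
      · intro m hm hor v hv
        refine hy2 m hm ?_ v hv
        rcases hor with h5 | h5
        · left
          rintro ⟨m', h7, h8⟩
          exact h5 ⟨m', Finset.mem_insert_of_mem h7, h8⟩
        · exact Or.inr h5

/-- an element of `m V₁` in `rest m + C(YM)` is zero -/
theorem block_sep {m : H} (hm : m ∈ M) {x b c : U} (hx : x ∈ m • V1 B.dat) (hb : b ∈ B.rest m)
    (hc : ∀ r ∈ B.YM, r • c = c) (e : x = b + c) : x = 0 := by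
  have h1 : c ∈ B.all := by
    have e1 : c = x - b := by rw [e]; abel
    rw [e1]
    exact sub_mem (B.le_all hm hx) (B.rest_le_all m hb)
  have h2 : c = 0 := B.all_sep h1 fun m' hm' k hk => hc _ (B.conj_mem_YM hm' hk)
  rw [h2, add_zero] at e
  have h3 : x ∈ m • V1 B.dat ⊓ B.rest m := AddSubgroup.mem_inf.2 ⟨hx, e ▸ hb⟩
  rwa [B.indep hm, AddSubgroup.mem_bot] at h3

/-- `t` agrees on the bad blocks with an element of `YM` which fixes `D` and the good blocks -/
theorem exists_yD (ht : t ∈ M) (h1 : ∀ v ∈ V, br t v ∈ D) (h2 : ∀ d ∈ D, t • d = d) (hD : D ≤ V) :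
    ∃ y ∈ B.YM, (∀ v ∈ B.bad D, y • v = t • v) ∧ (∀ d ∈ D, y • d = d) ∧ ∀ v ∈ B.bad D, y⁻¹ • v ∈ B.bad D := by
  classical
  have := Fintype.ofFinite H
  obtain ⟨y, hy, hy1, hy2⟩ := B.exists_ys ht h1 h2 Finset.univ
  have hyK := B.YM_le hy
  have hy1' : ∀ m ∈ M, B.Bad D m → ∀ v ∈ m • V1 B.dat, y • v = t • v := fun m hm hb =>
    hy1 m hm ⟨m, Finset.mem_univ _, hm, rfl⟩ hb
  have hy2' : ∀ m ∈ M, ¬ B.Bad D m → ∀ v ∈ m • V1 B.dat, y • v = v := fun m hm hb => hy2 m hm (Or.inr hb)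
  refine ⟨y, hy, ?_, ?_, ?_⟩
  · intro v hv
    induction hv using AddSubgroup.closure_induction with
    | mem v hv =>
      obtain ⟨m, hm, hb, hv⟩ := hv
      exact hy1' m hm hb v hv
    | zero => rw [smul_zero, smul_zero]
    | add a b _ _ ha hb => rw [smul_add, smul_add, ha, hb]
    | neg a _ ha => rw [smul_neg, smul_neg, ha]
  · intro d hd
    obtain ⟨a, ha, c, hc, hx, rfl⟩ := B.gen_dec (hD hd)
    have h3 : y • a - a = 0 := by
      refine B.all_sep' (sub_mem (B.all_M (B.KM hyK) ha) ha) fun m hm => ?_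
      obtain ⟨a1, ha1, b1, hb1, rfl⟩ := B.mem_all ha m
      have h4 : y • a1 = a1 := by
        by_cases hb : B.Bad D m
        swap
        · exact hy2' m hm hb a1 ha1
        have h5 := hy1' m hm hb a1 ha1
        have h6 : (t * m) • V1 B.dat = m • V1 B.dat := by
          rw [mul_smul]
          refine AddSubgroup.eq_of_le_of_card_ge ?_ (card_smul t _).ge
          intro v hv
          obtain ⟨w, hw, rfl⟩ := (AddSubgroup.mem_smul_pointwise_iff_exists _ _ _).1 hv
          rw [← hy1' m hm hb w hw]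
          exact B.smul_V1_K hm hyK hw
        have h7 : t • b1 ∈ B.rest m := by
          have h8 := B.smul_rest ht hb1
          rwa [B.rest_congr h6] at h8
        have h9 : ∀ r ∈ B.YM, r • (t • c) = t • c := by
          intro r hr
          have h10 := hx _ (B.YM_conj (inv_mem ht) hr)
          rw [inv_inv, mul_smul, mul_smul, inv_smul_eq_iff] at h10
          exact h10
        have h11 := h2 _ hd
        rw [smul_add, smul_add] at h11
        have h12 : t • a1 - a1 = 0 := by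
          refine B.block_sep hm (x := t • a1 - a1) (b := b1 - t • b1) (c := c - t • c) (sub_mem ?_ ha1)
            (sub_mem hb1 h7) (fun r hr => by rw [smul_sub, hx r hr, h9 r hr]) ?_
          · rw [← h5]
            exact B.smul_V1_K hm hyK ha1
          · have h13 : t • a1 = a1 + b1 + c - t • b1 - t • c := by
              rw [← h11]
              abel
            rw [h13]
            abel
        rw [h5]
        exact sub_eq_zero.1 h12
      have e : y • (a1 + b1) - (a1 + b1) = y • b1 - b1 := by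
        rw [smul_add, h4]
        abel
      rw [e]
      exact sub_mem (B.rest_K hm hyK hb1) hb1
    rw [smul_add, hx y hy, sub_eq_zero.1 h3]
  · intro v hv
    induction hv using AddSubgroup.closure_induction with
    | mem v hv =>
      obtain ⟨m, hm, hb, hv⟩ := hv
      exact AddSubgroup.subset_closure ⟨m, hm, hb, B.smul_V1_K hm (inv_mem hyK) hv⟩
    | zero => rw [smul_zero]; exact zero_mem _
    | add a b _ _ ha hb => rw [smul_add]; exact add_mem ha hb
    | neg a _ ha => rw [smul_neg]; exact neg_mem ha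

/-- **LEMMA T2**, the local part -/
theorem t2 (ht : t ∈ M) (h1 : ∀ v ∈ V, br t v ∈ D) (h2 : ∀ d ∈ D, t • d = d) (hD : D ≤ V) :
    (∀ v ∈ B.bad D, v ∈ B.fc D → t • v = v) ∧
      ∃ m ∈ M, (∀ v ∈ B.bad D, m • v = v) ∧ ∀ v ∈ B.fc D, m • v = t • v := by
  obtain ⟨y, hy, hy1, hyD, hy3⟩ := B.exists_yD ht h1 h2 hD
  refine ⟨fun v hv hv' => ?_, t * y⁻¹, mul_mem ht (inv_mem (B.KM (B.YM_le hy))), fun v hv => ?_, fun v hv => ?_⟩
  · rw [← hy1 v hv]
    exact hv'.2 y hy hyD
  · rw [mul_smul, ← hy1 _ (hy3 v hv), smul_inv_smul]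
  · rw [mul_smul]
    congr 1
    rw [inv_smul_eq_iff]
    exact (hv.2 y hy hyD).symm

/-- `fc (C_V(S)) = C_V(S ∩ YM)` -/
theorem fc_fx {Z : AddSubgroup U} (hZ : ∀ z, z ∈ Z ↔ z ∈ V ∧ ∀ s ∈ S, s • z = z) {v : U} :
    v ∈ B.fc Z ↔ v ∈ V ∧ ∀ s ∈ S, s ∈ B.YM → s • v = v := by
  constructor
  · rintro ⟨hv, h3⟩
    exact ⟨hv, fun s hs hsY => h3 s hsY fun d hd => ((hZ d).1 hd).2 s hs⟩
  · rintro ⟨hv, h3⟩
    exact ⟨hv, fun r hr hrZ => B.hX hr (fun z hz hzS => hrZ z ((hZ z).2 ⟨hz, hzS⟩)) hv h3⟩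

/-- `C_V(Q) = F` -/
theorem mem_F {v : U} (hv : v ∈ V) (hQ : ∀ d ∈ Q, d • v = v) : v ∈ F := by
  obtain ⟨a, f, haf⟩ := B.dat.mdl.V_span hv
  by_cases ha : a ∈ B.dat.AZM
  · obtain ⟨u, rfl⟩ := B.dat.mdl.psi_surj f
    have h3 := B.dat.mdl.inF a ha u
    rw [Mdl.psi_apply] at haf
    have e : v = (v - B.dat.bt a u) + B.dat.bt a u := by abel
    rw [e]
    exact add_mem haf h3
  obtain ⟨s, hs, hs0⟩ := B.dat.mdl.ne
  obtain ⟨d, hd, e⟩ := B.dat.mdl.surj a ha s hs
  have hdQ : (d : H) ∈ Q := mem_subgroupOf.1 hd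
  have h3 : (f : AM B.dat →+ U) s = 0 := by
    rw [← e, map_sub, f.2]
    have h4 := B.dat.mdl.qF d hd _ haf
    have h5 : d • v = v := hQ _ hdQ
    rw [smul_sub, h5] at h4
    have h6 : d • (f : AM B.dat →+ U) a = (f : AM B.dat →+ U) a := by
      have h7 := congrArg (fun x => v - x) h4
      simpa using h7
    rw [h6, sub_self]
  have h4 : f = 0 := HomY.eq_zero h3 hs0
  rw [h4] at haf
  have h5 : ((0 : HomY Y (AM B.dat) U) : AM B.dat →+ U) a = 0 := rfl
  rwa [h5, sub_zero] at haf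

/-- `fc F = F` -/
theorem fc_F : B.fc F = F := by
  refine le_antisymm (fun v hv => B.mem_F hv.1 fun d hd => hv.2 d ?_ fun f hf => B.dat.qF d hd f hf) (B.le_fc B.dat.FV)
  have h3 := B.conj_mem_YM (M.one_mem) (B.dat.QY hd)
  rwa [one_mul, inv_one, mul_one] at h3

end Blk0

end Cfsg.Agent.Omega.NO3b.Exit.BlkZ
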