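import Cfsg.Agent.Omega.NO3b.Exit.Bridge

/-!
# TIGHT for the panels of the local exit `LocG`

* `Sit.two_ne` : two noncentral factors of `X` in `⟨V^X⟩` (`Mix.Two`) and `A` optimal on `U`: `A ∩ O₂(X) ≰ C(U)`;
* `TightOn V F T X U` : `U ≥ V` elementary abelian, some optimal offender `A` of `U` with `A ≤ B`, `A ≰ O₂(X)`, is
  TIGHT and `A ∩ O₂(X) ≰ C(U)`;
* `LocG.tight_gamma` : `V_H = zl S H`, `H = ⟨N_G(B), X⟩` FF: TIGHT on `V_H`;
* `LocG.tight_Y` : TIGHT on `Y = ⟨V^⟨S,X⟩⟩`, always.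
-/

set_option autoImplicit false

namespace Cfsg.Agent.Omega.NO3b.Exit.Bridge

open Subgroup Cfsg
open Cfsg.Agent.ZN (o2 zc zl)
open Cfsg.Agent.ZN.ChoiceBase (cj mem_cj cj_mono cj_eq_of_mem_normalizer mem_normalizer_iff_cj)
open Cfsg.Agent.MinSimple.VModule (oddGen oddGen_le le_normalizer_o2 le_normalizer_zl)
open Cfsg.Agent.Omega.NO3b.EZero (NotFF Par cl cl_le le_cl le_normalizer_cl)
open Cfsg.Agent.Omega.NO3b.Alpha (Fl)
open Cfsg.Agent.Omega.NO3b.K0.Mix (Two)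
open Cfsg.Agent.Omega.NOThreeL.Star (Opt Ok ff)
open scoped commutatorElement

universe u

variable {G : Type u} [Group G] [Finite G] {V F T X U A : Subgroup G}

/-- **two noncentral factors** imply `A ∩ O₂(X) ≰ C(U)` -/
theorem Sit.two_ne (s : Sit V F T X U) (o : Opt U A) (hA : A ≤ T) (hQ : ¬ A ≤ o2 X) (h2 : Two V X) :
    ¬ A ⊓ o2 X ≤ centralizer (U : Set G) := by
  have h : X ≤ normalizer (U : Set G) := s.XU
  have hX : X ≤ X := le_rfl
  have hAX : A ≤ X := hA.trans s.syl.1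
  obtain ⟨P, hP⟩ := s.exists_syl h hX
  obtain ⟨N, hNU, hXN, hn1, hn2⟩ := h2
  have hclU : cl V X ≤ U := cl_le fun x hx => by
    have h1 := cj_mono x s.VU
    rwa [cj_eq_of_mem_normalizer (h hx)] at h1
  have hodd : ∀ x : X, Odd (orderOf (x : G)) → Odd (orderOf (phi h hX x)) := fun x hx =>
    Odd.of_dvd_nat (by rw [← orderOf_coe x]; exact hx) (orderOf_map_dvd _ _)
  have key := TheoremL.Ne.ne_of_two (s.datU h hX hP) (s.mbu h hX o hA hQ) (N := ad s.cm N) (by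
    intro y v hv
    obtain ⟨x, rfl⟩ := phi_surjective h hX y
    rw [mem_ad, val_phi]
    exact (mem_normalizer_iff.1 (hXN x.2) _).1 hv) (by
    by_contra hcon
    push Not at hcon
    apply hn1
    rw [Subgroup.commutator_comm]
    have hON : oddGen X ≤ normalizer (N : Set G) := (oddGen_le X).trans hXN
    rw [commutator_le]
    intro g hg u hu
    -- the elements of `X` which act trivially on `U / N`
    let K : Subgroup G :=
      { carrier := {x : G | x ∈ X ∧ ∀ u ∈ U, x * u * x⁻¹ * u⁻¹ ∈ N}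
        one_mem' := ⟨one_mem _, fun u _ => by rw [one_mul, inv_one, mul_one, mul_inv_cancel]; exact one_mem _⟩
        mul_mem' := fun {x y} hx hy => ⟨mul_mem hx.1 hy.1, fun u hu => by
          have h3 : y * u * y⁻¹ ∈ U := (mem_normalizer_iff.1 (h hy.1) u).1 hu
          have e : x * y * u * (x * y)⁻¹ * u⁻¹ = (x * (y * u * y⁻¹) * x⁻¹ * (y * u * y⁻¹)⁻¹) *
              (y * u * y⁻¹ * u⁻¹) := by group
          rw [e]; exact mul_mem (hx.2 _ h3) (hy.2 u hu)⟩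
        inv_mem' := fun {x} hx => ⟨inv_mem hx.1, fun u hu => by
          have h3 : x⁻¹ * u * x⁻¹⁻¹ ∈ U := (mem_normalizer_iff.1 (h (inv_mem hx.1)) u).1 hu
          have h4 := inv_mem (hx.2 _ h3)
          have e : x⁻¹ * u * x⁻¹⁻¹ * u⁻¹ = (x * (x⁻¹ * u * x⁻¹⁻¹) * x⁻¹ * (x⁻¹ * u * x⁻¹⁻¹)⁻¹)⁻¹ := by group
          rw [e]; exact h4⟩ }
    have h3 : oddGen X ≤ K := by
      rw [MinSimple.VModule.oddGen_def, closure_le]
      rintro x ⟨hx, hxo⟩
      refine ⟨hx, fun u hu => ?_⟩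
      have h4 := hcon (phi h hX ⟨x, hx⟩) (hodd _ hxo) (Bridge.mk s.cm hu)
      rw [mem_ad, val_phi_sub] at h4
      exact h4
    have h5 := h3 hg
    exact h5.2 u (hclU hu)) (by
    by_contra hcon
    push Not at hcon
    apply hn2
    intro n hn
    rw [MinSimple.VModule.oddGen_def, centralizer_closure, mem_centralizer_iff]
    rintro x ⟨hx, hxo⟩
    have h4 := hcon (phi h hX ⟨x, hx⟩) (hodd _ hxo) (Bridge.mk s.cm (hclU (hNU hn))) hn
    exact (phi_smul_eq_iff h hX).1 h4)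
  intro h0
  apply key
  rw [eq_bot_iff]
  rintro y ⟨h1, h3⟩
  obtain ⟨a, ha, rfl⟩ := exists_of_mem_imx h hX hAX h1
  exact mem_bot.2 ((phi_eq_one h hX).2 (h0 ⟨ha, (s.mem_core_iff h hX (hA ha)).1 h3⟩))

/-- TIGHT on `U` for an optimal offender in `B`, and `A ∩ O₂(X) ≠ 1` on `U` -/
structure TightOn (B V F T X U A : Subgroup G) : Prop where
  sit : Sit V F T X U
  opt : Opt U A
  AB : A ≤ B
  AT : A ≤ T
  nle : ¬ A ≤ o2 X
  tight : GTight V F X U A
  ne : ¬ A ⊓ o2 X ≤ centralizer (U : Set G)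

theorem Sit.tightOn (s : Sit V F T X U) (o : Opt U A) {B : Subgroup G} (hAB : A ≤ B) (hA : A ≤ T) (hQ : ¬ A ≤ o2 X)
    (h2 : Two V X) : TightOn B V F T X U A :=
  ⟨s, o, hAB, hA, hQ, s.gtight o hA hQ, s.two_ne o hA hQ h2⟩

end Cfsg.Agent.Omega.NO3b.Exit.Bridge

namespace Cfsg.Agent.Omega.NOThreeL.HypGFrame.LocG

open Subgroup Cfsg
open Cfsg.Agent.ZN (o2 zc zl jj zj)
open Cfsg.Agent.Omega.NO3b.EZero (NotFF Par cl le_cl le_normalizer_cl)
open Cfsg.Agent.Omega.NO3b.Alpha (Fl)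
open Cfsg.Agent.Omega.NO3b.Exit (Adm Fr VB)
open Cfsg.Agent.Omega.NO3b.K0.Mix (Two)
open Cfsg.Agent.Omega.NOThreeL.Star (Opt)
open Cfsg.Agent.Omega.NO3b.Exit.Bridge (Sit TightOn)
open Cfsg.Agent.MinSimple.VModule (le_normalizer_zl)

universe u

variable {G : Type u} [Group G] [Finite G] {S : Sylow 2 G} {M B : Subgroup G} (h : LocG S M B)
include h

/-- `X` on `V_H`, `H = ⟨N_G(B), X⟩` -/
theorem sit_H (hG : IsCharacteristicTwoType G) {F T X : Subgroup G}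
    (f : Fl S (VB (S : Subgroup G) B) F T) (hZF : zc (S : Subgroup G) ≤ F)
    (p : Par (VB (S : Subgroup G) B) F T X) :
    Sit (VB (S : Subgroup G) B) F T X (zl (S : Subgroup G) (normalizer (B : Set G) ⊔ X)) := by
  have fr := h.fr F T X f hZF p
  exact Sit.of_fl hG h.adm.lines f p (NO3b.Exit.zl_cent (fr.SH h.adm) fr.char2)
    (NO3b.Exit.zl_sq' (fr.SH h.adm) fr.char2) fr.V_le (fr.XH.trans (le_normalizer_zl _ _))

/-- **(γ)**: TIGHT on `V_H` -/
theorem tight_gamma (hG : IsCharacteristicTwoType G) (hSne : (S : Subgroup G) ≠ ⊥) {F T X : Subgroup G}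
    (f : Fl S (VB (S : Subgroup G) B) F T) (hZF : zc (S : Subgroup G) ≤ F)
    (p : Par (VB (S : Subgroup G) B) F T X)
    (hff : ¬ NotFF (zl (S : Subgroup G) (normalizer (B : Set G) ⊔ X))) :
    ∃ A, TightOn B (VB (S : Subgroup G) B) F T X (zl (S : Subgroup G) (normalizer (B : Set G) ⊔ X)) A := by
  have fr := h.fr F T X f hZF p
  obtain ⟨A, hA, hAB, hAX, -⟩ := fr.gamma h.adm hff
  exact ⟨A, (h.sit_H hG f hZF p).tightOn hA hAB (hAB.trans fr.BT) hAX (h.two hG hSne f hZF p)⟩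

/-- `X` on `Y = ⟨V^⟨S,X⟩⟩` -/
theorem sit_Y (hG : IsCharacteristicTwoType G) {F T X : Subgroup G}
    (f : Fl S (VB (S : Subgroup G) B) F T) (hZF : zc (S : Subgroup G) ≤ F)
    (p : Par (VB (S : Subgroup G) B) F T X) :
    Sit (VB (S : Subgroup G) B) F T X (cl (VB (S : Subgroup G) B) ((S : Subgroup G) ⊔ X)) := by
  have fr := h.fr F T X f hZF p
  have hY : cl (VB (S : Subgroup G) B) ((S : Subgroup G) ⊔ X) ≤ zl (S : Subgroup G) (normalizer (B : Set G) ⊔ X) :=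
    fr.Y_le h.adm
  exact Sit.of_fl hG h.adm.lines f p (fr.Y_comm h.adm)
    (fun u hu => NO3b.Exit.zl_sq' (fr.SH h.adm) fr.char2 u (hY hu)) (le_cl _ _)
    (le_sup_right.trans (le_normalizer_cl _ _))

/-- **TIGHT on `Y = ⟨V^⟨S,X⟩⟩`**, in every case. -/
theorem tight_Y (hG : IsCharacteristicTwoType G) (hSne : (S : Subgroup G) ≠ ⊥) {F T X : Subgroup G}
    (f : Fl S (VB (S : Subgroup G) B) F T) (hZF : zc (S : Subgroup G) ≤ F)
    (p : Par (VB (S : Subgroup G) B) F T X) :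
    ∃ A, TightOn B (VB (S : Subgroup G) B) F T X (cl (VB (S : Subgroup G) B) ((S : Subgroup G) ⊔ X)) A := by
  have fr := h.fr F T X f hZF p
  obtain ⟨A, hA, hAB, hAX⟩ := h.exists_optY hG hSne f hZF p
  exact ⟨A, (h.sit_Y hG f hZF p).tightOn hA hAB (hAB.trans fr.BT) hAX (h.two hG hSne f hZF p)⟩

end Cfsg.Agent.Omega.NOThreeL.HypGFrame.LocG
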