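import Cfsg.Agent.Omega.NO3b.TheoremL.Ne
import Cfsg.Agent.Omega.NO3b.Exit.TightDat

/-!
# THEOREM L (344) → the M-side frame `MX` (#18749, #18319)

`Γ` acts faithfully on `U`; `X ≤ Γ`, `S ∈ Syl₂(X)`, `DatU S V F`, `MBU U B` for the group `X`; `M ≤ Γ` stabilises `V`,
`O₂(X) ≤ M`, `D ⊴ M`, `B ≤ D ≤ X`, `D` centralises `V`, `O₂(M / C_M(V)) = 1`, `B ∩ O₂(X) ≠ 1`.

* `R_le` : `{x ∈ X | [U, x] ≤ F} ≤ O₂(X)`;
* `mx_of_tight` : `MX M X D B V F x` for every line `x V` which is moved by `B`;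
* `exists_mx` : such an `x` exists; `exists_mx_of_two` : with two noncentral `X`-factors instead of `B ∩ O₂(X) ≠ 1`.
-/

set_option autoImplicit false

namespace Cfsg.Agent.Omega.NO3b.Exit.TDat

open Subgroup
open Cfsg (pCore)
open Cfsg.Agent.Omega.FF.Basic
open Cfsg.Agent.Omega.NO3b.Exit.TT (nf cf mem_smul mem_nf smul_mem' quad')
open Cfsg.Agent.Omega.NO3b.TheoremL.Tight (DatU MBU TightAt Tight tight fx_sub)
open Cfsg.Agent.Omega.NO3b.Exit.Ten (br br_def br_mul br_one br_zero br_conj_smul br_eq_zero smul_eq)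
open scoped Pointwise

universe u v

section r

variable {X : Type u} {U : Type v} [Group X] [AddCommGroup U] [DistribMulAction X U]

/-- `{x | [U, x] ≤ F} ≤ O₂(X)` -/
theorem R_le {F : AddSubgroup U} (two : ∀ u : U, u + u = 0) (faith : ∀ x : X, (∀ u : U, x • u = u) → x = 1)
    (Fx : ∀ (x : X), ∀ f ∈ F, x • f = f) {x : X} (hx : ∀ u : U, x • u - u ∈ F) : x ∈ pCore 2 X := by
  let R : Subgroup X :=
    { carrier := {x | ∀ u : U, br x u ∈ F}
      one_mem' := fun u => by rw [br_one]; exact zero_mem _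
      mul_mem' := fun {a b} ha hb u => by
        rw [br_mul]
        exact F.add_mem (F.add_mem (ha _) (hb u)) (ha u)
      inv_mem' := fun {a} ha u => by
        have e : br a⁻¹ u = - (a⁻¹ • br a u) := by
          simp only [br_def, smul_sub, inv_smul_smul]; abel
        rw [e, Fx _ _ (ha u)]
        exact F.neg_mem (ha u) }
  have hR : R.Normal := ⟨fun n hn g u => by
    have e : u = g • (g⁻¹ • u) := (smul_inv_smul g u).symm
    rw [e, br_conj_smul, Fx g _ (hn _)]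
    exact hn _⟩
  have h2 : IsPGroup 2 R := by
    rintro ⟨r, hr⟩
    refine ⟨1, Subtype.ext ?_⟩
    rw [pow_one, pow_two]
    refine faith _ fun u => ?_
    have h1 : br (r * r) u = 0 := by
      rw [br_mul, br_def r (br r u), Fx r _ (hr u), sub_self, zero_add, two]
    exact br_eq_zero.1 h1
  exact Lib.Cores.le_pCore hR h2 (show x ∈ R from hx)

end r

section mx

variable {Γ : Type u} [Group Γ] [Finite Γ] {U : Type v} [AddCommGroup U] [Finite U] [DistribMulAction Γ U]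
  {M X D : Subgroup Γ} {V F : AddSubgroup U} {S : Sylow 2 X} {B : Subgroup X}

/-- THEOREM L gives the M-side frame, for every line which is moved by `B`. -/
theorem mx_of_tight (faith : ∀ y : Γ, (∀ u : U, y • u = u) → y = 1) (h : DatU S V F) (m : MBU U B)
    (hne : B ⊓ pCore 2 X ≠ ⊥) (MV : ∀ m ∈ M, ∀ v ∈ V, m • v ∈ V) (DX : D ≤ X) (BD : B.map X.subtype ≤ D)
    (MD : ∀ m ∈ M, ∀ d ∈ D, m * d * m⁻¹ ∈ D) (DV : ∀ d ∈ D, ∀ v ∈ V, d • v = v)
    (hM : (pCore 2 X).map X.subtype ≤ M) (red : Red M V) {x : X} (hx : ¬ B ≤ nf X (x • V)) :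
    MX M X D (B.map X.subtype) V F (x : Γ) := by
  have t := tight h m
  have ta := t.all x hx
  refine { faith := faith, two := h.two, MV := MV, FV := h.FV, Fx := ?_, ti := ?_, gX := x.2, DX := DX, BD := BD,
           MD := MD, DV := DV, quad := ?_, sup := ?_, inf := ?_, ne := ?_, RM := ?_, red := red }
  · intro y hy f hf
    exact h.Fx ⟨y, hy⟩ f hf
  · intro y hy hyV
    exact h.ti ⟨y, hy⟩ hyV
  · rintro _ ⟨a, ha, rfl⟩ _ ⟨b, hb, rfl⟩ u
    exact quad' h.two m.ea m.ne_bot m.off m.min a ha b hb u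
  · rw [fx_sub]; exact ta.sup
  · rw [fx_sub]; exact ta.inf.le
  · obtain ⟨⟨y, hy⟩, hy1⟩ := Subgroup.ne_bot_iff_exists_ne_one.1 hne
    exact ⟨y, ⟨y, hy.1, rfl⟩, fun h0 => hy1 (Subtype.ext (Subtype.ext h0)), fun u => t.comm y hy u⟩
  · intro y hy hyF
    exact hM ⟨⟨y, hy⟩, R_le h.two h.faith h.Fx hyF, rfl⟩

theorem exists_mx (faith : ∀ y : Γ, (∀ u : U, y • u = u) → y = 1) (h : DatU S V F) (m : MBU U B)
    (hne : B ⊓ pCore 2 X ≠ ⊥) (MV : ∀ m ∈ M, ∀ v ∈ V, m • v ∈ V) (DX : D ≤ X) (BD : B.map X.subtype ≤ D)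
    (MD : ∀ m ∈ M, ∀ d ∈ D, m * d * m⁻¹ ∈ D) (DV : ∀ d ∈ D, ∀ v ∈ V, d • v = v)
    (hM : (pCore 2 X).map X.subtype ≤ M) (red : Red M V) :
    ∃ x ∈ X, MX M X D (B.map X.subtype) V F x := by
  obtain ⟨x, hx⟩ := (tight h m).ex
  exact ⟨x, x.2, mx_of_tight faith h m hne MV DX BD MD DV hM red hx⟩

/-- with 823's `Two` -/
theorem exists_mx_of_two (faith : ∀ y : Γ, (∀ u : U, y • u = u) → y = 1) (h : DatU S V F) (m : MBU U B)
    {N : AddSubgroup U} (hN : ∀ x ∈ X, ∀ v ∈ N, x • v ∈ N)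
    (h1 : ∃ x ∈ X, Odd (orderOf x) ∧ ∃ u : U, x • u - u ∉ N) (h2 : ∃ x ∈ X, Odd (orderOf x) ∧ ∃ v ∈ N, x • v ≠ v)
    (MV : ∀ m ∈ M, ∀ v ∈ V, m • v ∈ V) (DX : D ≤ X) (BD : B.map X.subtype ≤ D)
    (MD : ∀ m ∈ M, ∀ d ∈ D, m * d * m⁻¹ ∈ D) (DV : ∀ d ∈ D, ∀ v ∈ V, d • v = v)
    (hM : (pCore 2 X).map X.subtype ≤ M) (red : Red M V) :
    ∃ x ∈ X, MX M X D (B.map X.subtype) V F x := by
  refine exists_mx faith h m ?_ MV DX BD MD DV hM red
  refine TheoremL.Ne.ne_of_two h m (N := N) (fun x v hv => hN x x.2 v hv) ?_ ?_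
  · obtain ⟨x, hx, ho, u, hu⟩ := h1
    exact ⟨⟨x, hx⟩, by rwa [Subgroup.orderOf_mk], u, hu⟩
  · obtain ⟨x, hx, ho, v, hv, hne⟩ := h2
    exact ⟨⟨x, hx⟩, by rwa [Subgroup.orderOf_mk], v, hv, hne⟩

end mx

end Cfsg.Agent.Omega.NO3b.Exit.TDat
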