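import Cfsg.Agent.Omega.NO3b.Exit.TightBlk
import Cfsg.Agent.Omega.NO3b.Exit.TenField
import Cfsg.Agent.Omega.NO3b.Exit.DescBlk

/-!
# The blocks of `V` in LOC without (PR) (helper255, bb 20845), part 1

`Blk0 Y Q BB V F L C h M KV S` : helper823's `TBlk.Blk` without the fields `OM`, `pr`, `cz`, `gen` (no hypothesis
on the generation of `V` is needed: `gen_dec` of `BlkHX.lean` comes from `TenSplit.lean`, helper449).

* `dich`, `cent`, `indep`, `mem_all`, `br_YM` : as in TightBlk.lean (copied);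
* `all_sep` : an element of `all = Σ m V₁` fixed by `YM` is zero; `exists_dec` : `V = all + C_V(YM)` (Gaschütz);
* `exists_comp` : every block carries a component `≠ 0` of some `z ∈ C_V(S) ∩ all`;
* `ann_one`, `odd_T` : the action on one block;
* **`hX`** : `x ∈ YM` which fixes `C_V(S)` fixes `C_V(S ∩ YM)`;
* `moves` : `S ∩ YM` moves `V`.
-/

set_option autoImplicit false

open scoped Pointwise

namespace Cfsg.Agent.Omega.NO3b.Exit.BlkZ

open Subgroup Cfsg.Agent.Omega.NO3b.Exit Ten Descent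
open Cfsg.Agent.Omega.NO3b.Exit.TBlk hiding Blk

universe u v

/-- The situation with `M`. -/
structure Blk0 {H : Type u} {U : Type v} [Group H] [AddCommGroup U] [DistribMulAction H U]
    (Y Q BB : Subgroup H) (V F L C : AddSubgroup U) (h : H) (M KV S : Subgroup H) : Prop where
  dat : Dat Y Q BB V F L C h
  KM : KV ≤ M
  nK : ∀ m ∈ M, ∀ k ∈ KV, m * k * m⁻¹ ∈ KV
  mV : ∀ m ∈ M, ∀ v ∈ V, m • v ∈ V
  kV : ∀ k ∈ KV, ∀ u : U, br k u ∈ V
  kB : ∀ k ∈ KV, ∀ b ∈ BB, k * b * k⁻¹ ∈ BB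
  sn : Sn Y KV
  SM : S ≤ M
  S2 : IsPGroup 2 S
  syl : ¬ 2 ∣ S.relIndex M

namespace Blk0

variable {H : Type u} {U : Type v} [Group H] [AddCommGroup U] [DistribMulAction H U]
variable {Y Q BB : Subgroup H} {V F L C : AddSubgroup U} {h : H} {M KV S : Subgroup H}
variable (B : Blk0 Y Q BB V F L C h M KV S)
include B

theorem AA_K [Finite H] [Finite U] : ∀ k ∈ KV, ∀ x ∈ B.dat.AA, k * x * k⁻¹ ∈ B.dat.AA :=
  AA_KV B.dat B.sn B.kB B.kV

theorem V1_K [Finite H] [Finite U] {k : H} (hk : k ∈ KV) {v : U} (hv : v ∈ V1 B.dat) : k • v ∈ V1 B.dat :=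
  V1_inv B.dat B.AA_K B.kV hk hv

theorem YK : Y ≤ KV := B.sn.le

theorem br_K [Finite H] [Finite U] {k y : H} (hk : k ∈ KV) (hy : y ∈ B.dat.AA) (u : U) :
    br (k * y * k⁻¹) u = k • br y u :=
  B.dat.br_conj' (fun u => B.dat.VC (B.kV _ (inv_mem hk) u)) (B.dat.AA_le hy) u

theorem nK' {m : H} (hm : m ∈ M) {k : H} (hk : k ∈ KV) : m⁻¹ * k * m ∈ KV := by
  have := B.nK m⁻¹ (inv_mem hm) k hk
  rwa [inv_inv] at this

/-- `m V₁` is `KV`-invariant. -/
theorem smul_V1_K [Finite H] [Finite U] {m : H} (hm : m ∈ M) {k : H} (hk : k ∈ KV) {v : U}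
    (hv : v ∈ m • V1 B.dat) : k • v ∈ m • V1 B.dat := by
  obtain ⟨w, hw, rfl⟩ := (AddSubgroup.mem_smul_pointwise_iff_exists _ _ _).1 hv
  refine (AddSubgroup.mem_smul_pointwise_iff_exists _ _ _).2 ⟨(m⁻¹ * k * m) • w, B.V1_K (B.nK' hm hk) hw, ?_⟩
  rw [smul_smul, smul_smul]
  congr 1
  group

theorem smul_V1_le {m : H} (hm : m ∈ M) : m • V1 B.dat ≤ V := by
  intro v hv
  obtain ⟨w, hw, rfl⟩ := (AddSubgroup.mem_smul_pointwise_iff_exists _ _ _).1 hv
  exact B.mV m hm w (V1_le B.dat hw)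

/-- **Dichotomy**, half: `V₁ ∩ m V₁ ≠ 0` implies `m V₁ ≤ V₁`. -/
theorem le_of_inf_ne [Finite H] [Finite U] {m : H} (hm : m ∈ M) (hne : V1 B.dat ⊓ m • V1 B.dat ≠ ⊥) :
    m • V1 B.dat ≤ V1 B.dat := by
  have D := B.dat
  -- `[l, AA] ≤ V₁ ∩ m V₁`
  have hW : ∀ k ∈ KV, ∀ w ∈ V1 B.dat ⊓ m • V1 B.dat, k • w ∈ V1 B.dat ⊓ m • V1 B.dat :=
    fun k hk w hw => ⟨B.V1_K hk hw.1, B.smul_V1_K hm hk hw.2⟩
  obtain ⟨l, hl, hlC, hlW⟩ := exists_sub D (W := V1 B.dat ⊓ m • V1 B.dat) (inf_le_left.trans (V1_le D))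
    (fun k hk => hW k (B.YK hk)) (not_le_F D inf_le_left (fun k hk => hW k (B.YK hk)) hne)
  -- `W' = m⁻¹ [l, AA]`
  let W' : AddSubgroup U :=
    { carrier := {w | ∃ y ∈ D.AA, m • w = br y l}
      zero_mem' := ⟨1, one_mem _, by rw [smul_zero, br_one]⟩
      add_mem' := by
        rintro a b ⟨y, hy, e⟩ ⟨y', hy', e'⟩
        exact ⟨y * y', mul_mem hy hy', by rw [smul_add, e, e', br_AA_mul D hy hy']⟩
      neg_mem' := by
        rintro a ⟨y, hy, e⟩
        exact ⟨y, hy, by rw [smul_neg, e, D.neg_eq]⟩ }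
  have hW1 : W' ≤ V1 D := by
    rintro w ⟨y, hy, e⟩
    have h1 : m • w ∈ m • V1 B.dat := by rw [e]; exact (hlW y hy).2
    exact (AddSubgroup.smul_mem_pointwise_smul_iff).1 h1
  have hW2 : ∀ k ∈ KV, ∀ w ∈ W', k • w ∈ W' := by
    rintro k hk w ⟨y, hy, e⟩
    refine ⟨m * k * m⁻¹ * y * (m * k * m⁻¹)⁻¹, B.AA_K _ (B.nK m hm k hk) y hy, ?_⟩
    rw [B.br_K (B.nK m hm k hk) hy, ← e, smul_smul, smul_smul]
    congr 1
    group
  have hW3 : W' ≠ ⊥ := by
    obtain ⟨a, ha, ha'⟩ := D.exists_notMem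
    intro h0
    have h1 : m⁻¹ • br a l ∈ W' := ⟨a, ha, by rw [smul_inv_smul]⟩
    rw [h0, AddSubgroup.mem_bot] at h1
    have h2 : br a l = 0 := by rw [← smul_inv_smul m (br a l), h1, smul_zero]
    have h3 := eq_one_of_br D hlC ha h2
    exact ha' (h3 ▸ one_mem _)
  obtain ⟨l', hl', hlC', hlW'⟩ := exists_sub D (W := W') (hW1.trans (V1_le D)) (fun k hk => hW2 k (B.YK hk))
    (not_le_F D hW1 (fun k hk => hW2 k (B.YK hk)) hW3)
  -- the bijection
  have hex : ∀ y : D.AA, ∃ x : D.AA, m • br (y : H) l' = br (x : H) l := fun y => by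
    obtain ⟨x, hx, e⟩ := hlW' y y.2
    exact ⟨⟨x, hx⟩, e⟩
  choose θ hθ using hex
  have hinj : Function.Injective θ := by
    intro y y' e
    have h1 : m • br (y : H) l' = m • br (y' : H) l' := by rw [hθ, hθ, e]
    have h2 : br (y : H) l' = br (y' : H) l' := smul_left_cancel m h1
    have h3 : (y : H) * (y' : H) = 1 := by
      refine eq_one_of_br D hlC' (mul_mem y.2 y'.2) ?_
      rw [br_AA_mul D y.2 y'.2, h2, D.two]
    have h4 := D.sq_B (D.AA_le y'.2)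
    exact Subtype.ext (mul_right_cancel (h3.trans h4.symm))
  have hbij : Function.Bijective θ := (Finite.injective_iff_bijective).1 hinj
  have hθmul : ∀ y y' : D.AA, θ (y * y') = θ y * θ y' := by
    intro y y'
    have h1 : br ((θ (y * y') : D.AA) : H) l = br ((θ y * θ y' : D.AA) : H) l := by
      rw [← hθ, Subgroup.coe_mul, Subgroup.coe_mul, br_AA_mul D y.2 y'.2, br_AA_mul D (θ y).2 (θ y').2, smul_add,
        hθ, hθ]
    have h3 : ((θ (y * y') : D.AA) : H) * ((θ y * θ y' : D.AA) : H) = 1 := by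
      refine eq_one_of_br D hlC (mul_mem (θ (y * y')).2 (θ y * θ y').2) ?_
      rw [br_AA_mul D (θ (y * y')).2 (θ y * θ y').2, h1, D.two]
    have h4 := D.sq_B (D.AA_le (θ y * θ y').2)
    exact Subtype.ext (mul_right_cancel (h3.trans h4.symm))
  have hθK : ∀ k ∈ KV, ∀ y : D.AA, ∀ y' : D.AA, (y' : H) = k * y * k⁻¹ →
      ((θ y' : D.AA) : H) = m * k * m⁻¹ * (θ y : H) * (m * k * m⁻¹)⁻¹ := by
    intro k hk y y' e
    have hmk := B.nK m hm k hk
    have hx : m * k * m⁻¹ * (θ y : H) * (m * k * m⁻¹)⁻¹ ∈ D.AA := B.AA_K _ hmk _ (θ y).2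
    have h1 : br ((θ y' : D.AA) : H) l = br (m * k * m⁻¹ * (θ y : H) * (m * k * m⁻¹)⁻¹) l := by
      rw [← hθ, e, B.br_K hk y.2, B.br_K hmk (θ y).2, ← hθ, smul_smul, smul_smul]
      congr 1
      group
    have h3 : ((θ y' : D.AA) : H) * (m * k * m⁻¹ * (θ y : H) * (m * k * m⁻¹)⁻¹) = 1 := by
      refine eq_one_of_br D hlC (mul_mem (θ y').2 hx) ?_
      rw [br_AA_mul D (θ y').2 hx, h1, D.two]
    have h4 := D.sq_B (D.AA_le hx)
    exact mul_right_cancel (h3.trans h4.symm)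
  -- the homomorphisms
  intro v hv
  obtain ⟨w, hw, rfl⟩ := (AddSubgroup.mem_smul_pointwise_iff_exists _ _ _).1 hv
  clear hv
  induction hw using AddSubgroup.closure_induction with
  | zero => rw [smul_zero]; exact zero_mem _
  | add a b _ _ ha hb => rw [smul_add]; exact add_mem ha hb
  | neg a _ ha => rw [smul_neg]; exact neg_mem ha
  | mem w hw =>
    obtain ⟨x0, hx0, u, rfl⟩ := hw
    classical
    let ψ : D.AA → D.AA := fun y => (hbij.2 y).choose
    have hψ : ∀ y, θ (ψ y) = y := fun y => (hbij.2 y).choose_spec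
    let φ : H → U := fun y => if hy : y ∈ D.AA then m • br ((ψ ⟨y, hy⟩ : D.AA) : H) u else 0
    have hφ : ∀ y (hy : y ∈ D.AA), φ y = m • br ((ψ ⟨y, hy⟩ : D.AA) : H) u := fun y hy => dif_pos hy
    have hψmul : ∀ y y' : D.AA, ψ (y * y') = ψ y * ψ y' := fun y y' => hinj (by
      rw [hθmul, hψ, hψ, hψ])
    obtain ⟨l2, hl2, e2⟩ := exists_hom D (φ := φ) (fun x hx y hy => by
        rw [hφ x hx, hφ y hy, hφ _ (mul_mem hx hy)]
        have e : (⟨x * y, mul_mem hx hy⟩ : D.AA) = ⟨x, hx⟩ * ⟨y, hy⟩ := rfl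
        rw [e, hψmul, Subgroup.coe_mul, br_AA_mul D (ψ _).2 (ψ _).2, smul_add])
      (fun y hy => by rw [hφ y hy]; exact B.mV m hm _ (D.AA_V (ψ _).2 u))
      (fun k hk y hy => by
        have hkK := B.YK hk
        have hmk := B.nK' hm hkK
        rw [hφ y hy, hφ _ (D.AA_conj hk hy)]
        have hx : m⁻¹ * k * m * (ψ ⟨y, hy⟩ : H) * (m⁻¹ * k * m)⁻¹ ∈ D.AA := B.AA_K _ hmk _ (ψ _).2
        have h1 : ψ ⟨k * y * k⁻¹, D.AA_conj hk hy⟩ = ⟨_, hx⟩ := by
          apply hinj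
          rw [hψ]
          apply Subtype.ext
          rw [hθK _ hmk (ψ ⟨y, hy⟩) ⟨_, hx⟩ rfl, hψ]
          group
        rw [h1]
        change m • br (m⁻¹ * k * m * (ψ ⟨y, hy⟩ : H) * (m⁻¹ * k * m)⁻¹) u = _
        rw [B.br_K hmk (ψ _).2, smul_smul, smul_smul]
        congr 1
        group)
    have h1 := e2 (θ ⟨x0, hx0⟩) (θ ⟨x0, hx0⟩).2
    rw [hφ _ (θ ⟨x0, hx0⟩).2] at h1
    have h2 : ψ ⟨(θ ⟨x0, hx0⟩ : H), (θ ⟨x0, hx0⟩).2⟩ = ⟨x0, hx0⟩ := hinj (by rw [hψ])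
    rw [h2] at h1
    rw [h1]
    exact br_mem_V1 D (θ ⟨x0, hx0⟩).2 l2

omit B in
theorem card_smul (m : H) (X : AddSubgroup U) : Nat.card (m • X : AddSubgroup U) = Nat.card X :=
  Nat.card_congr ⟨fun x => ⟨m⁻¹ • (x : U), AddSubgroup.mem_pointwise_smul_iff_inv_smul_mem.1 x.2⟩,
    fun x => ⟨m • (x : U), AddSubgroup.smul_mem_pointwise_smul _ _ _ x.2⟩,
    fun _ => Subtype.ext (smul_inv_smul m _), fun _ => Subtype.ext (inv_smul_smul m _)⟩

theorem mem_smul {m : H} {v : U} : v ∈ m • V1 B.dat ↔ ∃ w ∈ V1 B.dat, m • w = v :=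
  AddSubgroup.mem_smul_pointwise_iff_exists _ _ _

/-- **Dichotomy** -/
theorem dich [Finite H] [Finite U] {m : H} (hm : m ∈ M) : m • V1 B.dat = V1 B.dat ∨ V1 B.dat ⊓ m • V1 B.dat = ⊥ := by
  by_cases hne : V1 B.dat ⊓ m • V1 B.dat = ⊥
  · exact Or.inr hne
  left
  have h1 := B.le_of_inf_ne hm hne
  refine AddSubgroup.eq_of_le_of_card_ge h1 (le_of_eq ?_)
  exact (card_smul m _).symm

/-- `Y^m` centralises `m' V₁ ≠ m V₁`. -/
theorem cent [Finite H] [Finite U] {m m' : H} (hm : m ∈ M) (hm' : m' ∈ M)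
    (hne : m • V1 B.dat ≠ m' • V1 B.dat) {k : H} (hk : k ∈ Y) {v : U} (hv : v ∈ m' • V1 B.dat) :
    (m * k * m⁻¹) • v = v := by
  have hn : m⁻¹ * m' ∈ M := mul_mem (inv_mem hm) hm'
  have h1 : V1 B.dat ⊓ (m⁻¹ * m') • V1 B.dat = ⊥ := by
    refine (B.dich hn).resolve_left fun h1 => hne ?_
    rw [mul_smul, inv_smul_eq_iff] at h1
    exact h1.symm
  have hv' : m⁻¹ • v ∈ (m⁻¹ * m') • V1 B.dat := by
    rw [mul_smul]
    exact AddSubgroup.smul_mem_pointwise_smul _ _ _ hv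
  have h2 : br k (m⁻¹ • v) ∈ V1 B.dat ⊓ (m⁻¹ * m') • V1 B.dat := by
    refine ⟨br_Y_V1 B.dat hk (B.smul_V1_le hn hv'), ?_⟩
    change br k (m⁻¹ • v) ∈ (m⁻¹ * m') • V1 B.dat
    rw [br_def]
    exact sub_mem (B.smul_V1_K hn (B.YK hk) hv') hv'
  rw [h1, AddSubgroup.mem_bot, br_eq_zero] at h2
  rw [mul_smul, mul_smul, h2, smul_inv_smul]

/-- the sum of the blocks different from `m V₁` -/
def rest (m : H) : AddSubgroup U := AddSubgroup.closure {v | ∃ m' ∈ M, m • V1 B.dat ≠ m' • V1 B.dat ∧ v ∈ m' • V1 B.dat}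

/-- the sum of all blocks -/
def all : AddSubgroup U := AddSubgroup.closure {v | ∃ m ∈ M, v ∈ m • V1 B.dat}

theorem le_rest {m m' : H} (hm' : m' ∈ M) (hne : m • V1 B.dat ≠ m' • V1 B.dat) : m' • V1 B.dat ≤ B.rest m :=
  fun _ hv => AddSubgroup.subset_closure ⟨m', hm', hne, hv⟩

theorem le_all {m : H} (hm : m ∈ M) : m • V1 B.dat ≤ B.all :=
  fun _ hv => AddSubgroup.subset_closure ⟨m, hm, hv⟩

theorem rest_le_all (m : H) : B.rest m ≤ B.all := by
  refine (AddSubgroup.closure_le _).2 ?_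
  rintro v ⟨m', hm', -, hv⟩
  exact B.le_all hm' hv

theorem all_le : B.all ≤ V := by
  refine (AddSubgroup.closure_le _).2 ?_
  rintro v ⟨m, hm, hv⟩
  exact B.smul_V1_le hm hv

theorem rest_le (m : H) : B.rest m ≤ V := (B.rest_le_all m).trans B.all_le

theorem cent_rest [Finite H] [Finite U] {m : H} (hm : m ∈ M) {k : H} (hk : k ∈ Y) {v : U} (hv : v ∈ B.rest m) :
    (m * k * m⁻¹) • v = v := by
  induction hv using AddSubgroup.closure_induction with
  | mem v hv =>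
    obtain ⟨m', hm', hne, hv⟩ := hv
    exact B.cent hm hm' hne hk hv
  | zero => exact smul_zero _
  | add a b _ _ ha hb => rw [smul_add, ha, hb]
  | neg a _ ha => rw [smul_neg, ha]

/-- **The sum of the blocks is direct.** -/
theorem indep [Finite H] [Finite U] {m : H} (hm : m ∈ M) : m • V1 B.dat ⊓ B.rest m = ⊥ := by
  rw [eq_bot_iff]
  rintro v ⟨hv1, hv2⟩
  obtain ⟨w, hw, rfl⟩ := B.mem_smul.1 hv1
  have h1 : w = 0 := V1_fix B.dat hw fun k hk => by
    have h2 := B.cent_rest hm hk hv2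
    rw [smul_smul, inv_mul_cancel_right, mul_smul] at h2
    exact smul_left_cancel m h2
  rw [h1, smul_zero]
  exact zero_mem _

theorem mem_all {v : U} (hv : v ∈ B.all) (m : H) : ∃ a ∈ m • V1 B.dat, ∃ b ∈ B.rest m, v = a + b := by
  classical
  induction hv using AddSubgroup.closure_induction with
  | mem v hv =>
    obtain ⟨m', hm', hv⟩ := hv
    by_cases hne : m • V1 B.dat = m' • V1 B.dat
    · exact ⟨v, hne ▸ hv, 0, zero_mem _, (add_zero v).symm⟩
    · exact ⟨0, zero_mem _, v, B.le_rest hm' hne hv, (zero_add v).symm⟩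
  | zero => exact ⟨0, zero_mem _, 0, zero_mem _, (add_zero 0).symm⟩
  | add a b _ _ ha hb =>
    obtain ⟨a1, ha1, a2, ha2, rfl⟩ := ha
    obtain ⟨b1, hb1, b2, hb2, rfl⟩ := hb
    exact ⟨_, add_mem ha1 hb1, _, add_mem ha2 hb2, by abel⟩
  | neg a _ ha =>
    obtain ⟨a1, ha1, a2, ha2, rfl⟩ := ha
    exact ⟨_, neg_mem ha1, _, neg_mem ha2, by abel⟩

/-- `M` permutes the blocks. -/
theorem all_M {m : H} (hm : m ∈ M) {v : U} (hv : v ∈ B.all) : m • v ∈ B.all := by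
  induction hv using AddSubgroup.closure_induction with
  | mem v hv =>
    obtain ⟨m', hm', hv⟩ := hv
    refine B.le_all (mul_mem hm hm') ?_
    rw [mul_smul]
    exact AddSubgroup.smul_mem_pointwise_smul _ _ _ hv
  | zero => rw [smul_zero]; exact zero_mem _
  | add a b _ _ ha hb => rw [smul_add]; exact add_mem ha hb
  | neg a _ ha => rw [smul_neg]; exact neg_mem ha

/-- the normal closure of `Y` in `M` -/
def YM (_B : Blk0 Y Q BB V F L C h M KV S) : Subgroup H := closure {x | ∃ m ∈ M, ∃ k ∈ Y, x = m * k * m⁻¹}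

theorem YM_le : B.YM ≤ KV := by
  refine (closure_le _).2 ?_
  rintro _ ⟨m, hm, k, hk, rfl⟩
  exact B.nK m hm k (B.YK hk)

theorem YM_conj {m x : H} (hm : m ∈ M) (hx : x ∈ B.YM) : m * x * m⁻¹ ∈ B.YM := by
  induction hx using closure_induction with
  | mem x hx =>
    obtain ⟨g, hg, k, hk, rfl⟩ := hx
    exact subset_closure ⟨m * g, mul_mem hm hg, k, hk, by group⟩
  | one => rw [mul_one, mul_inv_cancel]; exact one_mem _
  | mul x y _ _ hx hy =>
    have e : m * (x * y) * m⁻¹ = m * x * m⁻¹ * (m * y * m⁻¹) := by group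
    rw [e]; exact mul_mem hx hy
  | inv x _ hx =>
    have e : m * x⁻¹ * m⁻¹ = (m * x * m⁻¹)⁻¹ := by group
    rw [e]; exact inv_mem hx

theorem conj_mem_YM {m k : H} (hm : m ∈ M) (hk : k ∈ Y) : m * k * m⁻¹ ∈ B.YM :=
  subset_closure ⟨m, hm, k, hk, rfl⟩

/-- `[V, Y^M] ≤ Σ m V₁` -/
theorem br_YM [Finite H] [Finite U] {x : H} (hx : x ∈ B.YM) {v : U} (hv : v ∈ V) : br x v ∈ B.all := by
  induction hx using closure_induction generalizing v with
  | mem x hx =>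
    obtain ⟨m, hm, k, hk, rfl⟩ := hx
    have e : v = m • (m⁻¹ • v) := (smul_inv_smul m v).symm
    rw [e, br_conj_smul]
    refine B.le_all hm (AddSubgroup.smul_mem_pointwise_smul _ _ _ ?_)
    exact br_Y_V1 B.dat hk (B.mV _ (inv_mem hm) v hv)
  | one => rw [br_one]; exact zero_mem _
  | mul a b ha _ iha ihb =>
    have e : br (a * b) v = a • br b v + br a v := by
      simp only [br_def, mul_smul, smul_sub]; abel
    rw [e]
    exact add_mem (B.all_M (B.KM (B.YM_le ha)) (ihb hv)) (iha hv)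
  | inv a ha iha =>
    have e : br a⁻¹ v = - br a (a⁻¹ • v) := by
      rw [br_def, br_def, smul_inv_smul]; abel
    rw [e]
    exact neg_mem (iha (B.mV _ (inv_mem (B.KM (B.YM_le ha))) v hv))

/-- `KV` normalises every block. -/
theorem smul_eq_K [Finite H] [Finite U] {m k : H} (hm : m ∈ M) (hk : k ∈ KV) :
    k • m • V1 B.dat = m • V1 B.dat := by
  refine AddSubgroup.eq_of_le_of_card_ge (fun v hv => ?_) (le_of_eq ?_)
  · obtain ⟨w, hw, rfl⟩ := (AddSubgroup.mem_smul_pointwise_iff_exists _ _ _).1 hv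
    exact B.smul_V1_K hm hk hw
  · exact (card_smul k _).symm


end Blk0

end Cfsg.Agent.Omega.NO3b.Exit.BlkZ
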