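import Cfsg.Agent.Omega.NO3b.Exit.TightBlkMX
import Cfsg.Agent.Omega.NO3b.Exit.BlkZ

/-!
# `MX` (957) → `Blk0` (255)
-/

set_option autoImplicit false

namespace Cfsg.Agent.Omega.NO3b.Exit.BlkZ

open Subgroup Cfsg.Agent.Omega.NO3b.Exit TDat TBlk
open Cfsg.Agent.Omega.FF.Basic
open scoped Pointwise

universe u v

/-- The plug for `Blk0`. -/
theorem blk0 {H : Type u} {U : Type v} [Group H] [Finite H] [AddCommGroup U] [DistribMulAction H U]
    {M X D B : Subgroup H} {V F : AddSubgroup U} {g : H} (h : MX M X D B V F g) {S : Subgroup H} (SM : S ≤ M)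
    (S2 : IsPGroup 2 S) (syl : ¬ 2 ∣ S.relIndex M)
    (_gen : ∀ W : AddSubgroup U, (∀ m ∈ M, ∀ w ∈ W, m • w ∈ W) → (∀ v ∈ V, (∀ s ∈ S, s • v = v) → v ∈ W) → V ≤ W) :
    Blk0 (sbc M (FFq M F)) (FFq M F) (ncl (KV M V h.MV) B) V F (g • V) (fx U B) g⁻¹ M (KV M V h.MV) S where
  dat := h.dat
  KM := fun _ hk => hk.1
  nK := fun _ hm _ hk => h.KV_norm hm hk
  mV := h.MV
  kV := fun _ hk => hk.2
  kB := fun _ hk _ hb => ncl_conj hk hb
  sn := sn_sbc_of_le MX.FFq_le_M h.sbc_le_KV fun _ hk => hk.1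
  SM := SM
  S2 := S2
  syl := syl

end Cfsg.Agent.Omega.NO3b.Exit.BlkZ
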