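import Cfsg.Agent.Omega.NO3b.Exit.TightDat
import Cfsg.Agent.Omega.NO3S.Tens.Geo

/-!
# `O₂(M / C_M(V)) = 1` for `V = ⟨Z^M⟩`, `Z ≤ C_V(S)` (LOC, piece L2')

* `red_of` : `S` a Sylow 2-subgroup of `M`, `Z ≤ V` centralised by `S`, `V` the smallest `M`-invariant subgroup over
  `Z`: then `Red M V`.

Proof: a normal subgroup `N` of `M` which acts on `V` as a 2-group is `(S ∩ N) C_N(V)`, so `Z ≤ C_V(N)`, which is
`M`-invariant.
-/

set_option autoImplicit false

namespace Cfsg.Agent.Omega.NO3b.Exit.TDat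

open Subgroup
open Cfsg.Agent.ZN.ChoiceSit (Syl syl_not_dvd)

universe u v

variable {H : Type u} {U : Type v} [Group H] [AddCommGroup U] [DistribMulAction H U]

/-- `O₂(M / C_M(V)) = 1` -/
theorem red_of [Finite H] {M S : Subgroup H} {V Z : AddSubgroup U} (hS : Syl S M)
    (hMV : ∀ m ∈ M, ∀ v ∈ V, m • v ∈ V) (hZV : Z ≤ V) (hZ : ∀ s ∈ S, ∀ z ∈ Z, s • z = z)
    (hV : ∀ W : AddSubgroup U, (∀ m ∈ M, ∀ w ∈ W, m • w ∈ W) → Z ≤ W → V ≤ W) : Red M V := by
  intro N hNM hN h2 n hn v hv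
  have : Fact (Nat.Prime 2) := ⟨Nat.prime_two⟩
  -- `C_N(V)`
  let C : Subgroup H :=
    { carrier := {x | x ∈ N ∧ ∀ v ∈ V, x • v = v}
      one_mem' := ⟨one_mem _, fun v _ => one_smul _ v⟩
      mul_mem' := fun {a b} ha hb => ⟨mul_mem ha.1 hb.1, fun v hv => by rw [mul_smul, hb.2 v hv, ha.2 v hv]⟩
      inv_mem' := fun {a} ha => ⟨inv_mem ha.1, fun v hv => by rw [inv_smul_eq_iff, ha.2 v hv]⟩ }
  have hCN : C ≤ N := fun x hx => hx.1
  have hCn : (C.subgroupOf N).Normal := by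
    constructor
    intro c hc g
    refine ⟨N.mul_mem (N.mul_mem g.2 c.2) (N.inv_mem g.2), fun v hv => ?_⟩
    have h1 : ((g : H))⁻¹ • v ∈ V := hMV _ (inv_mem (hNM g.2)) v hv
    change ((g : H) * (c : H) * (g : H)⁻¹) • v = v
    have h2 : (c : H) • (g : H)⁻¹ • v = (g : H)⁻¹ • v := hc.2 _ h1
    rw [mul_smul, mul_smul, h2, smul_inv_smul]
  have hq : IsPGroup 2 (N ⧸ C.subgroupOf N) := by
    intro q
    induction q using QuotientGroup.induction_on with | _ x =>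
    obtain ⟨j, hj⟩ := h2 x x.2
    refine ⟨j, ?_⟩
    rw [← QuotientGroup.mk_pow, QuotientGroup.eq_one_iff, mem_subgroupOf]
    exact ⟨N.pow_mem x.2 _, hj⟩
  obtain ⟨k, hk⟩ := IsPGroup.iff_card.1 hq
  have hCi : C.relIndex N = 2 ^ k := hk
  -- `C_V(N)`
  let W : AddSubgroup U :=
    { carrier := {u | ∀ n ∈ N, n • u = u}
      zero_mem' := fun n _ => smul_zero n
      add_mem' := fun {a b} ha hb n hn => by rw [smul_add, ha n hn, hb n hn]
      neg_mem' := fun {a} ha n hn => by rw [smul_neg, ha n hn] }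
  have hW : ∀ m ∈ M, ∀ w ∈ W, m • w ∈ W := by
    intro m hm w hw n hn
    have h1 := hw _ (by
      have := hN m⁻¹ (inv_mem hm) n hn
      exact this)
    have e : n • m • w = m • ((m⁻¹ * n * m⁻¹⁻¹) • w) := by
      rw [smul_smul, smul_smul]; congr 1; group
    rw [e, h1]
  have hZW : Z ≤ W := by
    intro z hz n hn
    let St : Subgroup H :=
      { carrier := {x | x ∈ N ∧ x • z = z}
        one_mem' := ⟨one_mem _, one_smul _ z⟩
        mul_mem' := fun {a b} ha hb => ⟨mul_mem ha.1 hb.1, by rw [mul_smul, hb.2, ha.2]⟩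
        inv_mem' := fun {a} ha => ⟨inv_mem ha.1, by rw [inv_smul_eq_iff, ha.2]⟩ }
    have h1 : S ⊓ N ≤ St := fun x hx => ⟨hx.2, hZ x hx.1 z hz⟩
    have h3 : C ≤ St := fun x hx => ⟨hx.1, hx.2 z (hZV hz)⟩
    have hsy : Syl (S ⊓ N) N := by
      refine Cfsg.Agent.Omega.NO3S.Tens.syl_inf hS hNM ?_
      intro m hm
      rw [mem_normalizer_iff]
      intro y
      refine ⟨fun hy => hN m hm y hy, fun hy => ?_⟩
      have h4 := hN m⁻¹ (inv_mem hm) _ hy
      have e : m⁻¹ * (m * y * m⁻¹) * m⁻¹⁻¹ = y := by group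
      rwa [e] at h4
    have h4 : ¬ 2 ∣ (S ⊓ N).relIndex N := syl_not_dvd hsy
    have h5 : St.relIndex N ∣ (S ⊓ N).relIndex N := relIndex_dvd_of_le_left N h1
    have h6 : St.relIndex N ∣ 2 ^ k := by rw [← hCi]; exact relIndex_dvd_of_le_left N h3
    obtain ⟨i, hi, h7⟩ := (Nat.dvd_prime_pow Nat.prime_two).1 h6
    have h8 : i = 0 := by
      by_contra h0
      apply h4
      refine dvd_trans ?_ h5
      rw [h7]
      exact dvd_pow_self 2 h0
    rw [h8, pow_zero] at h7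
    exact (relIndex_eq_one.1 h7 hn).2
  exact hV W hW hZW hv n hn

end Cfsg.Agent.Omega.NO3b.Exit.TDat
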