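import Cfsg.Agent.Omega.NO3b.Exit.TenFF
import Cfsg.Agent.Omega.NO3b.K0.Quot
import Cfsg.Agent.MinSimple.MinParabolic

/-!
# `TenFF.trans` for an action which is not faithful (#19331 (10), helper776)

`X` is a minimal parabolic over `P` (`IsMin P M`) and acts on the elementary abelian 2-group `N`.

* `trans_of` : `A` is transitive on the `ν^x ≠ ν`;
* `trans_quot` : the same for the module `W / D`.
-/

set_option autoImplicit false

namespace Cfsg.Agent.Omega.NO3b.Exit.TenFF

open Subgroup Cfsg.Agent.Omega.FFBr Cfsg.Agent.MinSimple.MinParabolic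

universe u

/-- **(10)** for an action which is not faithful -/
theorem trans_of (hFF : AStmt.{u}) {X N : Type u} [Group X] [Finite X] [Group N] [Finite N]
    [MulDistribMulAction X N] (hcom : ∀ v w : N, v * w = w * v) (hsq : ∀ v : N, v * v = 1) {P : Sylow 2 X}
    {M A : Subgroup X} {ν : Subgroup N} (hm : IsMin (P : Subgroup X) M) (AT : A ≤ (P : Subgroup X))
    (fix : ∀ t ∈ P, ∀ v ∈ ν, t • v = v) (gen : ∀ W : Subgroup N, (∀ v ∈ ν, ∀ x : X, x • v ∈ W) → W = ⊤)
    (le : ∀ a ∈ A, ∀ v : N, a • v * v⁻¹ ∈ ν)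
    (onto : ∀ a ∈ A, (∀ v : N, a • v = v) ∨ ∀ w ∈ ν, ∃ v : N, a • v * v⁻¹ = w)
    (ne : ∃ a ∈ A, ∃ v : N, a • v ≠ v) (acomm : ∀ a ∈ A, ∀ b ∈ A, ∀ v : N, (a * b) • v = (b * a) • v)
    (asq : ∀ a ∈ A, ∀ v : N, (a * a) • v = v)
    (off : (ClassTwoFusion.Quad.cv N (A : Set X)).index ≤
      Nat.card (A.map (MulDistribMulAction.toMulAut X N).rangeRestrict)) {x x' : X}
    (hx : ∃ v ∈ ν, x • v ∉ ν) (hx' : ∃ v ∈ ν, x' • v ∉ ν) : ∃ a ∈ A, ∀ v ∈ ν, (x'⁻¹ * a * x) • v ∈ ν := by
  have hfact : Fact (Nat.Prime 2) := ⟨Nat.prime_two⟩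
  set ρ : X →* MulAut N := MulDistribMulAction.toMulAut X N with hρ
  set π : X →* ρ.range := ρ.rangeRestrict with hπ
  have hπs : Function.Surjective π := ρ.rangeRestrict_surjective
  have hsm : ∀ (x : X) (v : N), π x • v = x • v := fun _ _ => rfl
  have hfaith : ∀ y : ρ.range, (∀ v : N, y • v = v) → y = 1 := by
    intro y hy
    apply Subtype.ext
    apply MulEquiv.ext
    exact hy
  have hker : ∀ x : X, x ∈ π.ker ↔ ∀ v : N, x • v = v := by
    intro x
    rw [MonoidHom.mem_ker]
    constructor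
    · intro h1 v
      rw [← hsm, h1, one_smul]
    · intro h1
      exact hfaith _ fun v => by rw [hsm, h1]
  -- not all elements centralise `ν`
  have hmove : ∃ v ∈ ν, ∃ x : X, x • v ≠ v := by
    by_contra hcon
    push Not at hcon
    have h1 : ν = ⊤ := gen ν fun v hv x => by rw [hcon v hv x]; exact hv
    obtain ⟨a, -, v, hv⟩ := ne
    exact hv (hcon v (by rw [h1]; trivial) a)
  obtain ⟨v0, hv0, x0, hx0⟩ := hmove
  have hKP : π.ker ⊔ (P : Subgroup X) ≠ ⊤ := by
    intro h1
    have h2 : π.ker ⊔ (P : Subgroup X) ≤ MulAction.stabilizer X v0 :=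
      sup_le (fun x hx => (hker x).1 hx v0) fun t ht => fix t ht v0 hv0
    rw [h1, top_le_iff] at h2
    have h3 : x0 ∈ MulAction.stabilizer X v0 := by rw [h2]; trivial
    exact hx0 h3
  have hCM : π.ker ≤ M := le_sup_left.trans (hm.le_of _ le_sup_right hKP)
  have hPM : (P : Subgroup X) ≤ M := le_sup_right.trans (hm.le_of _ le_sup_right hKP)
  have hMc : (M.map π).comap π = M := by
    rw [comap_map_eq, sup_eq_left]
    exact hCM
  have hAbs : Abs ρ.range N (P.mapSurjective hπs) (M.map π) := by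
    refine
      { comm := hcom
        sq := hsq
        faith := hfaith
        core := ?_
        TM := by rw [Sylow.coe_mapSurjective]; exact map_mono hPM
        Mne := ?_
        max := ?_
        gen := ?_
        nfix := ?_ }
    · intro K hK hK2
      have h8 : K ≤ (P.mapSurjective hπs : Sylow 2 ρ.range) := by
        have h9 : IsPGroup 2 ((P.mapSurjective hπs : Subgroup ρ.range) ⊔ K : Subgroup ρ.range) :=
          (P.mapSurjective hπs).isPGroup'.to_sup_of_normal_right hK2
        exact le_sup_right.trans_eq ((P.mapSurjective hπs).is_maximal' h9 le_sup_left)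
      have h1 : ∀ n ∈ K, ∀ v ∈ ν, n • v = v := by
        intro n hn v hv
        have h9 := h8 hn
        rw [Sylow.coe_mapSurjective] at h9
        obtain ⟨p, hp, rfl⟩ := h9
        rw [hsm]
        exact fix p hp v hv
      have h2 : ClassTwoFusion.Quad.cv N (K : Set ρ.range) = ⊤ := by
        refine gen _ fun v hv x => ?_
        intro n hn
        have h3 := h1 _ (hK.conj_mem n hn (π x)⁻¹) v hv
        rw [inv_inv, mul_smul, mul_smul, inv_smul_eq_iff, hsm] at h3
        exact h3
      rw [eq_bot_iff]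
      intro n hn
      rw [mem_bot]
      refine hfaith n fun v => ?_
      have h3 : v ∈ ClassTwoFusion.Quad.cv N (K : Set ρ.range) := by rw [h2]; trivial
      exact h3 n hn
    · intro h5
      apply hm.ne_top
      rw [← hMc, h5, comap_top]
    · intro K hK
      rw [Sylow.coe_mapSurjective, map_le_iff_le_comap] at hK
      by_cases hK1 : K.comap π = ⊤
      · right
        rw [← map_comap_eq_self_of_surjective hπs K, hK1, map_top_of_surjective _ hπs]
      · left
        have h5 := hm.le_of _ hK hK1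
        rw [← map_comap_eq_self_of_surjective hπs K]
        exact map_mono h5
    · intro W hW
      refine gen W fun v hv x => ?_
      rw [← hsm]
      refine hW v ?_ _
      intro t ht
      obtain ⟨t, ht, rfl⟩ := ht
      rw [hsm]
      exact fix t ht v hv
    · refine ⟨v0, ?_, π x0, by rw [hsm]; exact hx0⟩
      intro t ht
      obtain ⟨t, ht, rfl⟩ := ht
      rw [hsm]
      exact fix t ht v0 hv0
  have hRt : Rt ((P.mapSurjective hπs : Sylow 2 ρ.range) : Subgroup ρ.range) (A.map π) ν := by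
    refine ⟨by rw [Sylow.coe_mapSurjective]; exact map_mono AT, ?_, ?_, ?_, ?_, ?_⟩
    · intro t ht v hv
      rw [Sylow.coe_mapSurjective] at ht
      obtain ⟨t, ht, rfl⟩ := ht
      rw [hsm]
      exact fix t ht v hv
    · intro W hW
      exact gen W fun v hv x => by rw [← hsm]; exact hW v hv _
    · rintro _ ⟨a, ha, rfl⟩ v
      rw [hsm]
      exact le a ha v
    · rintro _ ⟨a, ha, rfl⟩ h1 w hw
      rcases onto a ha with h2 | h2
      · exact absurd (hfaith _ fun v => by rw [hsm, h2]) h1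
      · obtain ⟨v, hv⟩ := h2 w hw
        exact ⟨v, by rw [hsm]; exact hv⟩
    · obtain ⟨a, ha, v, hv⟩ := ne
      refine ⟨π a, ⟨a, ha, rfl⟩, fun h1 => hv ?_⟩
      rw [← hsm, h1, one_smul]
  have hoff : AOff N (A.map π) := by
    refine ⟨?_, ?_, ?_, ?_⟩
    · rintro _ ⟨a, ha, rfl⟩ _ ⟨b, hb, rfl⟩
      rw [← map_mul, ← map_mul]
      apply Subtype.ext
      apply MulEquiv.ext
      exact acomm a ha b hb
    · rintro _ ⟨a, ha, rfl⟩
      rw [← map_mul]
      exact hfaith _ fun v => by rw [hsm, asq a ha]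
    · intro h1
      obtain ⟨a, ha, v, hv⟩ := ne
      have h2 : π a ∈ A.map π := ⟨a, ha, rfl⟩
      rw [h1, mem_bot] at h2
      apply hv
      rw [← hsm, h2, one_smul]
    · refine le_trans (le_of_eq ?_) off
      congr 1
      ext v
      constructor
      · intro h1 a ha
        have := h1 (π a) ⟨a, ha, rfl⟩
        rwa [hsm] at this
      · rintro h1 _ ⟨a, ha, rfl⟩
        rw [hsm]
        exact h1 a ha
  obtain ⟨_, ⟨a, ha, rfl⟩, h1⟩ := trans hFF hAbs hRt hoff (x := π x) (x' := π x')
    (by simpa only [hsm] using hx) (by simpa only [hsm] using hx')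
  refine ⟨a, ha, fun v hv => ?_⟩
  have h2 := h1 v hv
  rwa [← map_inv, ← map_mul, ← map_mul, hsm] at h2

end Cfsg.Agent.Omega.NO3b.Exit.TenFF
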