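import Mathlib

/-!
# The second half of LOC (#18653, helper776), part 1: the situation; (0), (1)

Abstract form.  A finite group `H` acts faithfully on an additive group `U` of exponent 2, `br y u = y • u - u`.

* `Dat Y Q BB V F L C h` : `F ≤ V ≤ C`, `U = L + C`, `L ∩ C = F`; `BB` is trivial on `C` and on `U / C`; `y ∈ BB`
  satisfies `[U, y] ≤ F` or moves `L` (`[l, y] ∈ L` only for `l ∈ F`); `Y` normalises `BB` and is trivial on
  `U / V`; `Q ≤ Y` is trivial on `U / F` and on `F`; `h` maps `L` onto `V`, is trivial on `F`, and conjugates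
  `A₀ = {y ∈ BB | [U, y] ≤ F}` into `Q`; `A₀ ≠ 1`; `Q ≤ N` normal in `Y` implies `N = Y`; a normal subgroup of `Y`
  which acts on `V` as a 2-group centralises `V`;
* `Dat.br_conj` : `[u, k y k⁻¹] = k [u, y]`; `Dat.br_comm` : `[u, [k, y]] = [[u, y], k]` for `k ∈ Y`, `y ∈ BB`;
* `Dat.span` : `V = [L, y] + F`; `Dat.surj` : `[y, Q] = A₀` for `y ∈ BB - A₀`, `[U, y] ≤ V`.
-/

set_option autoImplicit false

namespace Cfsg.Agent.Omega.NO3b.Exit.Ten

open Subgroup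

universe u v

/-! ### Brackets -/

section br

variable {H : Type u} {U : Type v} [Group H] [AddCommGroup U] [DistribMulAction H U]

/-- `[u, y] = y • u - u` -/
def br (y : H) (u : U) : U := y • u - u

theorem br_def (y : H) (u : U) : br y u = y • u - u := rfl

theorem smul_eq (y : H) (u : U) : y • u = br y u + u := by rw [br_def]; abel

theorem br_one (u : U) : br (1 : H) u = 0 := by rw [br_def, one_smul, sub_self]

theorem br_zero (y : H) : br y (0 : U) = 0 := by rw [br_def, smul_zero, sub_self]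

theorem br_add (y : H) (u v : U) : br y (u + v) = br y u + br y v := by
  simp only [br_def, smul_add]; abel

theorem br_neg (y : H) (u : U) : br y (-u) = - br y u := by
  simp only [br_def, smul_neg]; abel

theorem br_sub (y : H) (u v : U) : br y (u - v) = br y u - br y v := by
  simp only [br_def, smul_sub]; abel

theorem br_mul (x y : H) (u : U) : br (x * y) u = br x (br y u) + br y u + br x u := by
  simp only [br_def, mul_smul, smul_sub]; abel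

theorem br_eq_zero {y : H} {u : U} : br y u = 0 ↔ y • u = u := by rw [br_def, sub_eq_zero]

theorem br_conj_smul (k y : H) (u : U) : br (k * y * k⁻¹) (k • u) = k • br y u := by
  simp only [br_def, smul_smul, smul_sub, inv_mul_cancel_right]

end br

/-! ### The situation -/

section dat

variable {H : Type u} {U : Type v} [Group H] [AddCommGroup U] [DistribMulAction H U]

/-- The situation of #18653. -/
structure Dat (Y Q BB : Subgroup H) (V F L C : AddSubgroup U) (h : H) : Prop where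
  faith : ∀ y : H, (∀ u : U, y • u = u) → y = 1
  two : ∀ u : U, u + u = 0
  FV : F ≤ V
  VC : V ≤ C
  FL : F ≤ L
  LC : ∀ u : U, ∃ l ∈ L, ∃ c ∈ C, u = l + c
  LF : ∀ u ∈ L, u ∈ C → u ∈ F
  bC : ∀ y ∈ BB, ∀ c ∈ C, y • c = c
  bU : ∀ y ∈ BB, ∀ u : U, br y u ∈ C
  mov : ∀ y ∈ BB, (∀ u : U, br y u ∈ F) ∨ ∀ l ∈ L, br y l ∈ L → l ∈ F
  yB : ∀ k ∈ Y, ∀ b ∈ BB, k * b * k⁻¹ ∈ BB
  yV : ∀ k ∈ Y, ∀ u : U, br k u ∈ V
  QY : Q ≤ Y
  qF : ∀ d ∈ Q, ∀ f ∈ F, d • f = f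
  qU : ∀ d ∈ Q, ∀ u : U, br d u ∈ F
  hL : ∀ l ∈ L, h • l ∈ V
  hV : ∀ v ∈ V, h⁻¹ • v ∈ L
  hF : ∀ f ∈ F, h • f = f
  hA : ∀ y ∈ BB, (∀ u : U, br y u ∈ F) → h * y * h⁻¹ ∈ Q
  ne : ∃ y ∈ BB, y ≠ 1 ∧ ∀ u : U, br y u ∈ F
  gen : ∀ N : Subgroup H, N ≤ Y → (∀ k ∈ Y, ∀ n ∈ N, k * n * k⁻¹ ∈ N) → Q ≤ N → Y ≤ N
  red : ∀ N : Subgroup H, N ≤ Y → (∀ k ∈ Y, ∀ n ∈ N, k * n * k⁻¹ ∈ N) →
    (∀ n ∈ N, ∃ j : ℕ, ∀ v ∈ V, n ^ 2 ^ j • v = v) → ∀ n ∈ N, ∀ v ∈ V, n • v = v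

namespace Dat

variable {Y Q BB : Subgroup H} {V F L C : AddSubgroup U} {h : H} (D : Dat Y Q BB V F L C h)
include D

theorem ext {x y : H} (hxy : ∀ u : U, br x u = br y u) : x = y := by
  have h1 : y⁻¹ * x = 1 := D.faith _ fun u => by
    rw [mul_smul, smul_eq x u, hxy u, ← smul_eq y u, inv_smul_smul]
  exact (inv_mul_eq_one.1 h1).symm

theorem neg_eq (u : U) : -u = u := neg_eq_of_add_eq_zero_left (D.two u)

theorem sub_eq_add (u v : U) : u - v = u + v := by rw [sub_eq_add_neg, D.neg_eq]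

theorem br_C {y : H} (hy : y ∈ BB) {c : U} (hc : c ∈ C) : br y c = 0 := br_eq_zero.2 (D.bC y hy c hc)

theorem br_V {y : H} (hy : y ∈ BB) {c : U} (hc : c ∈ V) : br y c = 0 := D.br_C hy (D.VC hc)

theorem br_mul_B {x y : H} (hx : x ∈ BB) (hy : y ∈ BB) (u : U) : br (x * y) u = br x u + br y u := by
  rw [br_mul, D.br_C hx (D.bU y hy u), zero_add, add_comm]

theorem sq_B {y : H} (hy : y ∈ BB) : y * y = 1 :=
  D.ext fun u => by rw [D.br_mul_B hy hy, D.two, br_one]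

theorem comm_B {x y : H} (hx : x ∈ BB) (hy : y ∈ BB) : x * y = y * x :=
  D.ext fun u => by rw [D.br_mul_B hx hy, D.br_mul_B hy hx, add_comm]

theorem inv_B {y : H} (hy : y ∈ BB) : y⁻¹ = y := inv_eq_of_mul_eq_one_left (D.sq_B hy)

theorem smul_V {k : H} (hk : k ∈ Y) {v : U} (hv : v ∈ V) : k • v ∈ V := by
  rw [smul_eq]; exact V.add_mem (D.yV k hk v) hv

theorem smul_C {k : H} (hk : k ∈ Y) {v : U} (hv : v ∈ C) : k • v ∈ C := by
  rw [smul_eq]; exact C.add_mem (D.VC (D.yV k hk v)) hv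

/-- `[u, k y k⁻¹] = k [u, y]`, if `k` is trivial on `U / C` -/
theorem br_conj' {k y : H} (hk : ∀ u : U, br k⁻¹ u ∈ C) (hy : y ∈ BB) (u : U) :
    br (k * y * k⁻¹) u = k • br y u := by
  have e : u = k • (k⁻¹ • u) := (smul_inv_smul k u).symm
  conv_lhs => rw [e]
  rw [br_conj_smul, smul_eq k⁻¹ u, br_add, D.br_C hy (hk u), zero_add]

/-- `[u, k y k⁻¹] = k [u, y]` -/
theorem br_conj {k y : H} (hk : k ∈ Y) (hy : y ∈ BB) (u : U) : br (k * y * k⁻¹) u = k • br y u :=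
  D.br_conj' (fun u => D.VC (D.yV _ (inv_mem hk) u)) hy u

/-- `[u, [k, y]] = [[u, y], k]` -/
theorem br_comm {k y : H} (hk : k ∈ Y) (hy : y ∈ BB) (u : U) :
    br (k * y * k⁻¹ * y⁻¹) u = br k (br y u) := by
  rw [D.inv_B hy, D.br_mul_B (D.yB k hk y hy) hy, D.br_conj hk hy, br_def k, D.sub_eq_add]

theorem comm_mem {k y : H} (hk : k ∈ Y) (hy : y ∈ BB) : k * y * k⁻¹ * y⁻¹ ∈ BB :=
  mul_mem (D.yB k hk y hy) (inv_mem hy)

/-- an element of `BB` is determined by its action on `L` -/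
theorem eq_one {y : H} (hy : y ∈ BB) (hl : ∀ l ∈ L, br y l = 0) : y = 1 :=
  D.ext fun u => by
    obtain ⟨l, hlL, c, hc, rfl⟩ := D.LC u
    rw [br_add, hl l hlL, D.br_C hy hc, add_zero, br_one]

/-- `A₀` -/
def AZ : Subgroup H where
  carrier := {y | y ∈ BB ∧ ∀ u : U, br y u ∈ F}
  one_mem' := ⟨one_mem _, fun u => by rw [br_one]; exact zero_mem _⟩
  mul_mem' := by
    rintro x y ⟨hx, hx'⟩ ⟨hy, hy'⟩
    exact ⟨mul_mem hx hy, fun u => by rw [D.br_mul_B hx hy]; exact F.add_mem (hx' u) (hy' u)⟩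
  inv_mem' := by
    rintro x ⟨hx, hx'⟩
    rw [D.inv_B hx]
    exact ⟨hx, hx'⟩

theorem mem_AZ {y : H} : y ∈ D.AZ ↔ y ∈ BB ∧ ∀ u : U, br y u ∈ F := Iff.rfl

theorem AZ_le : D.AZ ≤ BB := fun _ hy => hy.1

theorem inj {y : H} (hy : y ∈ BB) (hy' : y ∉ D.AZ) {l : U} (hl : l ∈ L) (hb : br y l ∈ L) : l ∈ F := by
  rcases D.mov y hy with h1 | h1
  · exact absurd ⟨hy, h1⟩ hy'
  · exact h1 l hl hb

theorem inj0 {y : H} (hy : y ∈ BB) (hy' : y ∉ D.AZ) {l : U} (hl : l ∈ L) (hb : br y l = 0) : l ∈ F :=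
  D.inj hy hy' hl (by rw [hb]; exact zero_mem _)

/-- `Q` centralises `A₀` -/
theorem br_Q_AZ {d y : H} (hd : d ∈ Q) (hy : y ∈ D.AZ) : d * y * d⁻¹ = y := by
  have h1 : d * y * d⁻¹ * y⁻¹ = 1 := D.ext fun u => by
    rw [D.br_comm (D.QY hd) hy.1, br_eq_zero.2 (D.qF d hd _ (hy.2 u)), br_one]
  exact mul_inv_eq_one.1 h1

/-- `[BB, Q] ≤ A₀` -/
theorem comm_Q {d y : H} (hd : d ∈ Q) (hy : y ∈ BB) : d * y * d⁻¹ * y⁻¹ ∈ D.AZ :=
  ⟨D.comm_mem (D.QY hd) hy, fun u => by rw [D.br_comm (D.QY hd) hy]; exact D.qU d hd _⟩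

/-- `Q` is elementary abelian. -/
theorem Q_comm {d d' : H} (hd : d ∈ Q) (hd' : d' ∈ Q) : d * d' = d' * d :=
  D.ext fun u => by
    rw [br_mul, br_mul, br_eq_zero.2 (D.qF d hd _ (D.qU d' hd' u)),
      br_eq_zero.2 (D.qF d' hd' _ (D.qU d hd u)), zero_add, zero_add, add_comm]

theorem Q_sq {d : H} (hd : d ∈ Q) : d * d = 1 :=
  D.ext fun u => by
    rw [br_mul, br_eq_zero.2 (D.qF d hd _ (D.qU d hd u)), zero_add, D.two, br_one]

/-- `[u, h s h⁻¹] = [h⁻¹ u, s]` for `s ∈ A₀` -/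
theorem br_h {s : H} (hs : s ∈ D.AZ) (u : U) : br (h * s * h⁻¹) u = br s (h⁻¹ • u) := by
  have e : u = h • (h⁻¹ • u) := (smul_inv_smul h u).symm
  conv_lhs => rw [e]
  rw [br_conj_smul, D.hF _ (hs.2 _)]

/-- `h s h⁻¹` is faithful on `V` -/
theorem h_faith {s : H} (hs : s ∈ D.AZ) (h1 : ∀ v ∈ V, br (h * s * h⁻¹) v = 0) : s = 1 := by
  refine D.eq_one hs.1 fun l hl => ?_
  have h2 := h1 (h • l) (D.hL l hl)
  rwa [D.br_h hs, inv_smul_smul] at h2

variable [Finite U]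

/-- `V = [L, y] + F` -/
theorem span {y : H} (hy : y ∈ BB) (hy' : y ∉ D.AZ) (hV : ∀ u : U, br y u ∈ V) {v : U} (hv : v ∈ V) :
    ∃ l ∈ L, ∃ f ∈ F, v = br y l + f := by
  classical
  -- the map `L → V / F`
  let θ : L →+ V ⧸ F.addSubgroupOf V :=
    { toFun := fun l => QuotientAddGroup.mk (⟨br y (l : U), hV l⟩ : V)
      map_zero' := by
        have e : (⟨br y ((0 : L) : U), hV _⟩ : V) = 0 := Subtype.ext (br_zero y)
        rw [e]; rfl
      map_add' := fun a b => by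
        have e : (⟨br y ((a + b : L) : U), hV _⟩ : V) = ⟨br y (a : U), hV a⟩ + ⟨br y (b : U), hV b⟩ :=
          Subtype.ext (br_add y (a : U) b)
        rw [e]; rfl }
  have hker : θ.ker = F.addSubgroupOf L := by
    ext l
    rw [AddMonoidHom.mem_ker]
    change (QuotientAddGroup.mk (⟨br y (l : U), hV l⟩ : V) : V ⧸ F.addSubgroupOf V) = 0 ↔ _
    rw [QuotientAddGroup.eq_zero_iff, AddSubgroup.mem_addSubgroupOf, AddSubgroup.mem_addSubgroupOf]
    constructor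
    · intro h1
      exact D.inj hy hy' l.2 (D.FL h1)
    · intro h1
      change br y (l : U) ∈ F
      rw [D.br_C hy (D.VC (D.FV h1))]
      exact zero_mem _
  have hLV : Nat.card L = Nat.card V := by
    refine Nat.card_congr ⟨fun l => ⟨h • (l : U), D.hL l l.2⟩, fun v => ⟨h⁻¹ • (v : U), D.hV v v.2⟩,
      fun l => Subtype.ext (inv_smul_smul h _), fun v => Subtype.ext (smul_inv_smul h _)⟩
  have c1 : Nat.card θ.ker * Nat.card θ.range = Nat.card L := by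
    rw [← AddSubgroup.index_ker]
    exact θ.ker.card_mul_index
  have c2 : Nat.card (F.addSubgroupOf V) * Nat.card (V ⧸ F.addSubgroupOf V) = Nat.card V :=
    (F.addSubgroupOf V).card_mul_index
  have c3 : Nat.card θ.ker = Nat.card F := by
    rw [hker]
    exact Nat.card_congr (AddSubgroup.addSubgroupOfEquivOfLe D.FL).toEquiv
  have c4 : Nat.card (F.addSubgroupOf V) = Nat.card F :=
    Nat.card_congr (AddSubgroup.addSubgroupOfEquivOfLe D.FV).toEquiv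
  have hF0 : 0 < Nat.card F := Nat.card_pos
  have c5 : Nat.card θ.range = Nat.card (V ⧸ F.addSubgroupOf V) := by
    refine Nat.eq_of_mul_eq_mul_left hF0 ?_
    rw [← c3, c1, hLV, ← c2, c3, c4]
  have c6 : θ.range = ⊤ := AddSubgroup.eq_top_of_card_eq _ c5
  have h1 : (QuotientAddGroup.mk (⟨v, hv⟩ : V) : V ⧸ F.addSubgroupOf V) ∈ θ.range := by
    rw [c6]; trivial
  obtain ⟨l, hl⟩ := h1
  have h2 := QuotientAddGroup.eq.1 hl
  rw [AddSubgroup.mem_addSubgroupOf] at h2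
  refine ⟨l, l.2, _, h2, ?_⟩
  change v = br y (l : U) + (-br y (l : U) + v)
  abel

/-- **(1)** `[y, Q] = A₀` -/
theorem surj [Finite H] {y : H} (hy : y ∈ BB) (hy' : y ∉ D.AZ) (hV : ∀ u : U, br y u ∈ V) {s : H}
    (hs : s ∈ D.AZ) : ∃ d ∈ Q, d * y * d⁻¹ * y⁻¹ = s := by
  classical
  have hQ : ∀ s ∈ D.AZ, h * s * h⁻¹ ∈ Q := fun s hs => D.hA s hs.1 hs.2
  let φ : D.AZ → D.AZ := fun s =>
    ⟨h * (s : H) * h⁻¹ * y * (h * (s : H) * h⁻¹)⁻¹ * y⁻¹, D.comm_Q (hQ s s.2) hy⟩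
  have hφ : Function.Injective φ := by
    intro s t hst
    have h1 : h * (s : H) * h⁻¹ * y * (h * (s : H) * h⁻¹)⁻¹ * y⁻¹ =
        h * (t : H) * h⁻¹ * y * (h * (t : H) * h⁻¹)⁻¹ * y⁻¹ := congrArg Subtype.val hst
    -- `s t⁻¹` is trivial on `V`
    have h2 : ∀ u : U, br (h * (s : H) * h⁻¹) (br y u) = br (h * (t : H) * h⁻¹) (br y u) := by
      intro u
      rw [← D.br_comm (D.QY (hQ s s.2)) hy, h1, D.br_comm (D.QY (hQ t t.2)) hy]
    have h3 : ∀ v ∈ V, br (h * (s : H) * h⁻¹) v = br (h * (t : H) * h⁻¹) v := by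
      intro v hv
      obtain ⟨l, hl, f, hf, rfl⟩ := D.span hy hy' hV hv
      rw [br_add, br_add, h2, br_eq_zero.2 (D.qF _ (hQ s s.2) f hf), br_eq_zero.2 (D.qF _ (hQ t t.2) f hf)]
    have h4 : (s : H) * (t : H) = 1 := by
      refine D.h_faith (mul_mem s.2 t.2) fun v hv => ?_
      have e : h * ((s : H) * (t : H)) * h⁻¹ = h * (s : H) * h⁻¹ * (h * (t : H) * h⁻¹) := by group
      rw [e, br_mul, br_eq_zero.2 (D.qF _ (hQ s s.2) _ (D.qU _ (hQ t t.2) v)), zero_add, h3 v hv, D.two]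
    have h5 := D.sq_B (D.AZ_le t.2)
    exact Subtype.ext (mul_right_cancel (h4.trans h5.symm))
  obtain ⟨t, ht⟩ := (Finite.injective_iff_surjective.1 hφ) ⟨s, hs⟩
  exact ⟨_, hQ t t.2, congrArg Subtype.val ht⟩

end Dat

end dat

end Cfsg.Agent.Omega.NO3b.Exit.Ten
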