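import Cfsg.Agent.Omega.NO3b.Exit.TenBase

/-!
# The second half of LOC (#18653, helper776), part 2: (2), (3), (4) first part

`D : Dat Y Q BB V F L C h`.

* `Y0 Y` : the subgroup generated by the elements of odd order of `Y`; `Dat.exists_mul` : `Y = Y0 Q`;
* `Dat.AA` : `[BB, O²(Y)]`; `AA_V` : `[U, AA] ≤ V`; `AA_le_of` : coprime action;
* `Dat.eq_one_of_fix` : **(2)** `s ∈ A₀` fixed by `Y0` is trivial;
* `Dat.exists_notMem` : **(3)** `AA ≰ A₀`; `AZ_le_AA`; `fix_eq_one` : `C_AA(Y0) = 1`;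
* `Dat.irr` : `AA` is an irreducible `Y`-module.
-/

set_option autoImplicit false

namespace Cfsg.Agent.Omega.NO3b.Exit.Ten

open Subgroup

universe u v

/-! ### Maximal subgroups over `O^p` -/

theorem normal_of_coatom {Y : Type u} [Group Y] [Finite Y] {O : Subgroup Y} [hO : O.Normal]
    (h2 : IsPGroup 2 (Y ⧸ O)) {K : Subgroup Y} (hK : IsCoatom K) (hOK : O ≤ K) : K.Normal := by
  have : Fact (Nat.Prime 2) := ⟨Nat.prime_two⟩
  have hnil : Group.IsNilpotent (Y ⧸ O) := h2.isNilpotent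
  have e1 : (K.map (QuotientGroup.mk' O)).comap (QuotientGroup.mk' O) = K := by
    rw [QuotientGroup.comap_map_mk', sup_eq_right.2 hOK]
  have hco : IsCoatom (K.map (QuotientGroup.mk' O)) := by
    constructor
    · intro h
      rw [h, comap_top] at e1
      exact hK.1 e1.symm
    · intro N hN
      have h3 : K < N.comap (QuotientGroup.mk' O) := by
        refine lt_of_le_of_ne (map_le_iff_le_comap.1 hN.le) fun h4 => ?_
        apply hN.ne
        rw [h4, map_comap_eq_self_of_surjective (QuotientGroup.mk'_surjective O)]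
      have h4 := hK.2 _ h3
      rw [← map_comap_eq_self_of_surjective (QuotientGroup.mk'_surjective O) N, h4,
        map_top_of_surjective _ (QuotientGroup.mk'_surjective O)]
  have hn : (K.map (QuotientGroup.mk' O)).Normal :=
    NormalizerCondition.normal_of_coatom _ (Group.normalizerCondition_of_isNilpotent) hco
  rw [← e1]
  exact hn.comap _

section y0

variable {H : Type u} [Group H]

/-- The subgroup generated by the elements of odd order of `Y`. -/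
def Y0 (Y : Subgroup H) : Subgroup H := closure {k | k ∈ Y ∧ Odd (orderOf k)}

theorem Y0_le (Y : Subgroup H) : Y0 Y ≤ Y := (closure_le _).2 fun _ hk => hk.1

theorem orderOf_conj' (k n : H) : orderOf (k * n * k⁻¹) = orderOf n :=
  orderOf_injective (MulAut.conj k).toMonoidHom (MulAut.conj k).injective n

theorem Y0_conj {Y : Subgroup H} {k n : H} (hk : k ∈ Y) (hn : n ∈ Y0 Y) : k * n * k⁻¹ ∈ Y0 Y := by
  induction hn using closure_induction with
  | mem x hx => exact subset_closure ⟨mul_mem (mul_mem hk hx.1) (inv_mem hk), by rw [orderOf_conj']; exact hx.2⟩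
  | one => rw [mul_one, mul_inv_cancel]; exact one_mem _
  | mul x y _ _ hx hy =>
    have e : k * (x * y) * k⁻¹ = k * x * k⁻¹ * (k * y * k⁻¹) := by group
    rw [e]; exact mul_mem hx hy
  | inv x _ hx =>
    have e : k * x⁻¹ * k⁻¹ = (k * x * k⁻¹)⁻¹ := by group
    rw [e]; exact inv_mem hx

/-- `Y = Y0 Q` if the normal closure of `Q` in `Y` is `Y`. -/
theorem exists_mul_of [Finite H] {Y Q : Subgroup H} (hQY : Q ≤ Y)
    (hgen : ∀ N : Subgroup H, N ≤ Y → (∀ k ∈ Y, ∀ n ∈ N, k * n * k⁻¹ ∈ N) → Q ≤ N → Y ≤ N) {k : H} (hk : k ∈ Y) :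
    ∃ k0 ∈ Y0 Y, ∃ d ∈ Q, k = k0 * d := by
  have hO : ((Y0 Y).subgroupOf Y).Normal := ⟨fun n hn g => by
    rw [mem_subgroupOf] at hn ⊢
    exact Y0_conj g.2 hn⟩
  have h2 : IsPGroup 2 (Y ⧸ (Y0 Y).subgroupOf Y) := by
    intro q
    induction q using QuotientGroup.induction_on with | _ x =>
    obtain ⟨a, m, hm, h⟩ := Nat.exists_eq_two_pow_mul_odd (n := orderOf (x : H)) (orderOf_pos _).ne'
    refine ⟨a, ?_⟩
    rw [← QuotientGroup.mk_pow, QuotientGroup.eq_one_iff, mem_subgroupOf]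
    refine subset_closure ⟨pow_mem x.2 _, ?_⟩
    have h1 : ((x : H) ^ 2 ^ a) ^ m = 1 := by
      rw [← pow_mul, ← h, pow_orderOf_eq_one]
    exact Odd.of_dvd_nat hm (orderOf_dvd_of_pow_eq_one h1)
  have htop : (Y0 Y).subgroupOf Y ⊔ Q.subgroupOf Y = ⊤ := by
    by_contra hne
    obtain ⟨K, hK, hle⟩ := (eq_top_or_exists_le_coatom ((Y0 Y).subgroupOf Y ⊔ Q.subgroupOf Y)).resolve_left hne
    have hKn := normal_of_coatom h2 hK (le_sup_left.trans hle)
    have h3 : Y ≤ K.map Y.subtype := by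
      refine hgen _ (map_subtype_le K) ?_ ?_
      · rintro g hg _ ⟨n, hn, rfl⟩
        exact ⟨⟨g, hg⟩ * n * ⟨g, hg⟩⁻¹, hKn.conj_mem n hn ⟨g, hg⟩, rfl⟩
      · intro d hd
        exact ⟨⟨d, hQY hd⟩, hle (le_sup_right (a := (Y0 Y).subgroupOf Y) hd), rfl⟩
    apply hK.1
    rw [eq_top_iff]
    intro x _
    obtain ⟨y, hy, hyx⟩ := h3 x.2
    rwa [← Subtype.ext hyx]
  have h3 : (⟨k, hk⟩ : Y) ∈ (Y0 Y).subgroupOf Y ⊔ Q.subgroupOf Y := by rw [htop]; trivial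
  rw [mem_sup_of_normal_left] at h3
  obtain ⟨a, ha, b, hb, hab⟩ := h3
  exact ⟨a, ha, b, hb, (congrArg Subtype.val hab).symm⟩

end y0

/-! ### Coprime commutators -/

section cop

variable {H : Type u} {U : Type v} [Group H] [AddCommGroup U] [DistribMulAction H U]

theorem br_sq (two : ∀ u : U, u + u = 0) (k : H) (u : U) : br (k ^ 2) u = br k (br k u) := by
  rw [pow_two, br_mul, add_assoc, two, add_zero]

theorem br_pow (two : ∀ u : U, u + u = 0) (k : H) (j : ℕ) (u : U) : br (k ^ 2 ^ j) u = (br k)^[2 ^ j] u := by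
  induction j generalizing u with
  | zero => simp
  | succ j ih =>
    rw [pow_succ 2 j, pow_mul, br_sq two, ih, ih, ← Function.iterate_add_apply, ← mul_two]

/-- an odd order element is a `2^j`-th power of itself -/
theorem exists_pow_eq {k : H} (hk : Odd (orderOf k)) : ∃ j : ℕ, k ^ 2 ^ (j + 1) = k := by
  have hc : Nat.Coprime 2 (orderOf k) := (Nat.coprime_two_left).2 hk
  have h0 : 0 < orderOf k := hk.pos
  have h1 := Nat.ModEq.pow_totient hc
  have h2 : 0 < (orderOf k).totient := Nat.totient_pos.2 h0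
  refine ⟨(orderOf k).totient - 1, ?_⟩
  rw [Nat.sub_add_cancel h2]
  have h3 : k ^ 2 ^ (orderOf k).totient = k ^ 1 := by
    rw [pow_eq_pow_iff_modEq]
    exact h1
  rw [h3, pow_one]

end cop

section dat

variable {H : Type u} {U : Type v} [Group H] [AddCommGroup U] [DistribMulAction H U]

/-- `[k, y]` -/
def cm (k y : H) : H := k * y * k⁻¹ * y⁻¹

/-- `[BB, O²(Y)]` -/
def AAs (Y BB : Subgroup H) : Subgroup H :=
  closure {x | ∃ k ∈ Y, Odd (orderOf k) ∧ ∃ y ∈ BB, x = cm k y}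

namespace Dat

variable {Y Q BB : Subgroup H} {V F L C : AddSubgroup U} {h : H}

/-- `AA = [BB, O²(Y)]` -/
def AA (_D : Dat Y Q BB V F L C h) : Subgroup H := AAs Y BB

variable (D : Dat Y Q BB V F L C h)
include D

theorem cm_mem {k y : H} (hk : k ∈ Y) (hy : y ∈ BB) : cm k y ∈ BB := D.comm_mem hk hy

theorem br_cm {k y : H} (hk : k ∈ Y) (hy : y ∈ BB) (u : U) : br (cm k y) u = br k (br y u) :=
  D.br_comm hk hy u

theorem cm_iter {k y : H} (hk : k ∈ Y) (hy : y ∈ BB) (n : ℕ) :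
    (cm k)^[n] y ∈ BB ∧ ∀ u : U, br ((cm k)^[n] y) u = (br k)^[n] (br y u) := by
  induction n with
  | zero => exact ⟨hy, fun u => rfl⟩
  | succ n ih =>
    rw [Function.iterate_succ_apply']
    refine ⟨D.cm_mem hk ih.1, fun u => ?_⟩
    rw [D.br_cm hk ih.1, ih.2, Function.iterate_succ_apply']

/-- `[k, y]` is a repeated commutator -/
theorem cm_eq {k y : H} (hk : k ∈ Y) (ho : Odd (orderOf k)) (hy : y ∈ BB) :
    ∃ y' ∈ BB, cm k y = cm k (cm k y') := by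
  obtain ⟨j, hj⟩ := exists_pow_eq ho
  have h1 : cm k y = (cm k)^[2 ^ (j + 1)] y := D.ext fun u => by
    rw [(D.cm_iter hk hy _).2, D.br_cm hk hy, ← br_pow D.two, hj]
  obtain ⟨n, hn⟩ : ∃ n, 2 ^ (j + 1) = n + 2 :=
    ⟨2 ^ (j + 1) - 2, by
      have : 2 ≤ 2 ^ (j + 1) := by rw [pow_succ]; have := Nat.one_le_two_pow (n := j); omega
      omega⟩
  refine ⟨(cm k)^[n] y, (D.cm_iter hk hy n).1, ?_⟩
  rw [h1, hn, Function.iterate_add_apply]
  have h2 : (cm k)^[2] y = cm k (cm k y) := rfl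
  rw [← Function.iterate_add_apply, add_comm, Function.iterate_add_apply]
  rfl

theorem AA_le : D.AA ≤ BB := by
  refine (closure_le _).2 ?_
  rintro _ ⟨k, hk, -, y, hy, rfl⟩
  exact D.cm_mem hk hy

theorem AA_conj {k x : H} (hk : k ∈ Y) (hx : x ∈ D.AA) : k * x * k⁻¹ ∈ D.AA := by
  induction hx using closure_induction with
  | mem x hx =>
    obtain ⟨g, hg, ho, y, hy, rfl⟩ := hx
    refine subset_closure ⟨k * g * k⁻¹, mul_mem (mul_mem hk hg) (inv_mem hk), by rw [orderOf_conj']; exact ho,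
      k * y * k⁻¹, D.yB k hk y hy, ?_⟩
    unfold cm; group
  | one => rw [mul_one, mul_inv_cancel]; exact one_mem _
  | mul x y _ _ hx hy =>
    have e : k * (x * y) * k⁻¹ = k * x * k⁻¹ * (k * y * k⁻¹) := by group
    rw [e]; exact mul_mem hx hy
  | inv x _ hx =>
    have e : k * x⁻¹ * k⁻¹ = (k * x * k⁻¹)⁻¹ := by group
    rw [e]; exact inv_mem hx

theorem AA_V {x : H} (hx : x ∈ D.AA) (u : U) : br x u ∈ V := by
  have key : x ∈ BB ∧ br x u ∈ V := by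
    induction hx using closure_induction with
    | mem x hx =>
      obtain ⟨g, hg, ho, y, hy, rfl⟩ := hx
      exact ⟨D.cm_mem hg hy, by rw [D.br_cm hg hy]; exact D.yV g hg _⟩
    | one => exact ⟨one_mem _, by rw [br_one]; exact zero_mem _⟩
    | mul x y _ _ hx hy => exact ⟨mul_mem hx.1 hy.1, by rw [D.br_mul_B hx.1 hy.1]; exact V.add_mem hx.2 hy.2⟩
    | inv x _ hx => rw [D.inv_B hx.1]; exact hx
  exact key.2

/-- `[Y0, BB] ≤ AA` -/
theorem cm_mem_AA {k y : H} (hk : k ∈ Y0 Y) (hy : y ∈ BB) : cm k y ∈ D.AA := by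
  induction hk using closure_induction generalizing y with
  | mem k hk => exact subset_closure ⟨k, hk.1, hk.2, y, hy, rfl⟩
  | one =>
    have e : cm 1 y = 1 := by unfold cm; group
    rw [e]; exact one_mem _
  | mul a b ha hb iha ihb =>
    have e : cm (a * b) y = a * cm b y * a⁻¹ * cm a y := by unfold cm; group
    rw [e]
    exact mul_mem (D.AA_conj (Y0_le Y ha) (ihb hy)) (iha hy)
  | inv a ha iha =>
    have e : cm a⁻¹ y = (a⁻¹ * cm a y * a⁻¹⁻¹)⁻¹ := by unfold cm; group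
    rw [e]
    exact inv_mem (D.AA_conj (inv_mem (Y0_le Y ha)) (iha hy))

/-- Coprime action: `[AA, Y0] ≤ N` implies `AA ≤ N`. -/
theorem AA_le_of {N : Subgroup H} (hN : ∀ k ∈ Y0 Y, ∀ y ∈ D.AA, cm k y ∈ N) : D.AA ≤ N := by
  refine (closure_le _).2 ?_
  rintro _ ⟨k, hk, ho, y, hy, rfl⟩
  obtain ⟨y', hy', e⟩ := D.cm_eq hk ho hy
  rw [e]
  have hk0 : k ∈ Y0 Y := subset_closure ⟨hk, ho⟩
  exact hN k hk0 _ (D.cm_mem_AA hk0 hy')

variable [Finite H]

theorem exists_mul {k : H} (hk : k ∈ Y) : ∃ k0 ∈ Y0 Y, ∃ d ∈ Q, k = k0 * d :=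
  exists_mul_of D.QY D.gen hk

omit [Finite H] in
/-- A normal subgroup of `Y` which is trivial on `X` and on `V / X` centralises `V`. -/
theorem red2 {X : AddSubgroup U} {N : Subgroup H} (hN : N ≤ Y) (hn : ∀ k ∈ Y, ∀ n ∈ N, k * n * k⁻¹ ∈ N)
    (h1 : ∀ n ∈ N, ∀ x ∈ X, n • x = x) (h2 : ∀ n ∈ N, ∀ v ∈ V, br n v ∈ X) : ∀ n ∈ N, ∀ v ∈ V, n • v = v := by
  refine D.red N hN hn fun n hnN => ⟨1, fun v hv => ?_⟩
  rw [pow_one, ← br_eq_zero, br_sq D.two, br_eq_zero.2 (h1 n hnN _ (h2 n hnN v hv))]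

/-- **(2)** -/
theorem eq_one_of_fix {s : H} (hs : s ∈ D.AZ) (hf : ∀ k ∈ Y0 Y, k * s * k⁻¹ = s) : s = 1 := by
  have hd : h * s * h⁻¹ ∈ Q := D.hA s hs.1 hs.2
  have hdY := D.QY hd
  -- `C_V(Y0)`
  let X : AddSubgroup U :=
    { carrier := {v | v ∈ V ∧ ∀ k ∈ Y0 Y, k • v = v}
      zero_mem' := ⟨zero_mem _, fun k _ => smul_zero k⟩
      add_mem' := fun {a b} ha hb => ⟨V.add_mem ha.1 hb.1, fun k hk => by rw [smul_add, ha.2 k hk, hb.2 k hk]⟩
      neg_mem' := fun {a} ha => ⟨V.neg_mem ha.1, fun k hk => by rw [smul_neg, ha.2 k hk]⟩ }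
  have hXY : ∀ k ∈ Y, ∀ x ∈ X, k • x ∈ X := by
    intro k hk x hx
    refine ⟨D.smul_V hk hx.1, fun g hg => ?_⟩
    have h1 := hx.2 _ (Y0_conj (inv_mem hk) hg)
    have e : g • k • x = k • ((k⁻¹ * g * k⁻¹⁻¹) • x) := by
      rw [smul_smul, smul_smul]; congr 1; group
    rw [e, h1]
  -- `[U, d] ≤ C_V(Y0)`
  have hdX : ∀ u : U, br (h * s * h⁻¹) u ∈ X := by
    intro u
    rw [D.br_h hs]
    refine ⟨D.FV (hs.2 _), fun k hk => ?_⟩
    have h1 := D.br_conj (Y0_le Y hk) hs.1 (h⁻¹ • u)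
    rw [hf k hk] at h1
    exact h1.symm
  -- `Y* ∩ Y0` is trivial on `V`
  let N : Subgroup H :=
    { carrier := {k | k ∈ Y0 Y ∧ ∀ v ∈ V, br k v ∈ X}
      one_mem' := ⟨one_mem _, fun v _ => by rw [br_one]; exact zero_mem _⟩
      mul_mem' := fun {a b} ha hb => ⟨mul_mem ha.1 hb.1, fun v hv => by
        rw [br_mul, br_eq_zero.2 ((hb.2 v hv).2 a ha.1), zero_add]
        exact X.add_mem (hb.2 v hv) (ha.2 v hv)⟩
      inv_mem' := fun {a} ha => ⟨inv_mem ha.1, fun v hv => by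
        have h1 := ha.2 (a⁻¹ • v) (D.smul_V (inv_mem (Y0_le Y ha.1)) hv)
        have e : br a⁻¹ v = - br a (a⁻¹ • v) := by
          rw [br_def, br_def, smul_inv_smul]; abel
        rw [e]; exact X.neg_mem h1⟩ }
  have hN : ∀ n ∈ N, ∀ v ∈ V, n • v = v := by
    refine D.red2 (X := X) (fun n hn => Y0_le Y hn.1) (fun k hk n hn => ⟨Y0_conj hk hn.1, fun v hv => ?_⟩)
      (fun n hn x hx => hx.2 n hn.1) fun n hn v hv => hn.2 v hv
    have e : v = k • (k⁻¹ • v) := (smul_inv_smul k v).symm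
    rw [e, br_conj_smul]
    exact hXY k hk _ (hn.2 _ (D.smul_V (inv_mem hk) hv))
  -- `d` commutes with `Y0` on `V`
  have hcY0 : ∀ k ∈ Y0 Y, ∀ v ∈ V, (h * s * h⁻¹ * k) • v = (k * (h * s * h⁻¹)) • v := by
    intro k hk v hv
    have hmem : h * s * h⁻¹ * k * (h * s * h⁻¹)⁻¹ * k⁻¹ ∈ N := by
      refine ⟨mul_mem (Y0_conj hdY hk) (inv_mem hk), fun w hw => ?_⟩
      -- modulo `X`
      have a1 : ∀ w ∈ V, ∃ x ∈ X, (h * s * h⁻¹) • w = x + w := fun w _ => ⟨_, hdX w, smul_eq _ _⟩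
      have a2 : ∀ w ∈ V, ∃ x ∈ X, (h * s * h⁻¹)⁻¹ • w = x + w := fun w _ => by
        rw [inv_eq_of_mul_eq_one_left (D.Q_sq hd)]
        exact ⟨_, hdX w, smul_eq _ _⟩
      obtain ⟨x1, hx1, e1⟩ := a2 (k⁻¹ • w) (D.smul_V (inv_mem (Y0_le Y hk)) hw)
      obtain ⟨x2, hx2, e2⟩ := a1 (x1 + w) (V.add_mem hx1.1 hw)
      have e3 : (h * s * h⁻¹ * k * (h * s * h⁻¹)⁻¹ * k⁻¹) • w = x2 + (x1 + w) := by
        rw [mul_smul, mul_smul, mul_smul, e1, smul_add, smul_inv_smul, hx1.2 k hk, e2]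
      rw [br_def, e3]
      have e4 : x2 + (x1 + w) - w = x2 + x1 := by abel
      rw [e4]
      exact X.add_mem hx2 hx1
    have h1 := hN _ hmem ((k * (h * s * h⁻¹)) • v) (by
      rw [mul_smul]; exact D.smul_V (Y0_le Y hk) (D.smul_V hdY hv))
    rw [← h1, smul_smul]
    congr 1
    group
  have hcY : ∀ k ∈ Y, ∀ v ∈ V, (h * s * h⁻¹ * k) • v = (k * (h * s * h⁻¹)) • v := by
    intro k hk v hv
    obtain ⟨k0, hk0, d, hdQ, rfl⟩ := D.exists_mul hk
    have h1 := hcY0 k0 hk0 (d • v) (D.smul_V (D.QY hdQ) hv)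
    calc (h * s * h⁻¹ * (k0 * d)) • v = (h * s * h⁻¹ * k0) • d • v := by
          rw [smul_smul]; congr 1; group
      _ = (k0 * (h * s * h⁻¹)) • d • v := h1
      _ = (k0 * (h * s * h⁻¹ * d)) • v := by rw [smul_smul]; congr 1; group
      _ = (k0 * (d * (h * s * h⁻¹))) • v := by rw [D.Q_comm hd hdQ]
      _ = (k0 * d * (h * s * h⁻¹)) • v := by congr 1; group
  -- the group of the elements acting as a power of `d`
  let N' : Subgroup H :=
    { carrier := {k | k ∈ Y ∧ ((∀ v ∈ V, k • v = v) ∨ ∀ v ∈ V, k • v = (h * s * h⁻¹) • v)}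
      one_mem' := ⟨one_mem _, Or.inl fun v _ => one_smul _ v⟩
      mul_mem' := by
        rintro a b ⟨ha, ha'⟩ ⟨hb, hb'⟩
        refine ⟨mul_mem ha hb, ?_⟩
        rcases ha' with ha' | ha' <;> rcases hb' with hb' | hb'
        · exact Or.inl fun v hv => by rw [mul_smul, hb' v hv, ha' v hv]
        · exact Or.inr fun v hv => by rw [mul_smul, hb' v hv, ha' _ (D.smul_V hdY hv)]
        · exact Or.inr fun v hv => by rw [mul_smul, hb' v hv, ha' v hv]
        · exact Or.inl fun v hv => by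
            rw [mul_smul, hb' v hv, ha' _ (D.smul_V hdY hv), smul_smul, D.Q_sq hd, one_smul]
      inv_mem' := by
        rintro a ⟨ha, ha'⟩
        refine ⟨inv_mem ha, ?_⟩
        rcases ha' with ha' | ha'
        · exact Or.inl fun v hv => by rw [inv_smul_eq_iff, ha' v hv]
        · exact Or.inr fun v hv => by
            rw [inv_smul_eq_iff, ha' _ (D.smul_V hdY hv), smul_smul, D.Q_sq hd, one_smul] }
  have hN' : ∀ n ∈ N', ∀ v ∈ V, n • v = v := by
    refine D.red N' (fun n hn => hn.1) ?_ ?_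
    · rintro k hk n ⟨hn, hn'⟩
      refine ⟨mul_mem (mul_mem hk hn) (inv_mem hk), ?_⟩
      rcases hn' with hn' | hn'
      · exact Or.inl fun v hv => by
          rw [mul_smul, mul_smul, hn' _ (D.smul_V (inv_mem hk) hv), smul_inv_smul]
      · refine Or.inr fun v hv => ?_
        have h1 := hcY k hk (k⁻¹ • v) (D.smul_V (inv_mem hk) hv)
        rw [mul_smul, mul_smul, hn' _ (D.smul_V (inv_mem hk) hv), ← mul_smul k, ← h1, mul_smul, smul_inv_smul]
    · rintro n ⟨hn, hn'⟩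
      refine ⟨1, fun v hv => ?_⟩
      rw [pow_one, pow_two]
      rcases hn' with hn' | hn'
      · rw [mul_smul, hn' v hv, hn' v hv]
      · rw [mul_smul, hn' v hv, hn' _ (D.smul_V hdY hv), smul_smul, D.Q_sq hd, one_smul]
  refine D.h_faith hs fun v hv => ?_
  rw [br_eq_zero]
  exact hN' _ ⟨hdY, Or.inr fun _ _ => rfl⟩ v hv

omit [Finite H] in
/-- a normal subgroup of `Y` defined by a condition satisfied by `Q` -/
theorem gen_sep {p : H → Prop} (p1 : p 1) (pm : ∀ a ∈ Y, ∀ b ∈ Y, p a → p b → p (a * b))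
    (pi : ∀ a ∈ Y, p a → p a⁻¹) (pc : ∀ k ∈ Y, ∀ n ∈ Y, p n → p (k * n * k⁻¹)) (pQ : ∀ d ∈ Q, p d) :
    ∀ k ∈ Y, p k := by
  let N : Subgroup H :=
    { carrier := {k | k ∈ Y ∧ p k}
      one_mem' := ⟨one_mem _, p1⟩
      mul_mem' := fun {a b} ha hb => ⟨mul_mem ha.1 hb.1, pm a ha.1 b hb.1 ha.2 hb.2⟩
      inv_mem' := fun {a} ha => ⟨inv_mem ha.1, pi a ha.1 ha.2⟩ }
  exact fun k hk => (D.gen N (fun n hn => hn.1) (fun k hk n hn =>
    ⟨mul_mem (mul_mem hk hn.1) (inv_mem hk), pc k hk n hn.1 hn.2⟩) (fun d hd => ⟨D.QY hd, pQ d hd⟩) hk).2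

omit [Finite H] in
/-- `Q` centralises the `Y`-invariant subgroup `N`: so does `Y`. -/
theorem cent_of_Q {N : Subgroup H} (hN : ∀ k ∈ Y, ∀ n ∈ N, k * n * k⁻¹ ∈ N)
    (hQ : ∀ d ∈ Q, ∀ n ∈ N, d * n * d⁻¹ = n) : ∀ k ∈ Y, ∀ n ∈ N, k * n * k⁻¹ = n := by
  refine D.gen_sep (p := fun k => ∀ n ∈ N, k * n * k⁻¹ = n) ?_ ?_ ?_ ?_ hQ
  · intro n _; group
  · intro a _ b _ h1 h2 n hn
    calc a * b * n * (a * b)⁻¹ = a * (b * n * b⁻¹) * a⁻¹ := by group
      _ = n := by rw [h2 n hn, h1 n hn]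
  · intro a _ h1 n hn
    calc a⁻¹ * n * a⁻¹⁻¹ = a⁻¹ * (a * n * a⁻¹) * a⁻¹⁻¹ := by rw [h1 n hn]
      _ = n := by group
  · intro k hk g _ h1 n hn
    have h2 := h1 _ (hN k⁻¹ (inv_mem hk) n hn)
    calc k * g * k⁻¹ * n * (k * g * k⁻¹)⁻¹ = k * (g * (k⁻¹ * n * k⁻¹⁻¹) * g⁻¹) * k⁻¹ := by group
      _ = n := by rw [h2]; group

/-- **(3)** `AA ≰ A₀` -/
theorem exists_notMem : ∃ y ∈ D.AA, y ∉ D.AZ := by
  by_contra hcon
  push Not at hcon
  have h1 : ∀ k ∈ Y, ∀ n ∈ D.AA, k * n * k⁻¹ = n :=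
    D.cent_of_Q (fun k hk n hn => D.AA_conj hk hn) fun d hd n hn => D.br_Q_AZ hd (hcon n hn)
  have h2 : D.AA ≤ ⊥ := D.AA_le_of fun k hk y hy => by
    have h3 := h1 k (Y0_le Y hk) y hy
    rw [mem_bot]
    unfold cm
    rw [h3, mul_inv_cancel]
  obtain ⟨y, hy, hy1, hyF⟩ := D.ne
  apply hy1
  refine D.eq_one_of_fix ⟨hy, hyF⟩ fun k hk => ?_
  have h3 := h2 (D.cm_mem_AA hk hy)
  rw [mem_bot] at h3
  exact mul_inv_eq_one.1 h3

/-- `A₀ ≤ AA` -/
theorem AZ_le_AA [Finite U] : D.AZ ≤ D.AA := by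
  intro s hs
  obtain ⟨y, hy, hy'⟩ := D.exists_notMem
  obtain ⟨d, hd, rfl⟩ := D.surj (D.AA_le hy) hy' (D.AA_V hy) hs
  exact mul_mem (D.AA_conj (D.QY hd) hy) (inv_mem hy)

/-- `V = [U, AA] + F` -/
theorem V_span [Finite U] {v : U} (hv : v ∈ V) : ∃ y ∈ D.AA, ∃ l ∈ L, ∃ f ∈ F, v = br y l + f := by
  obtain ⟨y, hy, hy'⟩ := D.exists_notMem
  obtain ⟨l, hl, f, hf, e⟩ := D.span (D.AA_le hy) hy' (D.AA_V hy) hv
  exact ⟨y, hy, l, hl, f, hf, e⟩

omit [Finite H] in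
/-- `C_U(AA) = C`, more precisely -/
theorem mem_C_of {y : H} (hy : y ∈ BB) (hy' : y ∉ D.AZ) {u : U} (hu : br y u = 0) : u ∈ C := by
  obtain ⟨l, hl, c, hc, rfl⟩ := D.LC u
  rw [br_add, D.br_C hy hc, add_zero] at hu
  exact C.add_mem (D.VC (D.FV (D.inj0 hy hy' hl hu))) hc

/-- **(4)**, first part: `AA` is an irreducible `Y`-module. -/
theorem irr [Finite U] {N : Subgroup H} (hNA : N ≤ D.AA) (hN : ∀ k ∈ Y, ∀ n ∈ N, k * n * k⁻¹ ∈ N) :
    N = ⊥ ∨ N = D.AA := by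
  by_cases hz : N ≤ D.AZ
  · left
    have h1 : ∀ k ∈ Y, ∀ n ∈ N, k * n * k⁻¹ = n :=
      D.cent_of_Q hN fun d hd n hn => D.br_Q_AZ hd (hz hn)
    rw [eq_bot_iff]
    intro n hn
    rw [mem_bot]
    exact D.eq_one_of_fix (hz hn) fun k hk => h1 k (Y0_le Y hk) n hn
  · right
    obtain ⟨y, hy, hy'⟩ := SetLike.not_le_iff_exists.1 hz
    have hZN : D.AZ ≤ N := by
      intro s hs
      obtain ⟨d, hd, rfl⟩ := D.surj (D.AA_le (hNA hy)) hy' (D.AA_V (hNA hy)) hs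
      exact mul_mem (hN d (D.QY hd) y hy) (inv_mem hy)
    refine le_antisymm hNA (D.AA_le_of fun k hk x hx => ?_)
    have h1 : ∀ k ∈ Y, ∀ x ∈ D.AA, cm k x ∈ N := by
      refine D.gen_sep (p := fun k => ∀ x ∈ D.AA, cm k x ∈ N) ?_ ?_ ?_ ?_ ?_
      · intro x _
        have e : cm 1 x = 1 := by unfold cm; group
        rw [e]; exact one_mem _
      · intro a ha b hb h1 h2 x hx
        have e : cm (a * b) x = a * cm b x * a⁻¹ * cm a x := by unfold cm; group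
        rw [e]
        exact mul_mem (hN a ha _ (h2 x hx)) (h1 x hx)
      · intro a ha h1 x hx
        have e : cm a⁻¹ x = (a⁻¹ * cm a x * a⁻¹⁻¹)⁻¹ := by unfold cm; group
        rw [e]
        exact inv_mem (hN _ (inv_mem ha) _ (h1 x hx))
      · intro g hg n _ h1 x hx
        have h2 := h1 _ (D.AA_conj (inv_mem hg) hx)
        have e : cm (g * n * g⁻¹) x = g * cm n (g⁻¹ * x * g⁻¹⁻¹) * g⁻¹ := by unfold cm; group
        rw [e]
        exact hN g hg _ h2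
      · intro d hd x hx
        exact hZN (D.comm_Q hd (D.AA_le hx))
    exact h1 k (Y0_le Y hk) x hx

/-- the elements of `Y0` do not all centralise `V` -/
theorem exists_move : ∃ k ∈ Y0 Y, ∃ v ∈ V, k • v ≠ v := by
  by_contra hcon
  push Not at hcon
  have h1 : ∀ n ∈ Y, ∀ v ∈ V, n • v = v := by
    refine D.red Y le_rfl (fun k hk n hn => mul_mem (mul_mem hk hn) (inv_mem hk)) fun n hn => ⟨1, fun v hv => ?_⟩
    obtain ⟨k0, hk0, d, hd, rfl⟩ := D.exists_mul hn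
    rw [pow_one, pow_two, mul_smul, mul_smul, mul_smul, hcon k0 hk0 _ (D.smul_V (D.QY hd) hv),
      hcon k0 hk0 _ (D.smul_V (D.QY hd) (D.smul_V (D.QY hd) hv)), smul_smul, D.Q_sq hd, one_smul]
  obtain ⟨y, hy, hy1, hyF⟩ := D.ne
  apply hy1
  refine D.h_faith ⟨hy, hyF⟩ fun v hv => ?_
  rw [br_eq_zero]
  exact h1 _ (D.QY (D.hA y hy hyF)) v hv

/-- `C_AA(Y0) = 1` -/
theorem fix_eq_one [Finite U] {y : H} (hy : y ∈ D.AA) (hf : ∀ k ∈ Y0 Y, k * y * k⁻¹ = y) : y = 1 := by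
  by_cases hz : y ∈ D.AZ
  · exact D.eq_one_of_fix hz hf
  exfalso
  -- `C_V(Y0)`
  let X : AddSubgroup U :=
    { carrier := {v | v ∈ V ∧ ∀ k ∈ Y0 Y, k • v = v}
      zero_mem' := ⟨zero_mem _, fun k _ => smul_zero k⟩
      add_mem' := fun {a b} ha hb => ⟨V.add_mem ha.1 hb.1, fun k hk => by rw [smul_add, ha.2 k hk, hb.2 k hk]⟩
      neg_mem' := fun {a} ha => ⟨V.neg_mem ha.1, fun k hk => by rw [smul_neg, ha.2 k hk]⟩ }
  have hXY : ∀ k ∈ Y, ∀ x ∈ X, k • x ∈ X := by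
    intro k hk x hx
    refine ⟨D.smul_V hk hx.1, fun g hg => ?_⟩
    have h1 := hx.2 _ (Y0_conj (inv_mem hk) hg)
    have e : g • k • x = k • ((k⁻¹ * g * k⁻¹⁻¹) • x) := by
      rw [smul_smul, smul_smul]; congr 1; group
    rw [e, h1]
  have hyX : ∀ u : U, br y u ∈ X := fun u => ⟨D.AA_V hy u, fun k hk => by
    rw [← D.br_conj (Y0_le Y hk) (D.AA_le hy), hf k hk]⟩
  have h1 : ∀ k ∈ Y, ∀ v ∈ V, br k v ∈ X := by
    refine D.gen_sep (p := fun k => ∀ v ∈ V, br k v ∈ X) ?_ ?_ ?_ ?_ ?_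
    · intro v _; rw [br_one]; exact zero_mem _
    · intro a ha b hb h1 h2 v hv
      have e : br (a * b) v = a • br b v + br a v := by
        simp only [br_def, mul_smul, smul_sub]; abel
      rw [e]
      exact X.add_mem (hXY a ha _ (h2 v hv)) (h1 v hv)
    · intro a ha h1 v hv
      have e : br a⁻¹ v = - br a (a⁻¹ • v) := by
        rw [br_def, br_def, smul_inv_smul]; abel
      rw [e]
      exact X.neg_mem (h1 _ (D.smul_V (inv_mem ha) hv))
    · intro k hk n _ h1 v hv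
      have e : v = k • (k⁻¹ • v) := (smul_inv_smul k v).symm
      rw [e, br_conj_smul]
      exact hXY k hk _ (h1 _ (D.smul_V (inv_mem hk) hv))
    · intro d hd v hv
      obtain ⟨l, _, f, hf', rfl⟩ := D.span (D.AA_le hy) hz (D.AA_V hy) hv
      rw [br_add, br_eq_zero.2 (D.qF d hd f hf'), add_zero, br_def]
      exact X.sub_mem (hXY d (D.QY hd) _ (hyX l)) (hyX l)
  obtain ⟨k, hk, v, hv, hne⟩ := D.exists_move
  apply hne
  exact D.red2 (X := X) (N := Y0 Y) (Y0_le Y) (fun k hk n hn => Y0_conj hk hn) (fun n hn x hx => hx.2 n hn)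
    (fun n hn v hv => h1 n (Y0_le Y hn) v hv) k hk v hv

end Dat

end dat

end Cfsg.Agent.Omega.NO3b.Exit.Ten
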