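import Cfsg.Agent.Omega.NO3b.Exit.TenField

/-!
# The second half of LOC (#18653, #19331, helper776), part 6: (9)

`D : Dat Y Q BB V F L C h` (`H`, `U` finite), `e ∈ E = HomY Y (AM D) U`; `D.Ve e = e(A) + F ≤ V`.

* `Dat.phi_line` : **(9)** if `x` centralises `F` and `x⁻¹ s x` acts on `V` as an element of `Q` for all `s ∈ A₀`,
  then `ψ(x v) ∈ K e` for `v ∈ V_e`;
* `Dat.line_inj` : if `x v ∈ C`, `x V` is moved by some `y ∈ AA` (`[l, y] ∈ x V` only for `l ∈ F`), then `v ∈ F`.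
-/

set_option autoImplicit false

namespace Cfsg.Agent.Omega.NO3b.Exit.Ten

open Subgroup

universe u v

variable {H : Type u} {U : Type v} [Group H] [AddCommGroup U] [DistribMulAction H U] {Y Q BB : Subgroup H}
  {V F L C : AddSubgroup U} {h : H}

namespace Dat

variable (D : Dat Y Q BB V F L C h)

/-- `V_e = e(A) + F` -/
def Ve (e : HomY Y (AM D) U) : AddSubgroup U where
  carrier := {v | ∃ a : AM D, v - (e : AM D →+ U) a ∈ F}
  zero_mem' := ⟨0, by rw [map_zero, sub_zero]; exact F.zero_mem⟩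
  add_mem' := by
    rintro v w ⟨a, ha⟩ ⟨b, hb⟩
    refine ⟨a + b, ?_⟩
    have e1 : v + w - (e : AM D →+ U) (a + b) = (v - (e : AM D →+ U) a) + (w - (e : AM D →+ U) b) := by
      rw [map_add]; abel
    rw [e1]
    exact F.add_mem ha hb
  neg_mem' := by
    rintro v ⟨a, ha⟩
    refine ⟨-a, ?_⟩
    have e1 : -v - (e : AM D →+ U) (-a) = -(v - (e : AM D →+ U) a) := by rw [map_neg]; abel
    rw [e1]
    exact F.neg_mem ha

theorem mem_Ve {e : HomY Y (AM D) U} {v : U} : v ∈ D.Ve e ↔ ∃ a : AM D, v - (e : AM D →+ U) a ∈ F := Iff.rfl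

theorem F_le_Ve (e : HomY Y (AM D) U) : F ≤ D.Ve e := fun f hf => ⟨0, by rwa [map_zero, sub_zero]⟩

theorem val_mem_Ve (e : HomY Y (AM D) U) (a : AM D) : (e : AM D →+ U) a ∈ D.Ve e :=
  ⟨a, by rw [sub_self]; exact F.zero_mem⟩

variable [Finite H] [Finite U]

theorem Ve_le (e : HomY Y (AM D) U) : D.Ve e ≤ V := by
  rintro v ⟨a, ha⟩
  have h1 : v = (v - (e : AM D →+ U) a) + (e : AM D →+ U) a := by abel
  rw [h1]
  exact V.add_mem (D.FV ha) (D.mdl.val_mem e a)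

theorem val_F (e : HomY Y (AM D) U) {s : AM D} (hs : s ∈ D.AZM) : (e : AM D →+ U) s ∈ F := by
  obtain ⟨u, rfl⟩ := D.mdl.psi_surj e
  exact D.mdl.inF s hs u

/-- `V` is the union of the `V_e`. -/
theorem exists_Ve {v : U} (hv : v ∈ V) : ∃ e : HomY Y (AM D) U, v ∈ D.Ve e := by
  obtain ⟨a, e, h1⟩ := D.mdl.V_span hv
  exact ⟨e, a, h1⟩

/-- **(9)** -/
theorem phi_line {x : H} (hxF : ∀ f ∈ F, x • f = f)
    (h8 : ∀ s ∈ D.AZ, ∃ d ∈ Q, ∀ v ∈ V, (x⁻¹ * s * x) • v = d • v) {e : HomY Y (AM D) U} {v : U}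
    (hv : v ∈ D.Ve e) : ∃ κ : KK Y (AM D), D.mdl.psi (x • v) = κ • e := by
  obtain ⟨s, hs, hs0⟩ := D.mdl.ne
  have hvV := D.Ve_le e hv
  obtain ⟨a, ha⟩ := hv
  obtain ⟨d, hd, hdv⟩ := h8 s.val hs
  let d' : Y := ⟨d, D.QY hd⟩
  have hd' : d' ∈ Q.subgroupOf Y := hd
  have hk : (D.mdl.psi (x • v) : AM D →+ U) s = (e : AM D →+ U) (d' • a - a) := by
    have h1 : (x⁻¹ * s.val * x) • v = d • v := hdv v hvV
    have h2 : d • v - v = (e : AM D →+ U) (d' • a - a) := by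
      have e1 : v = (v - (e : AM D →+ U) a) + (e : AM D →+ U) a := by abel
      have e2 : d • (v - (e : AM D →+ U) a) = v - (e : AM D →+ U) a := D.qF d hd _ ha
      have e3 : (e : AM D →+ U) (d' • a) = d • (e : AM D →+ U) a := e.2 d' a
      rw [map_sub, e3]
      conv_lhs => rw [e1, smul_add, e2]
      abel
    have h3 : s.val • x • v = x • d • v := by
      rw [← h1, smul_smul, smul_smul]
      congr 1
      group
    have h4 : br s.val (x • v) = x • (d • v - v) := by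
      rw [br_def, h3, smul_sub]
    rw [Mdl.psi_apply, bt_apply, h4, h2]
    exact hxF _ (D.val_F e (D.mdl.com d' hd' a))
  exact HomY.fact hk hs0

omit [Finite H] [Finite U] in
include D in
/-- a moved line meets `C` in `F` -/
theorem line_inj {x y : H} (hy : y ∈ BB) (hxF : ∀ f ∈ F, x • f = f)
    (hmov : ∀ v ∈ V, br y (x • v) = 0 → x • v ∈ F) {v : U} (hv : v ∈ V) (hC : x • v ∈ C) : v ∈ F := by
  have h1 := hmov v hv (D.br_C hy hC)
  have h2 := hxF _ h1
  have h3 : x • v = v := by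
    have h4 := congrArg (fun t => x⁻¹ • t) h2
    simpa using h4
  rwa [h3] at h1

end Dat

end Cfsg.Agent.Omega.NO3b.Exit.Ten
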