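import Cfsg.Agent.Omega.NO3b.Exit.TenIrr

/-!
# #19331 (helper776), (8) and (9), without the field

`D : Dat Y Q BB V F L C h`; `RV` : every `r : H` which is trivial on `F` and on `U / F` acts on `V` as an element
of `Q`.

* `Dat.img u` : `[AA, u]`; `Dat.img_le` : two of them with an element `≠ 0` in common are equal;
* `Dat.tw` : the commutator pairing `V / F × Q → F` under an element which normalises `V` and centralises `F`;
* `Dat.triv_of_two` : **(8)** an element which centralises `F`, normalises `V` and is a 2-element on `V` is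
  trivial on `V / F`;
* `Dat.smul_img` : **(8)** an element which centralises `F` and normalises `V` maps `[AA, u]` into `[AA, u] + F`;
* `Dat.br_smul_mem` : **(9)** `[AA, x v] ≤ [AA, e]` for `v ∈ [AA, e] + F`, `x` trivial on `F`.
-/

set_option autoImplicit false

namespace Cfsg.Agent.Omega.NO3b.Exit.Ten

open Subgroup

universe u v

section dat

variable {H : Type u} {U : Type v} [Group H] [AddCommGroup U] [DistribMulAction H U]

/-- every `r` which is trivial on `F` and on `U / F` acts on `V` as an element of `Q` -/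
def RVP (H : Type u) {U : Type v} [Group H] [AddCommGroup U] [DistribMulAction H U] (Q : Subgroup H)
    (V F : AddSubgroup U) : Prop :=
  ∀ r : H, (∀ f ∈ F, r • f = f) → (∀ u : U, br r u ∈ F) → ∃ d ∈ Q, ∀ v ∈ V, r • v = d • v

theorem fix_inv {x : H} {F : AddSubgroup U} (hx : ∀ f ∈ F, x • f = f) : ∀ f ∈ F, x⁻¹ • f = f :=
  fun f hf => by rw [inv_smul_eq_iff, hx f hf]

theorem br_conj_mem {x r : H} {F : AddSubgroup U} (hx : ∀ f ∈ F, x • f = f) (hr : ∀ u : U, br r u ∈ F) (u : U) :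
    br (x * r * x⁻¹) u ∈ F := by
  have e : u = x • (x⁻¹ • u) := (smul_inv_smul x u).symm
  rw [e, br_conj_smul, hx _ (hr _)]
  exact hr _

theorem fix_conj {x r : H} {F : AddSubgroup U} (hx : ∀ f ∈ F, x • f = f) (hr : ∀ f ∈ F, r • f = f) :
    ∀ f ∈ F, (x * r * x⁻¹) • f = f := fun f hf => by
  rw [mul_smul, mul_smul, fix_inv hx f hf, hr f hf, hx f hf]

namespace Dat

variable {Y Q BB : Subgroup H} {V F L C : AddSubgroup U} {h : H} (D : Dat Y Q BB V F L C h)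
include D

/-- `[AA, u]` -/
def img (u : U) : AddSubgroup U where
  carrier := {w | ∃ y ∈ D.AA, br y u = w}
  zero_mem' := ⟨1, one_mem _, br_one u⟩
  add_mem' := by
    rintro _ _ ⟨x, hx, rfl⟩ ⟨y, hy, rfl⟩
    exact ⟨x * y, mul_mem hx hy, D.br_mul_B (D.AA_le hx) (D.AA_le hy) u⟩
  neg_mem' := by
    rintro _ ⟨x, hx, rfl⟩
    exact ⟨x, hx, (D.neg_eq _).symm⟩

theorem mem_img {u w : U} : w ∈ D.img u ↔ ∃ y ∈ D.AA, br y u = w := Iff.rfl

theorem br_mem_img {y : H} (hy : y ∈ D.AA) (u : U) : br y u ∈ D.img u := ⟨y, hy, rfl⟩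

theorem img_le_V (u : U) : D.img u ≤ V := by
  rintro _ ⟨y, hy, rfl⟩
  exact D.AA_V hy u

theorem smul_mem_img {k : H} (hk : k ∈ Y) {u w : U} (hw : w ∈ D.img u) : k • w ∈ D.img u := by
  obtain ⟨y, hy, rfl⟩ := hw
  rw [← D.br_conj hk (D.AA_le hy)]
  exact D.br_mem_img (D.AA_conj hk hy) u

/-- the commutator pairing under an element which normalises `V` and centralises `F` -/
theorem tw {x d d' y0 : H} (hxF : ∀ f ∈ F, x • f = f) (hd : d ∈ Q) (hd' : d' ∈ Q) (hy0 : y0 ∈ D.AA)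
    (hdd : ∀ v ∈ V, (x * d * x⁻¹) • v = d' • v) {w w' f : U} (hf : f ∈ F)
    (e : x • br y0 w = br y0 w' + f) :
    br (d' * y0 * d'⁻¹ * y0⁻¹) w' = br (d * y0 * d⁻¹ * y0⁻¹) w := by
  have h1 : br y0 w' = x • br y0 w - f := by rw [e]; abel
  have h2 : (x • br y0 w) ∈ V := by rw [e]; exact V.add_mem (D.AA_V hy0 _) (D.FV hf)
  rw [D.br_comm (D.QY hd') (D.AA_le hy0), D.br_comm (D.QY hd) (D.AA_le hy0), h1, br_sub,
    br_eq_zero.2 (D.qF d' hd' f hf), sub_zero]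
  have h3 : br d' (x • br y0 w) = br (x * d * x⁻¹) (x • br y0 w) := by
    rw [br_def d', br_def (x * d * x⁻¹), hdd _ h2]
  rw [h3, br_conj_smul, hxF _ (D.qU d hd _)]

variable [Finite H] [Finite U]

/-- `C_AA(u) = 1` for `u ∉ C` -/
theorem br_inj {u : U} (hu : u ∉ C) {y : H} (hy : y ∈ D.AA) (h0 : br y u = 0) : y = 1 := by
  let N : Subgroup H :=
    { carrier := {y | y ∈ D.AA ∧ br y u = 0}
      one_mem' := ⟨one_mem _, br_one u⟩
      mul_mem' := fun {a b} ha hb => ⟨mul_mem ha.1 hb.1, by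
        rw [D.br_mul_B (D.AA_le ha.1) (D.AA_le hb.1), ha.2, hb.2, add_zero]⟩
      inv_mem' := fun {a} ha => by rw [D.inv_B (D.AA_le ha.1)]; exact ha }
  have hN : N ≤ D.AA := fun y hy => hy.1
  rcases D.irr hN fun k hk n hn => ⟨D.AA_conj hk hn.1, by rw [D.br_conj hk (D.AA_le hn.1), hn.2, smul_zero]⟩
    with h1 | h1
  · have h2 : y ∈ N := ⟨hy, h0⟩
    rwa [h1, mem_bot] at h2
  · obtain ⟨z, hz, hz'⟩ := D.exists_notMem
    have h2 : z ∈ N := by rw [h1]; exact hz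
    exact absurd (D.mem_C_of (D.AA_le hz) hz' h2.2) hu

omit [Finite H] [Finite U] in
/-- `[u, y] ∈ F`, `y ∉ A₀` implies `u ∈ C` -/
theorem mem_C_of_mem {y : H} (hy : y ∈ BB) (hy' : y ∉ D.AZ) {u : U} (hu : br y u ∈ F) : u ∈ C := by
  obtain ⟨l, hl, c, hc, rfl⟩ := D.LC u
  rw [br_add, D.br_C hy hc, add_zero] at hu
  exact C.add_mem (D.VC (D.FV (D.inj hy hy' hl (D.FL hu)))) hc

omit [Finite H] [Finite U] in
theorem exists_AZ : ∃ s ∈ D.AZ, s ≠ 1 := by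
  obtain ⟨s, hs, h1, h2⟩ := D.ne
  exact ⟨s, ⟨hs, h2⟩, h1⟩

/-- a `Y`-invariant subgroup of `AA` which contains `A₀` is `AA` -/
theorem eq_AA {N : Subgroup H} (hNA : N ≤ D.AA) (hN : ∀ k ∈ Y, ∀ n ∈ N, k * n * k⁻¹ ∈ N) {s : H} (hs : s ∈ N)
    (hs1 : s ≠ 1) : N = D.AA :=
  (D.irr hNA hN).resolve_left fun h1 => hs1 (by rwa [h1, mem_bot] at hs)

/-- two groups `[AA, u]` with an element `≠ 0` in common are equal -/
theorem img_le {u u' w : U} (hw : w ∈ D.img u) (hw' : w ∈ D.img u') (hw0 : w ≠ 0) : D.img u ≤ D.img u' := by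
  obtain ⟨y, hy, rfl⟩ := hw
  let N : Subgroup H :=
    { carrier := {y | y ∈ D.AA ∧ br y u ∈ D.img u'}
      one_mem' := ⟨one_mem _, by rw [br_one]; exact zero_mem _⟩
      mul_mem' := fun {a b} ha hb => ⟨mul_mem ha.1 hb.1, by
        rw [D.br_mul_B (D.AA_le ha.1) (D.AA_le hb.1)]; exact add_mem ha.2 hb.2⟩
      inv_mem' := fun {a} ha => by rw [D.inv_B (D.AA_le ha.1)]; exact ha }
  have h1 : N = D.AA := D.eq_AA (fun y hy => hy.1) (fun k hk n hn => ⟨D.AA_conj hk hn.1, by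
    rw [D.br_conj hk (D.AA_le hn.1)]; exact D.smul_mem_img hk hn.2⟩) ⟨hy, hw'⟩ (by
      rintro rfl
      exact hw0 (br_one u))
  rintro _ ⟨z, hz, rfl⟩
  rw [← h1] at hz
  exact hz.2

omit [Finite H] [Finite U] in
/-- the elements of `V` are not all in `F` -/
theorem not_V_le_F : ¬ V ≤ F := by
  intro hVF
  obtain ⟨s, hs, hs1⟩ := D.exists_AZ
  exact hs1 (D.h_faith hs fun v hv => br_eq_zero.2 (D.qF _ (D.hA s hs.1 hs.2) v (hVF hv)))

/-- **(8)** 2-elements are trivial on `V / F`. -/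
theorem triv_of_two (RV : RVP H Q V F) {x : H} (hxF : ∀ f ∈ F, x • f = f) (hxV : ∀ v ∈ V, x • v ∈ V)
    (hx2 : ∃ j : ℕ, ∀ v ∈ V, x ^ 2 ^ j • v = v) {v : U} (hv : v ∈ V) : br x v ∈ F := by
  have hbV : ∀ v ∈ V, br x v ∈ V := fun v hv => V.sub_mem (hxV v hv) hv
  -- a fixed point on `V / F`
  have h0 : ∃ v ∈ V, v ∉ F ∧ br x v ∈ F := by
    by_contra hcon
    push Not at hcon
    apply D.not_V_le_F
    intro v hv
    obtain ⟨j, hj⟩ := hx2
    have h1 : ∀ n : ℕ, ∀ v ∈ V, (br x)^[n] v ∈ F → v ∈ F := by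
      intro n
      induction n with
      | zero => exact fun v _ h1 => h1
      | succ n ih =>
        intro v hv h1
        rw [Function.iterate_succ_apply] at h1
        by_contra h2
        exact hcon v hv h2 (ih _ (hbV v hv) h1)
    refine h1 (2 ^ j) v hv ?_
    rw [← br_pow D.two, br_eq_zero.2 (hj v hv)]
    exact zero_mem _
  obtain ⟨v0, hv0, hv0F, hb0⟩ := h0
  obtain ⟨y0, hy0, hy0'⟩ := D.exists_notMem
  have hA := D.AA_le hy0
  obtain ⟨l, hl, f0, hf0, rfl⟩ := D.span hA hy0' (D.AA_V hy0) hv0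
  have hbl : br y0 l ∉ F := fun h1 => hv0F (F.add_mem h1 hf0)
  have hlC : l ∉ C := fun h1 => hbl (by rw [D.br_C hA h1]; exact zero_mem _)
  have hxl : br x (br y0 l) ∈ F := by
    rw [br_add, br_eq_zero.2 (hxF f0 hf0), add_zero] at hb0
    exact hb0
  -- `[d', y0] = [d, y0]`
  have key : ∀ d ∈ Q, ∀ d' ∈ Q, (∀ v ∈ V, (x * d * x⁻¹) • v = d' • v) →
      d' * y0 * d'⁻¹ * y0⁻¹ = d * y0 * d⁻¹ * y0⁻¹ := by
    intro d hd d' hd' hdd
    have h1 := D.tw hxF hd hd' hy0 hdd (w := l) (w' := l) hxl (by rw [add_comm, ← smul_eq])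
    have h2 := D.comm_Q hd hA
    have h3 := D.comm_Q hd' hA
    have h4 : br (d' * y0 * d'⁻¹ * y0⁻¹ * (d * y0 * d⁻¹ * y0⁻¹)) l = 0 := by
      rw [D.br_mul_B h3.1 h2.1, h1, D.two]
    have h5 := D.br_inj hlC (mul_mem (D.AZ_le_AA h3) (D.AZ_le_AA h2)) h4
    rw [← D.inv_B h2.1]
    exact eq_inv_of_mul_eq_one_left h5
  -- all of `V`
  have main : ∀ w : U, br x (br y0 w) ∈ F := by
    intro w
    obtain ⟨w', _, f', hf', e⟩ := D.span hA hy0' (D.AA_V hy0) (hxV _ (D.AA_V hy0 w))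
    have h1 : w' - w ∈ C := by
      obtain ⟨s, hs, hs1⟩ := D.exists_AZ
      by_contra hcon
      apply hs1
      refine D.br_inj hcon (D.AZ_le_AA hs) ?_
      obtain ⟨d, hd, rfl⟩ := D.surj hA hy0' (D.AA_V hy0) hs
      obtain ⟨d', hd', hdd⟩ := RV (x * d * x⁻¹) (fix_conj hxF (D.qF d hd)) (br_conj_mem hxF (D.qU d hd))
      have h2 := D.tw hxF hd hd' hy0 hdd hf' e
      rw [key d hd d' hd' hdd] at h2
      rw [br_sub, h2, sub_self]
    have h2 : br y0 w' = br y0 w := by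
      rw [← sub_eq_zero, ← br_sub, D.br_C hA h1]
    rw [br_def, e, h2, add_sub_cancel_left]
    exact hf'
  obtain ⟨l', _, f', hf', rfl⟩ := D.span hA hy0' (D.AA_V hy0) hv
  rw [br_add, br_eq_zero.2 (hxF f' hf'), add_zero]
  exact main l'

/-- **(8)** an element which centralises `F` and normalises `V` acts on `V / F` by scalars. -/
theorem smul_img (RV : RVP H Q V F) {x : H} (hxF : ∀ f ∈ F, x • f = f) (hxV : ∀ v ∈ V, x • v ∈ V) {u w : U}
    (hw : w ∈ D.img u) : ∃ w' ∈ D.img u, ∃ f ∈ F, x • w = w' + f := by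
  obtain ⟨y0, hy0, rfl⟩ := hw
  by_cases hz : y0 ∈ D.AZ
  · exact ⟨0, zero_mem _, br y0 u, hz.2 u, by rw [zero_add, hxF _ (hz.2 u)]⟩
  have hA := D.AA_le hy0
  obtain ⟨u', _, f', hf', e⟩ := D.span hA hz (D.AA_V hy0) (hxV _ (D.AA_V hy0 u))
  by_cases huC : u ∈ C
  · rw [D.br_C hA huC, smul_zero]
    exact ⟨0, zero_mem _, 0, zero_mem _, by rw [add_zero]⟩
  refine ⟨br y0 u', ?_, f', hf', e⟩
  obtain ⟨s, hs, hs1⟩ := D.exists_AZ
  have hs0 : br s u ≠ 0 := fun h1 => hs1 (D.br_inj huC (D.AZ_le_AA hs) h1)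
  obtain ⟨d, hd, rfl⟩ := D.surj hA hz (D.AA_V hy0) hs
  obtain ⟨d', hd', hdd⟩ := RV (x * d * x⁻¹) (fix_conj hxF (D.qF d hd)) (br_conj_mem hxF (D.qU d hd))
  have h2 := D.tw hxF hd hd' hy0 hdd hf' e
  refine D.img_le (w := br (d' * y0 * d'⁻¹ * y0⁻¹) u') ?_ ?_ ?_ (D.br_mem_img hy0 u')
  · exact D.br_mem_img (D.AZ_le_AA (D.comm_Q hd' hA)) u'
  · rw [h2]; exact D.br_mem_img (D.AZ_le_AA hs) u
  · rw [h2]; exact hs0

/-- **(9)** `[AA, x v] ≤ [AA, e]` for `v ∈ [AA, e] + F`, `x` trivial on `F`. -/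
theorem br_smul_mem (RV : RVP H Q V F) {x : H} (hxF : ∀ f ∈ F, x • f = f) {e v f : U} (hv : v ∈ D.img e)
    (hf : f ∈ F) {y : H} (hy : y ∈ D.AA) : br y (x • (v + f)) ∈ D.img e := by
  obtain ⟨z, hz, rfl⟩ := hv
  let N : Subgroup H :=
    { carrier := {y | y ∈ D.AA ∧ br y (x • (br z e + f)) ∈ D.img e}
      one_mem' := ⟨one_mem _, by rw [br_one]; exact zero_mem _⟩
      mul_mem' := fun {a b} ha hb => ⟨mul_mem ha.1 hb.1, by
        rw [D.br_mul_B (D.AA_le ha.1) (D.AA_le hb.1)]; exact add_mem ha.2 hb.2⟩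
      inv_mem' := fun {a} ha => by rw [D.inv_B (D.AA_le ha.1)]; exact ha }
  obtain ⟨s, hs, hs1⟩ := D.exists_AZ
  have h1 : N = D.AA := by
    refine D.eq_AA (fun y hy => hy.1) (fun k hk n hn => ⟨D.AA_conj hk hn.1, by
      rw [D.br_conj hk (D.AA_le hn.1)]; exact D.smul_mem_img hk hn.2⟩) (s := s) ⟨D.AZ_le_AA hs, ?_⟩ hs1
    -- `s` acts on `x V` as an element of `x Q x⁻¹`
    have hi := fix_inv hxF
    obtain ⟨d, hd, hdd⟩ := RV (x⁻¹ * s * x⁻¹⁻¹) (fix_conj hi fun f hf => D.bC s hs.1 f (D.VC (D.FV hf)))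
      (br_conj_mem hi hs.2)
    have hvV : br z e + f ∈ V := V.add_mem (D.AA_V hz e) (D.FV hf)
    have h2 : br s (x • (br z e + f)) = x • br (x⁻¹ * s * x⁻¹⁻¹) (br z e + f) := by
      rw [← br_conj_smul]
      congr 1
      group
    have h3 : br (x⁻¹ * s * x⁻¹⁻¹) (br z e + f) = br (d * z * d⁻¹ * z⁻¹) e := by
      rw [br_def, hdd _ hvV, ← br_def, br_add, br_eq_zero.2 (D.qF d hd f hf), add_zero,
        D.br_comm (D.QY hd) (D.AA_le hz)]
    rw [h2, h3, hxF _ ((D.comm_Q hd (D.AA_le hz)).2 e)]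
    exact D.br_mem_img (D.AZ_le_AA (D.comm_Q hd (D.AA_le hz))) e
  rw [← h1] at hy
  exact hy.2

end Dat

end dat

end Cfsg.Agent.Omega.NO3b.Exit.Ten
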