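import Cfsg.Agent.Omega.NO3b.Exit.TenAbs
import Cfsg.Agent.Omega.NO3b.Exit.TenScal
import Cfsg.Agent.ZN.ChoiceSit

/-!
# #19331 (10) (helper776): the lines of a minimal parabolic lie in one plane

`Par Y Q BB V F L C h X T` : `Dat Y Q BB V F L C h`, every `r : H` trivial on `F` and `U / F` acts on `V` as an
element of `Q`; `X` is a minimal parabolic over its Sylow 2-subgroup `T`, centralises `F` and contains `h`;
`BB ≤ T ≤ N(V)`; `V ∩ V^x = F` or `V^x = V` for `x ∈ X`.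

* `Par.tr` : `[v, t] ∈ F` for `v ∈ V`, `t ∈ T`;
* `Par.trans` : `AA` is transitive on the lines `V^x ≠ V`, `x ∈ X`;
* `Par.T_eq` : `t ∈ T` is `a c`, `a ∈ AA`, `c ∈ T`, `[w, c] ∈ F` for `w ∈ V + L`;
* `Par.br_W` : `[w, t] ∈ V` for `w ∈ V + L`, `t ∈ T`;
* `Par.plane` : `X` normalises `V + L`.
-/

set_option autoImplicit false

namespace Cfsg.Agent.Omega.NO3b.Exit.Ten

open Subgroup Cfsg.Agent.Omega.FFBr Cfsg.Agent.MinSimple.MinParabolic Cfsg.Agent.ZN.ChoiceSit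
open Cfsg.Agent.Omega.NO3b.EndFix (quotAct)

universe u

section gen

variable {U : Type u} [AddCommGroup U] [Finite U]

theorem surj_mod {A F : AddSubgroup U} (f : U →+ U) (hf : ∀ a ∈ A, f a ∈ A)
    (hk : ∀ a ∈ A, f a ∈ F → a ∈ F) (hF : ∀ a ∈ F, f a ∈ F) {b : U} (hb : b ∈ A) : ∃ a ∈ A, b - f a ∈ F := by
  classical
  let θ : A →+ A ⧸ F.addSubgroupOf A :=
    (QuotientAddGroup.mk' (F.addSubgroupOf A)).comp
      { toFun := fun v : A => (⟨f (v : U), hf v v.2⟩ : A)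
        map_zero' := Subtype.ext (map_zero f)
        map_add' := fun v w => Subtype.ext (map_add f (v : U) w) }
  have hker : θ.ker = F.addSubgroupOf A := by
    ext a
    rw [AddMonoidHom.mem_ker]
    change (QuotientAddGroup.mk (⟨f (a : U), hf a a.2⟩ : A) : A ⧸ F.addSubgroupOf A) = 0 ↔ _
    rw [QuotientAddGroup.eq_zero_iff, AddSubgroup.mem_addSubgroupOf, AddSubgroup.mem_addSubgroupOf]
    exact ⟨fun h1 => hk a a.2 h1, fun h1 => hF a h1⟩
  have c1 : Nat.card θ.ker * Nat.card θ.range = Nat.card A := by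
    rw [← AddSubgroup.index_ker]
    exact θ.ker.card_mul_index
  have c2 : Nat.card (F.addSubgroupOf A) * Nat.card (A ⧸ F.addSubgroupOf A) = Nat.card A :=
    (F.addSubgroupOf A).card_mul_index
  have c5 : Nat.card θ.range = Nat.card (A ⧸ F.addSubgroupOf A) := by
    refine Nat.eq_of_mul_eq_mul_left (Nat.card_pos (α := F.addSubgroupOf A)) ?_
    rw [c2, ← c1, hker]
  have c6 : θ.range = ⊤ := AddSubgroup.eq_top_of_card_eq _ c5
  have h1 : (QuotientAddGroup.mk (⟨b, hb⟩ : A) : A ⧸ F.addSubgroupOf A) ∈ θ.range := by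
    rw [c6]; trivial
  obtain ⟨a, ha⟩ := h1
  refine ⟨a, a.2, ?_⟩
  have h2 := QuotientAddGroup.eq.1 ha
  rw [AddSubgroup.mem_addSubgroupOf] at h2
  have e : b - f a = -f (a : U) + b := by abel
  rw [e]
  exact h2

end gen

variable {H U : Type u} [Group H] [AddCommGroup U] [DistribMulAction H U]

/-- The situation of (10). -/
structure Par (Y Q BB : Subgroup H) (V F L C : AddSubgroup U) (h : H) (X T : Subgroup H) : Prop where
  dat : Dat Y Q BB V F L C h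
  rv : RVP H Q V F
  XF : ∀ x ∈ X, ∀ f ∈ F, x • f = f
  hX : h ∈ X
  syl : Syl T X
  mp : IsMinPar T X
  TV : ∀ t ∈ T, ∀ v ∈ V, t • v ∈ V
  BT : BB ≤ T
  ti : ∀ x ∈ X, ∀ v ∈ V, v ∉ F → x • v ∈ V → ∀ w ∈ V, x • w ∈ V

namespace Par

variable {Y Q BB : Subgroup H} {V F L C : AddSubgroup U} {h : H} {X T : Subgroup H}
  (p : Par Y Q BB V F L C h X T)
include p

theorem TX : T ≤ X := p.syl.1

theorem AT : p.dat.AA ≤ T := (p.dat.AA_le).trans p.BT

theorem AX : p.dat.AA ≤ X := p.AT.trans p.TX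

/-- `[AA, e] + F` -/
def Ve (e : U) : AddSubgroup U := p.dat.img e ⊔ F

theorem F_le_Ve (e : U) : F ≤ p.Ve e := le_sup_right

theorem img_le_Ve (e : U) : p.dat.img e ≤ p.Ve e := le_sup_left

theorem Ve_le (e : U) : p.Ve e ≤ V := sup_le (p.dat.img_le_V e) p.dat.FV

/-- the module `M_e` -/
def Me (e : U) : AddSubgroup U := AddSubgroup.closure {w | ∃ x ∈ X, ∃ v ∈ p.Ve e, w = x • v}

theorem smul_Ve {e : U} {x : H} (hx : x ∈ X) {v : U} (hv : v ∈ p.Ve e) : x • v ∈ p.Me e :=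
  AddSubgroup.subset_closure ⟨x, hx, v, hv, rfl⟩

theorem Ve_le_Me (e : U) : p.Ve e ≤ p.Me e := fun v hv => by
  rw [← one_smul H v]
  exact p.smul_Ve (one_mem _) hv

theorem smul_Me {e : U} {x : H} (hx : x ∈ X) {w : U} (hw : w ∈ p.Me e) : x • w ∈ p.Me e := by
  induction hw using AddSubgroup.closure_induction with
  | mem w hw =>
    obtain ⟨y, hy, v, hv, rfl⟩ := hw
    rw [smul_smul]
    exact p.smul_Ve (mul_mem hx hy) hv
  | zero => rw [smul_zero]; exact zero_mem _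
  | add a b _ _ ha hb => rw [smul_add]; exact add_mem ha hb
  | neg a _ ha => rw [smul_neg]; exact neg_mem ha

theorem br_mem_Me {e : U} {x : H} (hx : x ∈ X) {w : U} (hw : w ∈ p.Me e) : br x w ∈ p.Me e := by
  rw [br_def]
  exact sub_mem (p.smul_Me hx hw) hw

/-- `C_{L}(C) = F` -/
theorem hinv_C {v : U} (hv : v ∈ V) (hC : h⁻¹ • v ∈ C) : v ∈ F := by
  have h1 := p.dat.LF _ (p.dat.hV v hv) hC
  have h2 := p.dat.hF _ h1
  rw [smul_inv_smul] at h2
  rw [h2]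
  exact h1

/-- `h⁻¹` moves `V` -/
theorem hinv_V {v : U} (hv : v ∈ V) (h1 : h⁻¹ • v ∈ V) : v ∈ F := p.hinv_C hv (p.dat.VC h1)

variable [Finite H] [Finite U]

/-- `[v, x] ∈ F` for `v ∈ V` and a 2-element `x` of `C(F) ∩ N(V)` -/
theorem tr' {x : H} (hx : x ∈ X) (hxV : ∀ v ∈ V, x • v ∈ V) (h2 : ∃ j : ℕ, x ^ 2 ^ j = 1) {v : U} (hv : v ∈ V) :
    br x v ∈ F := by
  obtain ⟨j, hj⟩ := h2
  exact p.dat.triv_of_two p.rv (p.XF x hx) hxV ⟨j, fun v _ => by rw [hj, one_smul]⟩ hv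

omit [Finite H] [Finite U] in
theorem two_pow {t : H} (ht : t ∈ T) : ∃ j : ℕ, t ^ 2 ^ j = 1 := by
  obtain ⟨j, hj⟩ := p.syl.2.1 ⟨t, ht⟩
  exact ⟨j, congrArg Subtype.val hj⟩

theorem tr {t : H} (ht : t ∈ T) {v : U} (hv : v ∈ V) : br t v ∈ F :=
  p.tr' (p.TX ht) (p.TV t ht) (p.two_pow ht) hv

theorem br_Me {e w y : _} (hw : w ∈ p.Me e) (hy : y ∈ p.dat.AA) : br y w ∈ p.dat.img e := by
  induction hw using AddSubgroup.closure_induction with
  | mem w hw =>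
    obtain ⟨x, hx, v, hv, rfl⟩ := hw
    obtain ⟨a, ha, f, hf, rfl⟩ := AddSubgroup.mem_sup.1 hv
    exact p.dat.br_smul_mem p.rv (p.XF x hx) ha hf hy
  | zero => rw [br_zero]; exact zero_mem _
  | add a b _ _ ha hb => rw [br_add]; exact add_mem ha hb
  | neg a _ ha => rw [br_neg]; exact neg_mem ha

/-- **(9)** `[M_e, y] = V_e` -/
theorem onto {e y v : _} (hy : y ∈ p.dat.AA) (hy' : y ∉ p.dat.AZ) (hv : v ∈ p.Ve e) :
    ∃ w ∈ p.Me e, v - br y w ∈ F := by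
  have hi : h⁻¹ ∈ X := inv_mem p.hX
  let f : U →+ U :=
    { toFun := fun v => br y (h⁻¹ • v)
      map_zero' := by rw [smul_zero, br_zero]
      map_add' := fun a b => by rw [smul_add, br_add] }
  obtain ⟨a, ha, h1⟩ := surj_mod (A := p.Ve e) (F := F) f
    (fun a ha => p.img_le_Ve e (p.br_Me (p.smul_Ve hi ha) hy))
    (fun a ha h1 => p.hinv_C (p.Ve_le e ha) (p.dat.mem_C_of_mem (p.dat.AA_le hy) hy' h1))
    (fun a ha => by
      change br y (h⁻¹ • a) ∈ F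
      rw [p.XF _ hi a ha, p.dat.br_V (p.dat.AA_le hy) (p.dat.FV ha)]
      exact zero_mem _) hv
  exact ⟨h⁻¹ • a, p.smul_Ve hi ha, h1⟩

omit [Finite H] [Finite U] in
/-- an element outside `C` -/
theorem exists_e : ∃ e : U, e ∉ C := by
  by_contra hcon
  push Not at hcon
  exact p.dat.not_V_le_F fun v hv => p.hinv_C hv (hcon _)

/-- **(10)** `AA` is transitive on the lines `x V ≠ V`. -/
theorem trans (hFF : AStmt.{u}) {x x' : H} (hx : x ∈ X) (hx' : x' ∈ X) (hxV : ∃ w ∈ V, x • w ∉ V)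
    (hxV' : ∃ w ∈ V, x' • w ∉ V) : ∃ a ∈ p.dat.AA, ∀ w ∈ V, (x'⁻¹ * a * x) • w ∈ V := by
  classical
  have hfact : Fact (Nat.Prime 2) := ⟨Nat.prime_two⟩
  obtain ⟨e, he⟩ := p.exists_e
  obtain ⟨y0, hy0, hy0'⟩ := p.dat.exists_notMem
  -- an element of `V_e` outside `F`
  have hv0 : br y0 e ∉ F := fun h1 => he (p.dat.mem_C_of_mem (p.dat.AA_le hy0) hy0' h1)
  have hv0e : br y0 e ∈ p.Ve e := p.img_le_Ve e (p.dat.br_mem_img hy0 e)
  -- the module
  let actM : MulDistribMulAction X (Multiplicative (p.Me e)) :=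
    { smul := fun x w => Multiplicative.ofAdd ⟨(x : H) • (w.toAdd : U), p.smul_Me x.2 w.toAdd.2⟩
      one_smul := fun w => congrArg Multiplicative.ofAdd (Subtype.ext (one_smul H (w.toAdd : U)))
      mul_smul := fun x y w => congrArg Multiplicative.ofAdd (Subtype.ext (mul_smul (x : H) (y : H) (w.toAdd : U)))
      smul_mul := fun x v w => congrArg Multiplicative.ofAdd
        (Subtype.ext (smul_add (x : H) (v.toAdd : U) (w.toAdd : U)))
      smul_one := fun x => congrArg Multiplicative.ofAdd (Subtype.ext (smul_zero (x : H))) }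
  let Fq : Subgroup (Multiplicative (p.Me e)) :=
    { carrier := {w | (w.toAdd : U) ∈ F}
      one_mem' := zero_mem F
      mul_mem' := fun {a b} ha hb => F.add_mem ha hb
      inv_mem' := fun {a} ha => F.neg_mem ha }
  have hFq : ∀ x : X, ∀ d ∈ Fq, x • d ∈ Fq := by
    intro x d hd
    change (x : H) • (d.toAdd : U) ∈ F
    rw [p.XF x x.2 _ hd]
    exact hd
  let actN : MulDistribMulAction X (Multiplicative (p.Me e) ⧸ Fq) := quotAct Fq hFq
  let cl : ∀ w : U, w ∈ p.Me e → Multiplicative (p.Me e) ⧸ Fq := fun w hw =>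
    QuotientGroup.mk (Multiplicative.ofAdd (⟨w, hw⟩ : p.Me e))
  have hsurj : ∀ q : Multiplicative (p.Me e) ⧸ Fq, ∃ w hw, cl w hw = q := by
    intro q
    obtain ⟨w, rfl⟩ := QuotientGroup.mk_surjective q
    exact ⟨w.toAdd, w.toAdd.2, rfl⟩
  have hcl : ∀ a ha b hb, cl a ha = cl b hb ↔ b - a ∈ F := by
    intro a ha b hb
    change (QuotientGroup.mk _ : Multiplicative (p.Me e) ⧸ Fq) = QuotientGroup.mk _ ↔ _
    rw [QuotientGroup.eq]
    change -a + b ∈ F ↔ _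
    rw [neg_add_eq_sub]
  have hmul : ∀ a ha b hb, cl a ha * cl b hb = cl (a + b) (add_mem ha hb) := fun _ _ _ _ => rfl
  have hinv : ∀ a ha, (cl a ha)⁻¹ = cl (-a) (neg_mem ha) := fun _ _ => rfl
  have hsm : ∀ (x : X) a ha, x • cl a ha = cl ((x : H) • a) (p.smul_Me x.2 ha) := fun _ _ _ => rfl
  have hbr : ∀ (x : X) a ha, x • cl a ha * (cl a ha)⁻¹ =
      cl (br (x : H) a) (p.br_mem_Me x.2 ha) := by
    intro x a ha
    rw [hsm, hinv, hmul, hcl]
    have e1 : br (x : H) a - ((x : H) • a + -a) = 0 := by rw [br_def]; abel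
    rw [e1]
    exact zero_mem _
  -- `ν`
  let ν : Subgroup (Multiplicative (p.Me e) ⧸ Fq) :=
    { carrier := {q | ∃ v, ∃ hv : v ∈ p.Ve e, q = cl v (p.Ve_le_Me e hv)}
      one_mem' := ⟨0, zero_mem _, rfl⟩
      mul_mem' := by
        rintro _ _ ⟨a, ha, rfl⟩ ⟨b, hb, rfl⟩
        exact ⟨a + b, add_mem ha hb, rfl⟩
      inv_mem' := by
        rintro _ ⟨a, ha, rfl⟩
        exact ⟨-a, neg_mem ha, rfl⟩ }
  have hν : ∀ a ha, cl a ha ∈ ν ↔ a ∈ p.Ve e := by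
    intro a ha
    constructor
    · rintro ⟨v, hv, h1⟩
      have h2 := (hcl _ _ _ _).1 h1
      have e1 : a = v - (v - a) := by abel
      rw [e1]
      exact sub_mem hv (p.F_le_Ve e h2)
    · intro h1
      exact ⟨a, h1, rfl⟩
  -- Sylow, minimal parabolic
  obtain ⟨P, hP⟩ := syl_iff.1 p.syl
  have hTP : T.subgroupOf X = (P : Subgroup X) := by
    rw [← hP, Subgroup.subgroupOf, comap_map_eq_self_of_injective X.subtype_injective]
  obtain ⟨M₀, hM₀, hM₁⟩ := p.mp.exists_max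
  have hm : IsMin (P : Subgroup X) (M₀.subgroupOf X) := by
    refine ⟨fun h1 => hM₀.not_ge (subgroupOf_eq_top.1 h1), fun K hK hK1 => ?_⟩
    have h3 : K.map X.subtype ≤ M₀ := by
      apply hM₁
      · rw [← hP]; exact map_mono hK
      · refine lt_of_le_of_ne (map_subtype_le _) fun h4 => hK1 ?_
        have h5 := comap_map_eq_self_of_injective X.subtype_injective K
        rw [h4] at h5
        rw [← h5]
        exact subgroupOf_self X
    rw [Subgroup.subgroupOf, ← map_le_iff_le_comap]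
    exact h3
  -- elements of `AA` acting trivially
  have htriv : ∀ y (hy : y ∈ p.dat.AA), y ∈ p.dat.AZ → ∀ v : Multiplicative (p.Me e) ⧸ Fq,
      (⟨y, p.AX hy⟩ : X) • v = v := by
    intro y hy hz v
    obtain ⟨w, hw, rfl⟩ := hsurj v
    rw [← mul_inv_eq_one, hbr]
    have : (1 : Multiplicative (p.Me e) ⧸ Fq) = cl 0 (zero_mem _) := rfl
    rw [this, hcl, zero_sub]
    exact neg_mem (hz.2 w)
  have hnt : ∀ y (hy : y ∈ p.dat.AA), (∀ v : Multiplicative (p.Me e) ⧸ Fq, (⟨y, p.AX hy⟩ : X) • v = v) →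
      y ∈ p.dat.AZ := by
    intro y hy h1
    by_contra hz
    obtain ⟨w, hw, h2⟩ := p.onto hy hz hv0e
    have h3 := h1 (cl w hw)
    rw [← mul_inv_eq_one, hbr] at h3
    have e1 : (1 : Multiplicative (p.Me e) ⧸ Fq) = cl 0 (zero_mem _) := rfl
    rw [e1, hcl, zero_sub] at h3
    apply hv0
    have e2 : br y0 e = br y0 e - br y w - -br y w := by abel
    rw [e2]
    exact sub_mem h2 h3
  have hfin : Finite (Multiplicative (p.Me e)) := inferInstanceAs (Finite (p.Me e))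
  have key := TenFF.trans_of hFF (X := X) (N := Multiplicative (p.Me e) ⧸ Fq) ?_ ?_ (P := P)
    (M := M₀.subgroupOf X) (A := p.dat.AA.subgroupOf X) (ν := ν) hm ?_ ?_ ?_ ?_ ?_ ?_ ?_ ?_ ?_
    (x := ⟨x, hx⟩) (x' := ⟨x', hx'⟩) ?_ ?_
  · obtain ⟨a, ha, h1⟩ := key
    refine ⟨a, ha, ?_⟩
    have hxx : x'⁻¹ * (a : H) * x ∈ X := mul_mem (mul_mem (inv_mem hx') a.2) hx
    have h2 := h1 (cl (br y0 e) (p.Ve_le_Me e hv0e)) ((hν _ _).2 hv0e)
    rw [hsm, hν] at h2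
    exact p.ti _ hxx _ (p.Ve_le e hv0e) hv0 (p.Ve_le e h2)
  · intro v w
    obtain ⟨a, ha, rfl⟩ := hsurj v
    obtain ⟨b, hb, rfl⟩ := hsurj w
    rw [hmul, hmul, hcl]
    have e1 : b + a - (a + b) = 0 := by abel
    rw [e1]
    exact zero_mem _
  · intro v
    obtain ⟨a, ha, rfl⟩ := hsurj v
    rw [hmul]
    have e1 : (1 : Multiplicative (p.Me e) ⧸ Fq) = cl 0 (zero_mem _) := rfl
    rw [e1, hcl, p.dat.two, sub_zero]
    exact zero_mem _
  · rw [← hTP]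
    exact comap_mono p.AT
  · rintro t ht _ ⟨v, hv, rfl⟩
    have ht' : t ∈ T.subgroupOf X := by rw [hTP]; exact ht
    rw [← mul_inv_eq_one, hbr]
    have e1 : (1 : Multiplicative (p.Me e) ⧸ Fq) = cl 0 (zero_mem _) := rfl
    rw [e1, hcl, zero_sub]
    exact neg_mem (p.tr (mem_subgroupOf.1 ht') (p.Ve_le e hv))
  · intro W hW
    rw [eq_top_iff]
    intro q _
    obtain ⟨w, hw, rfl⟩ := hsurj q
    have h1 : ∀ w (hw : w ∈ p.Me e), cl w hw ∈ W := by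
      intro w hw
      induction hw using AddSubgroup.closure_induction with
      | mem w hw =>
        obtain ⟨x, hx, v, hv, rfl⟩ := hw
        have h2 := hW _ ((hν v (p.Ve_le_Me e hv)).2 hv) ⟨x, hx⟩
        rw [hsm] at h2
        exact h2
      | zero => exact one_mem W
      | add a b _ _ ha hb => exact mul_mem ha hb
      | neg a _ ha => exact inv_mem ha
    exact h1 w hw
  · intro a ha q
    obtain ⟨w, hw, rfl⟩ := hsurj q
    rw [hbr, hν]
    exact p.img_le_Ve e (p.br_Me hw ha)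
  · intro a ha
    by_cases hz : (a : H) ∈ p.dat.AZ
    · exact Or.inl (htriv a ha hz)
    · right
      rintro _ ⟨v, hv, rfl⟩
      obtain ⟨w, hw, h2⟩ := p.onto ha hz hv
      exact ⟨cl w hw, by rw [hbr, hcl]; exact h2⟩
  · refine ⟨⟨y0, p.AX hy0⟩, hy0, ?_⟩
    by_contra hcon
    push Not at hcon
    exact hy0' (hnt y0 hy0 hcon)
  · intro a ha b hb v
    have h1 : a * b = b * a := Subtype.ext (p.dat.comm_B (p.dat.AA_le ha) (p.dat.AA_le hb))
    rw [h1]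
  · intro a ha v
    have h1 : a * a = 1 := Subtype.ext (p.dat.sq_B (p.dat.AA_le ha))
    rw [h1, one_smul]
  · -- the offender
    set π : X →* (MulDistribMulAction.toMulAut X (Multiplicative (p.Me e) ⧸ Fq)).range :=
      (MulDistribMulAction.toMulAut X (Multiplicative (p.Me e) ⧸ Fq)).rangeRestrict with hπ
    set CN : Subgroup (Multiplicative (p.Me e) ⧸ Fq) :=
      ClassTwoFusion.Quad.cv (Multiplicative (p.Me e) ⧸ Fq) (p.dat.AA.subgroupOf X : Set X) with hCN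
    -- for every `q` some `y` with `[e, y] = [w, y0]`
    have h1 : ∀ c : (Multiplicative (p.Me e) ⧸ Fq) ⧸ CN, ∃ y, ∃ hy : y ∈ p.dat.AA, ∃ w, ∃ hw : w ∈ p.Me e,
        (QuotientGroup.mk (cl w hw) : _ ⧸ CN) = c ∧ br y e = br y0 w := by
      intro c
      obtain ⟨q, rfl⟩ := QuotientGroup.mk_surjective c
      obtain ⟨w, hw, rfl⟩ := hsurj q
      obtain ⟨y, hy, h2⟩ := p.br_Me hw hy0
      exact ⟨y, hy, w, hw, rfl, h2⟩
    choose y hy w hw h2 h3 using h1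
    refine Nat.card_le_card_of_injective (fun c => (⟨π ⟨y c, p.AX (hy c)⟩, ⟨y c, p.AX (hy c)⟩, hy c, rfl⟩ :
      (p.dat.AA.subgroupOf X).map π)) ?_
    intro c c' hcc
    have h4 : π ⟨y c, p.AX (hy c)⟩ = π ⟨y c', p.AX (hy c')⟩ := congrArg Subtype.val hcc
    -- `y c y c'` acts trivially
    have hmem : y c * y c' ∈ p.dat.AA := mul_mem (hy c) (hy c')
    have h5 : y c * y c' ∈ p.dat.AZ := by
      refine hnt _ hmem fun v => ?_
      have e1 : (⟨y c * y c', p.AX hmem⟩ : X) = (⟨y c, p.AX (hy c)⟩ : X) * ⟨y c', p.AX (hy c')⟩ := rfl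
      have e2 : (⟨y c, p.AX (hy c)⟩ : X) • (⟨y c', p.AX (hy c')⟩ : X) • v =
          (⟨y c', p.AX (hy c')⟩ : X) • (⟨y c', p.AX (hy c')⟩ : X) • v :=
        congrArg (fun g : (MulDistribMulAction.toMulAut X (Multiplicative (p.Me e) ⧸ Fq)).range =>
          g • ((⟨y c', p.AX (hy c')⟩ : X) • v)) h4
      rw [e1, mul_smul, e2, smul_smul]
      have e3 : (⟨y c', p.AX (hy c')⟩ : X) * ⟨y c', p.AX (hy c')⟩ = 1 :=
        Subtype.ext (p.dat.sq_B (p.dat.AA_le (hy c')))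
      rw [e3, one_smul]
    have h6 := h5.2 e
    rw [p.dat.br_mul_B (p.dat.AA_le (hy c)) (p.dat.AA_le (hy c')), h3, h3, ← br_add] at h6
    have h7 := p.dat.mem_C_of_mem (p.dat.AA_le hy0) hy0' h6
    rw [← h2 c, ← h2 c', QuotientGroup.eq, hinv, hmul]
    intro a ha
    rw [← mul_inv_eq_one, hbr]
    have e1 : (1 : Multiplicative (p.Me e) ⧸ Fq) = cl 0 (zero_mem _) := rfl
    rw [e1, hcl, zero_sub]
    have e2 : -w c + w c' = w c + w c' := by rw [p.dat.neg_eq]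
    have e3 : br (a : H) (w c + w c') = 0 := p.dat.br_C (p.dat.AA_le ha) h7
    rw [e2, e3, neg_zero]
    exact zero_mem _
  · refine ⟨cl (br y0 e) (p.Ve_le_Me e hv0e), (hν _ _).2 hv0e, ?_⟩
    rw [hsm, hν]
    intro h1
    obtain ⟨w, hw, h2⟩ := hxV
    exact h2 (p.ti x hx _ (p.Ve_le e hv0e) hv0 (p.Ve_le e h1) w hw)
  · refine ⟨cl (br y0 e) (p.Ve_le_Me e hv0e), (hν _ _).2 hv0e, ?_⟩
    rw [hsm, hν]
    intro h1
    obtain ⟨w, hw, h2⟩ := hxV'
    exact h2 (p.ti x' hx' _ (p.Ve_le e hv0e) hv0 (p.Ve_le e h1) w hw)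

/-! ### The plane -/

omit [Finite H] [Finite U] in
theorem hinv_mv : ∃ w ∈ V, h⁻¹ • w ∉ V := by
  by_contra hcon
  push Not at hcon
  exact p.dat.not_V_le_F fun v hv => p.hinv_V hv (hcon v hv)

omit [Finite H] [Finite U] in
theorem t_hinv_mv {t : H} (ht : t ∈ T) : ∃ w ∈ V, (t * h⁻¹) • w ∉ V := by
  obtain ⟨w, hw, h1⟩ := p.hinv_mv
  refine ⟨w, hw, fun h2 => h1 ?_⟩
  have h3 := p.TV _ (inv_mem ht) _ h2
  rwa [mul_smul, inv_smul_smul] at h3

/-- **(10)** `T = AA C_T((V + L) / F)` -/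
theorem T_eq (hFF : AStmt.{u}) {t : H} (ht : t ∈ T) :
    ∃ a ∈ p.dat.AA, ∃ c ∈ T, t = a * c ∧ ∀ w ∈ V ⊔ L, br c w ∈ F := by
  obtain ⟨a, ha, h1⟩ := p.trans hFF (mul_mem (p.TX ht) (inv_mem p.hX)) (inv_mem p.hX) (p.t_hinv_mv ht) p.hinv_mv
  have hc : a * t ∈ T := mul_mem (p.AT ha) ht
  refine ⟨a⁻¹, inv_mem ha, a * t, hc, by group, fun w hw => ?_⟩
  obtain ⟨v, hv, l, hl, rfl⟩ := AddSubgroup.mem_sup.1 hw
  rw [br_add]
  refine F.add_mem (p.tr hc hv) ?_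
  have hx : h * (a * t) * h⁻¹ ∈ X := mul_mem (mul_mem p.hX (p.TX hc)) (inv_mem p.hX)
  have h2 : ∀ v ∈ V, (h * (a * t) * h⁻¹) • v ∈ V := by
    intro v hv
    have h3 := h1 v hv
    have e : h⁻¹⁻¹ * a * (t * h⁻¹) = h * (a * t) * h⁻¹ := by group
    rwa [e] at h3
  obtain ⟨j, hj⟩ := p.two_pow hc
  have h3 := p.tr' hx h2 ⟨j, by rw [conj_pow, hj, mul_one, mul_inv_cancel]⟩ (p.dat.hL l hl)
  rw [br_conj_smul] at h3
  have h4 := fix_inv p.dat.hF _ h3
  rw [inv_smul_smul] at h4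
  rw [h4]
  exact h3

/-- **(10)** `[V + L, T] ≤ V` -/
theorem br_W (hFF : AStmt.{u}) {t w : _} (ht : t ∈ T) (hw : w ∈ V ⊔ L) : br t w ∈ V := by
  obtain ⟨a, ha, c, _, rfl, h1⟩ := p.T_eq hFF ht
  have h2 := h1 w hw
  rw [br_mul, p.dat.br_V (p.dat.AA_le ha) (p.dat.FV h2), zero_add]
  exact V.add_mem (p.dat.FV h2) (p.dat.AA_V ha w)

omit [Finite H] [Finite U] in
theorem h_mv : ∃ w ∈ V, h • w ∉ V := by
  by_contra hcon
  push Not at hcon
  refine p.dat.not_V_le_F fun v hv => ?_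
  have h1 := p.dat.hV _ (hcon v hv)
  rw [inv_smul_smul] at h1
  exact p.dat.LF v h1 (p.dat.VC hv)

omit [Finite H] [Finite U] in
theorem y_mv {y : H} (hy : y ∈ p.dat.AA) (hy' : y ∉ p.dat.AZ) : ∃ w ∈ V, (h * y * h⁻¹) • w ∉ V := by
  by_contra hcon
  push Not at hcon
  refine p.dat.not_V_le_F fun v hv => ?_
  have h1 := p.dat.hV _ (hcon v hv)
  have e : h⁻¹ • ((h * y * h⁻¹) • v) = y • (h⁻¹ • v) := by
    rw [smul_smul, smul_smul]; congr 1; group
  rw [e] at h1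
  have hl := p.dat.hV v hv
  have h2 : br y (h⁻¹ • v) ∈ L := by rw [br_def]; exact L.sub_mem h1 hl
  have h3 := p.dat.inj (p.dat.AA_le hy) hy' hl h2
  exact p.hinv_C hv (p.dat.VC (p.dat.FV h3))

/-- **(10)** `X = ⟨T, AA^h⟩` -/
theorem gen (hFF : AStmt.{u}) {K : Subgroup H} (hT : T ≤ K) (hA : ∀ y ∈ p.dat.AA, h⁻¹ * y * h ∈ K) : X ≤ K := by
  obtain ⟨M₀, hM₀, hM₁⟩ := p.mp.exists_max
  by_contra hcon
  have hKX : K ⊓ X < X := lt_of_le_of_ne inf_le_right fun h1 => hcon (by rw [← h1]; exact inf_le_left)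
  have hKM : K ⊓ X ≤ M₀ := hM₁ _ (le_inf hT p.TX) hKX
  let NV : Subgroup H :=
    { carrier := {x | x ∈ X ∧ ∀ w : U, w ∈ V ↔ x • w ∈ V}
      one_mem' := ⟨one_mem _, fun w => by rw [one_smul]⟩
      mul_mem' := fun {a b} ha hb => ⟨mul_mem ha.1 hb.1, fun w => by
        rw [mul_smul, ← ha.2, ← hb.2]⟩
      inv_mem' := fun {a} ha => ⟨inv_mem ha.1, fun w => by
        rw [ha.2 (a⁻¹ • w), smul_inv_smul]⟩ }
  -- `x V ≤ V` is enough
  have hNV : ∀ x ∈ X, (∀ w ∈ V, x • w ∈ V) → x ∈ NV := by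
    intro x hx hxV
    refine ⟨hx, fun w => ⟨hxV w, fun h1 => ?_⟩⟩
    have hn : ∀ n : ℕ, ∀ w ∈ V, x ^ n • w ∈ V := by
      intro n
      induction n with
      | zero => intro w hw; rwa [pow_zero, one_smul]
      | succ n ih => intro w hw; rw [pow_succ, mul_smul]; exact ih _ (hxV w hw)
    have e : x ^ (orderOf x - 1) * x = 1 := by
      rw [pow_sub_one_mul (orderOf_pos x).ne', pow_orderOf_eq_one]
    have h2 := hn (orderOf x - 1) _ h1
    rwa [smul_smul, e, one_smul] at h2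
  have hNVM : NV ≤ M₀ := by
    refine hM₁ _ (fun t ht => hNV t (p.TX ht) (p.TV t ht)) (lt_of_le_of_ne (fun x hx => hx.1) fun h1 => ?_)
    have h2 : h⁻¹ ∈ NV := by rw [h1]; exact inv_mem p.hX
    obtain ⟨w, hw, h3⟩ := p.hinv_mv
    exact h3 ((h2.2 w).1 hw)
  apply hM₀.not_ge
  intro x hx
  by_cases hxV : ∀ w ∈ V, x • w ∈ V
  · exact hNVM (hNV x hx hxV)
  push Not at hxV
  obtain ⟨y, hy, hy'⟩ := p.dat.exists_notMem
  have hyX := p.AX hy
  have hi := inv_mem p.hX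
  obtain ⟨a, ha, h1⟩ := p.trans hFF hx (mul_mem hyX hi) hxV (p.t_hinv_mv (p.AT hy))
  obtain ⟨a', ha', h2⟩ := p.trans hFF (mul_mem (mul_mem p.hX hyX) hi) p.hX (p.y_mv hy hy') p.h_mv
  have h3 : (y * h⁻¹)⁻¹ * a * x ∈ M₀ :=
    hNVM (hNV _ (mul_mem (mul_mem (inv_mem (mul_mem hyX hi)) (p.AX ha)) hx) h1)
  have h4 : h⁻¹ * a' * (h * y * h⁻¹) ∈ M₀ :=
    hNVM (hNV _ (mul_mem (mul_mem hi (p.AX ha')) (mul_mem (mul_mem p.hX hyX) hi)) h2)
  have h5 : a ∈ M₀ := hKM ⟨hT (p.AT ha), p.AX ha⟩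
  have h6 : h⁻¹ * a' * h ∈ M₀ := hKM ⟨hA a' ha', mul_mem (mul_mem hi (p.AX ha')) p.hX⟩
  have e : x = a⁻¹ * ((h⁻¹ * a' * h)⁻¹ * (h⁻¹ * a' * (h * y * h⁻¹)) * ((y * h⁻¹)⁻¹ * a * x)) := by group
  rw [e]
  exact mul_mem (inv_mem h5) (mul_mem (mul_mem (inv_mem h6) h4) h3)

/-- **(10)** `X` normalises `V + L`. -/
theorem plane (hFF : AStmt.{u}) {x w : _} (hx : x ∈ X) (hw : w ∈ V ⊔ L) : x • w ∈ V ⊔ L := by
  let K : Subgroup H :=
    { carrier := {x | ∀ w : U, w ∈ V ⊔ L ↔ x • w ∈ V ⊔ L}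
      one_mem' := fun w => by rw [one_smul]
      mul_mem' := fun {a b} ha hb w => by rw [mul_smul, ← ha, ← hb]
      inv_mem' := fun {a} ha w => by rw [ha (a⁻¹ • w), smul_inv_smul] }
  have hbr : ∀ x : H, (∀ w ∈ V ⊔ L, br x w ∈ V ⊔ L) → (∀ w ∈ V ⊔ L, br x⁻¹ w ∈ V ⊔ L) → x ∈ K := by
    intro x h1 h2 w
    constructor
    · intro hw
      rw [smul_eq]; exact add_mem (h1 w hw) hw
    · intro hw
      have h3 := h2 _ hw
      have e : w = br x⁻¹ (x • w) + x • w := by rw [br_def, inv_smul_smul]; abel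
      rw [e]; exact add_mem h3 hw
  have hK : X ≤ K := by
    refine p.gen hFF (fun t ht => ?_) fun y hy => ?_
    · exact hbr t (fun w hw => (le_sup_left : V ≤ V ⊔ L) (p.br_W hFF ht hw)) fun w hw =>
        (le_sup_left : V ≤ V ⊔ L) (p.br_W hFF (inv_mem ht) hw)
    · have key : ∀ y ∈ p.dat.AA, ∀ w : U, br (h⁻¹ * y * h) w ∈ V ⊔ L := by
        intro y hy w
        have e : br (h⁻¹ * y * h) w = h⁻¹ • br y (h • w) := by
          rw [← br_conj_smul, inv_inv, inv_smul_smul]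
        rw [e]
        exact (le_sup_right : L ≤ V ⊔ L) (p.dat.hV _ (p.dat.AA_V hy _))
      refine hbr _ (fun w _ => key y hy w) fun w _ => ?_
      have e : (h⁻¹ * y * h)⁻¹ = h⁻¹ * y⁻¹ * h := by group
      rw [e]
      exact key _ (inv_mem hy) w
  exact (hK hx w).1 hw

end Par

end Cfsg.Agent.Omega.NO3b.Exit.Ten
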