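import Mathlib

/-!
# The second half of LOC (#18653, helper776), part 3: Schur's lemma for abelian groups with operators

`A` : a finite irreducible `Y`-module (additive group), `class IsIrr Y A`.

* `KK Y A` : the finite field `End_Y(A)` (instances `Field`, `Finite`, `Module (KK Y A) A`, `SMulCommClass`);
* `HomY Y A W` : the additive group `Hom_Y(A, W)`, a `KK Y A`-space by `(κ f) a = f (κ a)`;
* `HomY.inj` : a nonzero element is injective; `HomY.ind` : `A ⊗ Hom_Y(A, W) → W` is injective, in the form
  `f i` linearly independent, `∑ f i (a i) = 0` implies `a i = 0`; `HomY.ind'` : the same with independent `a i`;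
* `HomY.fact` : if `f A ∩ g A ≠ 0` then `g ∈ K f`.
-/

set_option autoImplicit false

namespace Cfsg.Agent.Omega.NO3b.Exit.Ten

universe u v w

/-- `A` is an irreducible `Y`-module. -/
class IsIrr (Y : Type u) (A : Type v) [Group Y] [AddCommGroup A] [DistribMulAction Y A] : Prop where
  ne : ∃ a : A, a ≠ 0
  irr : ∀ N : AddSubgroup A, (∀ k : Y, ∀ n ∈ N, k • n ∈ N) → N = ⊥ ∨ N = ⊤

/-- `Hom_Y(A, W)` -/
def HomY (Y : Type u) (A : Type v) (W : Type w) [Group Y] [AddCommGroup A] [DistribMulAction Y A] [AddCommGroup W]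
    [DistribMulAction Y W] : AddSubgroup (A →+ W) where
  carrier := {f | ∀ (k : Y) (a : A), f (k • a) = k • f a}
  zero_mem' := fun k a => by simp
  add_mem' := fun {f g} hf hg k a => by
    rw [AddMonoidHom.add_apply, AddMonoidHom.add_apply, hf, hg, smul_add]
  neg_mem' := fun {f} hf k a => by
    rw [AddMonoidHom.neg_apply, AddMonoidHom.neg_apply, hf, smul_neg]

section homY

variable {Y : Type u} {A : Type v} {W : Type w} [Group Y] [AddCommGroup A] [DistribMulAction Y A] [AddCommGroup W]
  [DistribMulAction Y W]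

theorem mem_HomY {f : A →+ W} : f ∈ HomY Y A W ↔ ∀ (k : Y) (a : A), f (k • a) = k • f a := Iff.rfl

/-- a nonzero homomorphism from an irreducible module is injective -/
theorem inj_of_ne [hI : IsIrr Y A] {f : A →+ W} (hf : ∀ (k : Y) (a : A), f (k • a) = k • f a) (h0 : f ≠ 0) :
    Function.Injective f := by
  rcases hI.irr f.ker (fun k n hn => by
    rw [AddMonoidHom.mem_ker] at hn ⊢
    rw [hf, hn, smul_zero]) with h | h
  · exact (AddMonoidHom.ker_eq_bot_iff f).1 h
  · exfalso
    apply h0
    ext a
    have : a ∈ f.ker := by rw [h]; trivial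
    exact this

end homY

section field

variable (Y : Type u) (A : Type v) [Group Y] [AddCommGroup A] [DistribMulAction Y A]

/-- `End_Y(A)` -/
def EndY : Subring (AddMonoid.End A) where
  carrier := {f | ∀ (k : Y) (a : A), f (k • a) = k • f a}
  one_mem' := fun k a => rfl
  zero_mem' := fun k a => (smul_zero k).symm
  add_mem' := fun {f g} hf hg k a => by
    change f (k • a) + g (k • a) = k • (f a + g a)
    rw [hf, hg, smul_add]
  neg_mem' := fun {f} hf k a => by
    change - f (k • a) = k • (- f a)
    rw [hf, smul_neg]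
  mul_mem' := fun {f g} hf hg k a => by
    change f (g (k • a)) = k • (f (g a))
    rw [hg, hf]

/-- the field `End_Y(A)` -/
def KK : Type v := EndY Y A

variable [Finite A] [hI : IsIrr Y A]

instance : Finite (EndY Y A) :=
  Finite.of_injective (fun f => (f : AddMonoid.End A) : EndY Y A → A → A)
    fun _ _ h => Subtype.ext (DFunLike.coe_injective h)

instance : Finite (KK Y A) := inferInstanceAs (Finite (EndY Y A))

theorem isField : IsField (EndY Y A) := by
  have hinj : ∀ f : EndY Y A, f ≠ 0 → Function.Injective (f : AddMonoid.End A) := by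
    intro f hf
    exact inj_of_ne (Y := Y) (f := ((f : AddMonoid.End A) : A →+ A)) f.2 fun h => hf (Subtype.ext h)
  have hnt : Nontrivial (EndY Y A) := by
    obtain ⟨a, ha⟩ := hI.ne
    refine ⟨⟨0, 1, fun h => ha ?_⟩⟩
    have h1 : ((0 : EndY Y A) : AddMonoid.End A) a = ((1 : EndY Y A) : AddMonoid.End A) a := by rw [h]
    exact h1.symm
  have hnz : NoZeroDivisors (EndY Y A) := by
    refine ⟨fun {f g} h => ?_⟩
    by_cases hf : f = 0
    · exact Or.inl hf
    · right
      apply Subtype.ext
      apply DFunLike.ext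
      intro a
      refine hinj f hf ?_
      have h1 : ((f * g : EndY Y A) : AddMonoid.End A) a = ((0 : EndY Y A) : AddMonoid.End A) a := by rw [h]
      change (f : AddMonoid.End A) ((g : AddMonoid.End A) a) = (f : AddMonoid.End A) (0 : A)
      rw [map_zero]
      exact h1
  have : IsDomain (EndY Y A) := NoZeroDivisors.to_isDomain _
  exact Finite.isDomain_to_isField _

@[irreducible] noncomputable def KK.fld : Field (KK Y A) := IsField.toField (R := EndY Y A) (isField Y A)

noncomputable instance : Field (KK Y A) := KK.fld Y A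

variable {Y A}

theorem KK.val_one : ((1 : KK Y A).1 : AddMonoid.End A) = 1 := by with_unfolding_all rfl

theorem KK.val_zero : ((0 : KK Y A).1 : AddMonoid.End A) = 0 := by with_unfolding_all rfl

theorem KK.val_mul (x y : KK Y A) : ((x * y).1 : AddMonoid.End A) = x.1 * y.1 := by with_unfolding_all rfl

theorem KK.val_add (x y : KK Y A) : ((x + y).1 : AddMonoid.End A) = x.1 + y.1 := by with_unfolding_all rfl

noncomputable instance : SMul (KK Y A) A := ⟨fun κ a => (κ.1 : AddMonoid.End A) a⟩

noncomputable instance : Module (KK Y A) A where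
  one_smul a := by
    change ((1 : KK Y A).1 : AddMonoid.End A) a = a
    rw [KK.val_one]; rfl
  mul_smul x y a := by
    change ((x * y).1 : AddMonoid.End A) a = x.1 (y.1 a)
    rw [KK.val_mul]; rfl
  smul_zero κ := map_zero (κ.1 : AddMonoid.End A)
  smul_add κ a b := map_add (κ.1 : AddMonoid.End A) a b
  add_smul x y a := by
    change ((x + y).1 : AddMonoid.End A) a = x.1 a + y.1 a
    rw [KK.val_add]; rfl
  zero_smul a := by
    change ((0 : KK Y A).1 : AddMonoid.End A) a = 0
    rw [KK.val_zero]; rfl

variable (Y A)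

omit [Finite A] hI in
theorem KK.smul_def (κ : KK Y A) (a : A) : κ • a = (κ.1 : AddMonoid.End A) a := rfl

instance : SMulCommClass Y (KK Y A) A := ⟨fun k κ a => (κ.2 k a).symm⟩

instance : SMulCommClass (KK Y A) Y A := ⟨fun κ k a => κ.2 k a⟩

/-- an element of the field from a `Y`-endomorphism -/
def KK.mk (f : A →+ A) (hf : ∀ (k : Y) (a : A), f (k • a) = k • f a) : KK Y A := ⟨f, hf⟩

omit [Finite A] hI in
theorem KK.mk_smul (f : A →+ A) (hf : ∀ (k : Y) (a : A), f (k • a) = k • f a) (a : A) :
    KK.mk Y A f hf • a = f a := rfl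

end field

section module

variable {Y : Type u} {A : Type v} {W : Type w} [Group Y] [AddCommGroup A] [DistribMulAction Y A] [AddCommGroup W]
  [DistribMulAction Y W] [Finite A] [hI : IsIrr Y A]

omit [Finite A] hI in
theorem KK.smul_smul_comm (k : Y) (κ : KK Y A) (a : A) : κ • k • a = k • κ • a := κ.2 k a

noncomputable instance : SMul (KK Y A) (HomY Y A W) :=
  ⟨fun κ f => ⟨(f : A →+ W).comp (κ.1 : AddMonoid.End A), fun k a => by
    change (f : A →+ W) (κ • k • a) = k • (f : A →+ W) (κ • a)
    rw [KK.smul_smul_comm, f.2]⟩⟩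

omit [Finite A] hI in
theorem HomY.smul_apply (κ : KK Y A) (f : HomY Y A W) (a : A) :
    ((κ • f : HomY Y A W) : A →+ W) a = (f : A →+ W) (κ • a) := rfl

noncomputable instance : Module (KK Y A) (HomY Y A W) where
  one_smul f := by
    apply Subtype.ext
    ext a
    rw [HomY.smul_apply, one_smul]
  mul_smul κ l f := by
    apply Subtype.ext
    ext a
    rw [HomY.smul_apply, HomY.smul_apply, HomY.smul_apply, smul_smul, mul_comm]
  smul_zero κ := rfl
  smul_add κ f g := rfl
  add_smul κ l f := by
    apply Subtype.ext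
    ext a
    rw [AddSubgroup.coe_add, AddMonoidHom.add_apply, HomY.smul_apply, HomY.smul_apply, HomY.smul_apply, add_smul,
      map_add]
  zero_smul f := by
    apply Subtype.ext
    ext a
    rw [HomY.smul_apply, zero_smul, map_zero]
    rfl

omit [Finite A] in
theorem HomY.inj {f : HomY Y A W} (h0 : f ≠ 0) : Function.Injective (f : A →+ W) :=
  inj_of_ne f.2 fun h => h0 (Subtype.ext h)

omit [Finite A] in
theorem HomY.eq_zero {f : HomY Y A W} {a : A} (h : (f : A →+ W) a = 0) (ha : a ≠ 0) : f = 0 := by
  by_contra hf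
  exact ha (HomY.inj hf (h.trans (map_zero _).symm))

/-- if `f A ∩ g A ≠ 0` then `g ∈ K f` -/
theorem HomY.fact {f g : HomY Y A W} {a b : A} (hab : (f : A →+ W) a = (g : A →+ W) b) (ha : a ≠ 0) :
    ∃ κ : KK Y A, f = κ • g := by
  by_cases hg : g = 0
  · subst hg
    exact ⟨0, by rw [zero_smul]; exact HomY.eq_zero (hab.trans rfl) ha⟩
  have hgi := HomY.inj hg
  let N : AddSubgroup A := ((g : A →+ W).range).comap (f : A →+ W)
  have hN : N = ⊤ := by
    rcases hI.irr N (fun k n hn => by
      obtain ⟨c, hc⟩ := hn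
      refine ⟨k • c, ?_⟩
      rw [g.2, hc, f.2]) with h | h
    · exfalso
      apply ha
      have : a ∈ N := ⟨b, hab.symm⟩
      rw [h] at this
      exact this
    · exact h
  have h1 : ∀ x : A, ∃ c : A, (g : A →+ W) c = (f : A →+ W) x := fun x => by
    have : x ∈ N := by rw [hN]; trivial
    exact this
  choose c hc using h1
  have hadd : ∀ x y : A, c (x + y) = c x + c y := fun x y => hgi (by rw [hc, map_add, map_add, hc, hc])
  refine ⟨KK.mk Y A (AddMonoidHom.mk' c hadd) (fun k x => hgi ?_), ?_⟩
  · change (g : A →+ W) (c (k • x)) = (g : A →+ W) (k • c x)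
    rw [hc, f.2, g.2, hc]
  · apply Subtype.ext
    ext x
    exact (hc x).symm

/-- `A ⊗ Hom_Y(A, W) → W` is injective. -/
theorem HomY.ind {ι : Type*} {f : ι → HomY Y A W} (hf : LinearIndependent (KK Y A) f) (s : Finset ι) :
    ∀ a : ι → A, ∑ i ∈ s, (f i : A →+ W) (a i) = 0 → ∀ i ∈ s, a i = 0 := by
  classical
  induction s using Finset.induction_on with
  | empty => intro a _ i hi; simp at hi
  | insert j s hj ih =>
    intro a h
    rw [Finset.sum_insert hj] at h
    by_cases h0 : a j = 0
    · rw [h0, map_zero, zero_add] at h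
      intro i hi
      rcases Finset.mem_insert.1 hi with rfl | hi
      · exact h0
      · exact ih a h i hi
    exfalso
    let N : AddSubgroup A :=
      { carrier := {x | ∃ b : ι → A, (f j : A →+ W) x = ∑ i ∈ s, (f i : A →+ W) (b i)}
        zero_mem' := ⟨0, by simp⟩
        add_mem' := by
          rintro x y ⟨b, hb⟩ ⟨c, hc⟩
          refine ⟨b + c, ?_⟩
          rw [map_add, hb, hc, ← Finset.sum_add_distrib]
          exact Finset.sum_congr rfl fun i _ => by rw [Pi.add_apply, map_add]
        neg_mem' := by
          rintro x ⟨b, hb⟩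
          refine ⟨-b, ?_⟩
          rw [map_neg, hb, ← Finset.sum_neg_distrib]
          exact Finset.sum_congr rfl fun i _ => by rw [Pi.neg_apply, map_neg] }
    have hN : N = ⊤ := by
      rcases hI.irr N (by
        rintro k x ⟨b, hb⟩
        refine ⟨fun i => k • b i, ?_⟩
        rw [(f j).2, hb, Finset.smul_sum]
        exact Finset.sum_congr rfl fun i _ => ((f i).2 k (b i)).symm) with h1 | h1
      · exfalso
        apply h0
        have : a j ∈ N := by
          refine ⟨-a, ?_⟩
          rw [eq_neg_of_add_eq_zero_left h, ← Finset.sum_neg_distrib]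
          exact Finset.sum_congr rfl fun i _ => by rw [Pi.neg_apply, map_neg]
        rw [h1] at this
        exact this
      · exact h1
    have h1 : ∀ x : A, ∃ b : ι → A, (f j : A →+ W) x = ∑ i ∈ s, (f i : A →+ W) (b i) := fun x => by
      have : x ∈ N := by rw [hN]; trivial
      exact this
    choose b hb using h1
    have huniq : ∀ c c' : ι → A, ∑ i ∈ s, (f i : A →+ W) (c i) = ∑ i ∈ s, (f i : A →+ W) (c' i) →
        ∀ i ∈ s, c i = c' i := by
      intro c c' hcc i hi
      have h2 := ih (c - c') (by
        have e : ∑ i ∈ s, (f i : A →+ W) ((c - c') i) =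
            ∑ i ∈ s, (f i : A →+ W) (c i) - ∑ i ∈ s, (f i : A →+ W) (c' i) := by
          rw [← Finset.sum_sub_distrib]
          exact Finset.sum_congr rfl fun i _ => by rw [Pi.sub_apply, map_sub]
        rw [e, hcc, sub_self]) i hi
      exact sub_eq_zero.1 h2
    have hadd : ∀ x y : A, ∀ i ∈ s, b (x + y) i = b x i + b y i := by
      intro x y
      refine huniq (b (x + y)) (fun i => b x i + b y i) ?_
      rw [← hb, map_add, hb, hb, ← Finset.sum_add_distrib]
      exact Finset.sum_congr rfl fun i _ => by rw [map_add]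
    have hsm : ∀ (k : Y) (x : A), ∀ i ∈ s, b (k • x) i = k • b x i := by
      intro k x
      refine huniq (b (k • x)) (fun i => k • b x i) ?_
      rw [← hb, (f j).2, hb, Finset.smul_sum]
      exact Finset.sum_congr rfl fun i _ => ((f i).2 k _).symm
    let κ : ι → KK Y A := fun i =>
      if hi : i ∈ s then KK.mk Y A (AddMonoidHom.mk' (fun x => b x i) fun x y => hadd x y i hi)
        fun k x => hsm k x i hi else 0
    have hκ : ∀ i ∈ s, ∀ x : A, κ i • x = b x i := by
      intro i hi x
      simp only [κ, dif_pos hi]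
      rfl
    have hj' : f j = ∑ i ∈ s, κ i • f i := by
      apply Subtype.ext
      ext x
      rw [hb, AddSubgroup.val_finsetSum, AddMonoidHom.finsetSum_apply]
      exact Finset.sum_congr rfl fun i hi => by rw [HomY.smul_apply, hκ i hi]
    rw [linearIndependent_iff'] at hf
    have h3 := hf (insert j s) (fun i => if i = j then 1 else - κ i) (by
      rw [Finset.sum_insert hj, if_pos rfl, one_smul]
      have e : ∑ i ∈ s, (if i = j then (1 : KK Y A) else - κ i) • f i = - ∑ i ∈ s, κ i • f i := by
        rw [← Finset.sum_neg_distrib]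
        refine Finset.sum_congr rfl fun i hi => ?_
        rw [if_neg (by rintro rfl; exact hj hi), neg_smul]
      rw [e, ← hj', add_neg_cancel]) j (Finset.mem_insert_self _ _)
    rw [if_pos rfl] at h3
    exact one_ne_zero h3

instance [Finite W] : Finite (HomY Y A W) :=
  Finite.of_injective (fun f => ((f : A →+ W) : A → W)) fun _ _ h => Subtype.ext (DFunLike.coe_injective h)

/-- `A ⊗ Hom_Y(A, W) → W` is injective, second form. -/
theorem HomY.ind' [Finite W] {ι : Type*} {a : ι → A} (ha : LinearIndependent (KK Y A) a) (s : Finset ι)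
    (f : ι → HomY Y A W) (h : ∑ i ∈ s, (f i : A →+ W) (a i) = 0) : ∀ i ∈ s, f i = 0 := by
  classical
  have hfin : Module.Finite (KK Y A) (HomY Y A W) := Module.Finite.of_finite
  let b := Module.finBasis (KK Y A) (HomY Y A W)
  have h1 : ∀ i, f i = ∑ j, b.repr (f i) j • b j := fun i => (b.sum_repr (f i)).symm
  have h2 : ∀ i, (f i : A →+ W) (a i) = ∑ j, (b j : A →+ W) (b.repr (f i) j • a i) := by
    intro i
    conv_lhs => rw [h1 i]
    rw [AddSubgroup.val_finsetSum, AddMonoidHom.finsetSum_apply]
    exact Finset.sum_congr rfl fun j _ => HomY.smul_apply _ _ _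
  have h3 : ∑ j, (b j : A →+ W) (∑ i ∈ s, b.repr (f i) j • a i) = 0 := by
    rw [← h]
    rw [Finset.sum_congr rfl fun i (_ : i ∈ s) => h2 i, Finset.sum_comm]
    exact Finset.sum_congr rfl fun j _ => map_sum _ _ _
  have h4 := HomY.ind b.linearIndependent Finset.univ _ h3
  intro i hi
  rw [h1 i]
  refine Finset.sum_eq_zero fun j _ => ?_
  rw [linearIndependent_iff'] at ha
  rw [ha s (fun i => b.repr (f i) j) (h4 j (Finset.mem_univ j)) i hi, zero_smul]

end module

end Cfsg.Agent.Omega.NO3b.Exit.Ten
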