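import Cfsg.Agent.Omega.NO3b.Exit.TenIrr

/-!
# The blocks of `V` in LOC (#18319 (2), #18815 (2); piece L6 of #19802)

`Blk Y Q BB V F L C h M KV S O` : the situation `Ten.Dat` together with `KV ⊴ M` (trivial on `U / V`, normalising `BB`), `Y`
subnormal in `KV`, `S ∈ Syl₂(M)`, `V = ⟨C_V(S)^M⟩`, and a subgroup `O` of `M` (`= O²(P)`), contained in every
subgroup normalised by `O` and `S` which contains a suitable conjugate of `Q`, and without fixed points on `C_V(S)`.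

* `Dat.AA_KV` : `AA` is invariant under every group in which `Y` is subnormal (no Clifford, no cohomology);
* `Blk.V1` : `V₁ = [U, AA]`; `Blk.dich` : `m V₁ = V₁` or `V₁ ∩ m V₁ = 0`;
* `Blk.cent` : `m V₁ ≠ m' V₁` implies that `Y^m` centralises `m' V₁`;
* `Blk.le_sum` : `V = Σ m V₁` (Gaschütz); `Blk.indep` : the sum is direct;
* `Blk.trans` : `S` is transitive on the blocks;
* `Blk.le_F` : `m V₁ ≤ F` if `m V₁ ≠ V₁`; `Blk.fix_of_F` : elements trivial on `F` normalise `V₁`.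
-/

set_option autoImplicit false

open scoped Pointwise

namespace Cfsg.Agent.Omega.NO3b.Exit.TBlk

open Subgroup Ten

universe u v

/-! ### Subnormal chains -/

/-- `Y` is subnormal in `K`. -/
inductive Sn {H : Type u} [Group H] (Y : Subgroup H) : Subgroup H → Prop
  | refl : Sn Y Y
  | step {K K' : Subgroup H} : Sn Y K → K ≤ K' → (∀ k ∈ K', ∀ n ∈ K, k * n * k⁻¹ ∈ K) → Sn Y K'

theorem Sn.le {H : Type u} [Group H] {Y K : Subgroup H} (h : Sn Y K) : Y ≤ K := by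
  induction h with
  | refl => exact le_rfl
  | step _ h1 _ ih => exact ih.trans h1

/-! ### Averaging -/

theorem not_dvd_relIndex {M : Type u} [Group M] [Finite M] {S N : Subgroup M} [N.Normal] (h : ¬ 2 ∣ S.index) :
    ¬ 2 ∣ S.relIndex N := by
  have h1 : S.relIndex N * N.relIndex (N ⊔ S) = (S ⊓ N).relIndex (N ⊔ S) := by
    have := relIndex_inf_mul_relIndex S N (N ⊔ S)
    rwa [inf_eq_left.2 (le_sup_left : N ≤ N ⊔ S)] at this
  have h2 : N.relIndex S * S.relIndex (N ⊔ S) = (N ⊓ S).relIndex (N ⊔ S) := by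
    have := relIndex_inf_mul_relIndex N S (N ⊔ S)
    rwa [inf_eq_left.2 (le_sup_right : S ≤ N ⊔ S)] at this
  rw [relIndex_sup_left] at h1
  rw [inf_comm, ← h1] at h2
  have h3 : N.relIndex S ≠ 0 := index_ne_zero_of_finite
  have h4 : S.relIndex (N ⊔ S) = S.relIndex N := by
    refine Nat.eq_of_mul_eq_mul_left (Nat.pos_of_ne_zero h3) ?_
    rw [h2, mul_comm]
  rw [← h4]
  intro h5
  exact h (h5.trans (relIndex_dvd_index_of_le le_sup_right))

/-- **Gaschütz**, for one vector. -/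
theorem exists_fixed {M : Type u} {U : Type v} [Group M] [Finite M] [AddCommGroup U] [DistribMulAction M U]
    [Finite U] (two : ∀ u : U, u + u = 0) {S N : Subgroup M} [hN : N.Normal] (h : ¬ 2 ∣ S.index)
    (W : AddSubgroup U) {z : U} (hz : ∀ s ∈ S, s • z = z) (hW : ∀ n ∈ N, n • z - z ∈ W) :
    ∃ z' : U, (∀ n ∈ N, n • z' = z') ∧ (∀ s ∈ S, s • z' = z') ∧ z' - z ∈ W := by
  classical
  have : Fintype U := Fintype.ofFinite U
  let O : Finset U := Finset.univ.filter fun x => ∃ n ∈ N, x = n • z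
  have hO : ∀ x, x ∈ O ↔ ∃ n ∈ N, x = n • z := fun x => by simp [O]
  have hcard : O.card = Nat.card (MulAction.orbit N z) := by
    rw [← Nat.card_eq_finsetCard]
    refine Nat.card_congr (Equiv.subtypeEquivRight fun x => ?_)
    rw [hO, MulAction.mem_orbit_iff]
    constructor
    · rintro ⟨n, hn, rfl⟩; exact ⟨⟨n, hn⟩, rfl⟩
    · rintro ⟨n, rfl⟩; exact ⟨n, n.2, rfl⟩
  have hodd : Odd O.card := by
    rw [hcard, Nat.card_congr (MulAction.orbitEquivQuotientStabilizer N z)]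
    change Odd (MulAction.stabilizer N z).index
    rw [← Nat.not_even_iff_odd, even_iff_two_dvd]
    intro h1
    refine not_dvd_relIndex (N := N) h (h1.trans ?_)
    refine index_dvd_of_le (fun n hn => ?_)
    rw [MulAction.mem_stabilizer_iff]
    exact hz _ (mem_subgroupOf.1 hn)
  have hperm : ∀ g : M, (∀ x ∈ O, g • x ∈ O) → g • (∑ x ∈ O, x) = ∑ x ∈ O, x := by
    intro g hg
    rw [Finset.smul_sum]
    refine Finset.sum_bij (fun x _ => g • x) (fun x hx => hg x hx) (fun x _ y _ e => smul_left_cancel g e) ?_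
      fun x _ => rfl
    have hinj : Set.InjOn (fun x => g • x) (O : Set U) := fun x _ y _ e => smul_left_cancel g e
    have h1 : O.image (fun x => g • x) = O := by
      refine Finset.eq_of_subset_of_card_le ?_ ?_
      · intro x hx
        obtain ⟨y, hy, rfl⟩ := Finset.mem_image.1 hx
        exact hg y hy
      · rw [Finset.card_image_of_injOn hinj]
    intro x hx
    rw [← h1] at hx
    obtain ⟨y, hy, e⟩ := Finset.mem_image.1 hx
    exact ⟨y, hy, e⟩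
  refine ⟨∑ x ∈ O, x, fun n hn => hperm n ?_, fun s hs => hperm s ?_, ?_⟩
  · intro x hx
    obtain ⟨m, hm, rfl⟩ := (hO x).1 hx
    exact (hO _).2 ⟨n * m, mul_mem hn hm, smul_smul _ _ _⟩
  · intro x hx
    obtain ⟨m, hm, rfl⟩ := (hO x).1 hx
    refine (hO _).2 ⟨s * m * s⁻¹, hN.conj_mem m hm s, ?_⟩
    have e : (s * m * s⁻¹) • z = (s * m * s⁻¹) • s • z := by rw [hz s hs]
    rw [e, smul_smul, smul_smul]
    congr 1
    group
  · have h1 : (∑ x ∈ O, x) - z = ∑ x ∈ O, (x - z) := by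
      rw [Finset.sum_sub_distrib, Finset.sum_const]
      obtain ⟨k, hk⟩ := hodd
      rw [hk, add_smul, one_smul, mul_smul, two_nsmul, two, zero_add]
    rw [h1]
    refine sum_mem fun x hx => ?_
    obtain ⟨m, hm, rfl⟩ := (hO x).1 hx
    exact hW m hm

/-! ### Consequences of `Dat` -/

section dat

variable {H : Type u} {U : Type v} [Group H] [AddCommGroup U] [DistribMulAction H U]
variable {Y Q BB : Subgroup H} {V F L C : AddSubgroup U} {h : H} (D : Dat Y Q BB V F L C h)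
include D

theorem br_AA_mul {x y : H} (hx : x ∈ D.AA) (hy : y ∈ D.AA) (u : U) : br (x * y) u = br x u + br y u :=
  D.br_mul_B (D.AA_le hx) (D.AA_le hy) u

/-- `AA` is invariant under every group in which `Y` is subnormal. -/
theorem AA_KV [Finite H] [Finite U] {K : Subgroup H} (sn : Sn Y K) (kB : ∀ k ∈ K, ∀ b ∈ BB, k * b * k⁻¹ ∈ BB)
    (kV : ∀ k ∈ K, ∀ u : U, br k u ∈ V) : ∀ k ∈ K, ∀ x ∈ D.AA, k * x * k⁻¹ ∈ D.AA := by
  induction sn with
  | refl => exact fun k hk x hx => D.AA_conj hk hx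
  | @step K K' sn hKK' hn ih =>
    have ih' := ih (fun k hk => kB k (hKK' hk)) (fun k hk => kV k (hKK' hk))
    intro g hg
    let N : Subgroup H := D.AA.map (MulAut.conj g).toMonoidHom
    have hNm : ∀ y, y ∈ N ↔ ∃ x ∈ D.AA, g * x * g⁻¹ = y := fun y => Iff.rfl
    have hcard : Nat.card N = Nat.card D.AA := Nat.card_congr
      (D.AA.equivMapOfInjective _ (MulAut.conj g).injective).symm.toEquiv
    have hNB : ∀ y ∈ N, y ∈ BB ∧ ∀ u : U, br y u ∈ V := by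
      rintro y hy
      obtain ⟨x, hx, rfl⟩ := (hNm y).1 hy
      refine ⟨kB g hg x (D.AA_le hx), fun u => ?_⟩
      rw [D.br_conj' (fun u => D.VC (kV _ (inv_mem hg) u)) (D.AA_le hx), smul_eq]
      exact V.add_mem (kV g hg _) (D.AA_V hx u)
    have hNK : ∀ k ∈ K, ∀ y ∈ N, k * y * k⁻¹ ∈ N := by
      intro k hk y hy
      obtain ⟨x, hx, rfl⟩ := (hNm y).1 hy
      refine (hNm _).2 ⟨g⁻¹ * k * g⁻¹⁻¹ * x * (g⁻¹ * k * g⁻¹⁻¹)⁻¹, ih' _ (hn _ (inv_mem hg) k hk) x hx, ?_⟩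
      group
    rcases D.irr (N := N ⊓ D.AA) inf_le_right (fun k hk y hy =>
      ⟨hNK k (sn.le hk) y hy.1, D.AA_conj hk hy.2⟩) with h1 | h1
    · exfalso
      have h2 : ∃ y ∈ N, y ∉ D.AZ := by
        by_contra hcon
        push Not at hcon
        have h3 : N = D.AA := eq_of_le_of_card_ge (fun y hy => D.AZ_le_AA (hcon y hy)) hcard.ge
        obtain ⟨y, hy, hy'⟩ := D.exists_notMem
        exact hy' (hcon y (h3 ▸ hy))
      obtain ⟨y, hy, hy'⟩ := h2
      obtain ⟨s, hs, hs1, hsF⟩ := D.ne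
      obtain ⟨d, hd, e⟩ := D.surj (hNB y hy).1 hy' (hNB y hy).2 (s := s) ⟨hs, hsF⟩
      apply hs1
      have h3 : s ∈ N ⊓ D.AA := by
        refine ⟨?_, D.AZ_le_AA ⟨hs, hsF⟩⟩
        change s ∈ N
        rw [← e]
        exact mul_mem (hNK d (sn.le (D.QY hd)) y hy) (inv_mem hy)
      rwa [h1, mem_bot] at h3
    · have h2 : D.AA ≤ N := by rw [← h1]; exact inf_le_left
      have h3 : D.AA = N := eq_of_le_of_card_ge h2 hcard.le
      intro x hx
      have h4 : g * x * g⁻¹ ∈ N := (hNm _).2 ⟨x, hx, rfl⟩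
      rwa [← h3] at h4

/-- Every `Y`-homomorphism `AA → V` is `[l, ·]` for some `l ∈ L`. -/
theorem exists_hom [Finite H] [Finite U] {φ : H → U} (hadd : ∀ x ∈ D.AA, ∀ y ∈ D.AA, φ (x * y) = φ x + φ y)
    (hval : ∀ y ∈ D.AA, φ y ∈ V) (heq : ∀ k ∈ Y, ∀ y ∈ D.AA, φ (k * y * k⁻¹) = k • φ y) :
    ∃ l ∈ L, ∀ y ∈ D.AA, φ y = br y l := by
  obtain ⟨a, ha, ha'⟩ := D.exists_notMem
  obtain ⟨l, hl, f, hf, e⟩ := D.span (D.AA_le ha) ha' (D.AA_V ha) (hval a ha)
  have hone : φ 1 = 0 := by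
    have h1 := hadd 1 (one_mem _) 1 (one_mem _)
    rw [one_mul] at h1
    exact left_eq_add.1 h1
  have hinv : ∀ x ∈ D.AA, φ x⁻¹ = - φ x := fun x hx => by
    have h1 := hadd x hx x⁻¹ (inv_mem hx)
    rw [mul_inv_cancel, hone] at h1
    exact (neg_eq_of_add_eq_zero_right h1.symm).symm
  have hbinv : ∀ x ∈ D.AA, br x⁻¹ l = - br x l := fun x hx => by
    rw [D.inv_B (D.AA_le hx), D.neg_eq]
  let N : Subgroup H :=
    { carrier := {y | y ∈ D.AA ∧ φ y = br y l}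
      one_mem' := ⟨one_mem _, by rw [hone, br_one]⟩
      mul_mem' := fun {x y} hx hy => ⟨mul_mem hx.1 hy.1, by
        rw [hadd x hx.1 y hy.1, br_AA_mul D hx.1 hy.1, hx.2, hy.2]⟩
      inv_mem' := fun {x} hx => ⟨inv_mem hx.1, by rw [hinv x hx.1, hbinv x hx.1, hx.2]⟩ }
  have hNA : N ≤ D.AA := fun y hy => hy.1
  have hN : ∀ k ∈ Y, ∀ n ∈ N, k * n * k⁻¹ ∈ N := fun k hk n hn =>
    ⟨D.AA_conj hk hn.1, by rw [heq k hk n hn.1, D.br_conj hk (D.AA_le hn.1), hn.2]⟩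
  have hNe : N ≠ ⊥ := by
    obtain ⟨s, hs, hs1, hsF⟩ := D.ne
    obtain ⟨d, hd, e'⟩ := D.surj (D.AA_le ha) ha' (D.AA_V ha) (s := s) ⟨hs, hsF⟩
    intro h0
    apply hs1
    have h1 : s ∈ N := by
      refine ⟨D.AZ_le_AA ⟨hs, hsF⟩, ?_⟩
      have h2 : d * a * d⁻¹ ∈ D.AA := D.AA_conj (D.QY hd) ha
      rw [← e', hadd _ h2 _ (inv_mem ha), br_AA_mul D h2 (inv_mem ha), heq d (D.QY hd) a ha,
        D.br_conj (D.QY hd) (D.AA_le ha), hinv a ha, hbinv a ha, e, smul_add, D.qF d hd f hf]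
      abel
    rwa [h0, mem_bot] at h1
  have h1 := (D.irr hNA hN).resolve_left hNe
  exact ⟨l, hl, fun y hy => by rw [← h1] at hy; exact hy.2⟩

/-- `Ker [·, l] = 1` on `AA` for `l ∉ C` -/
theorem eq_one_of_br [Finite H] [Finite U] {l : U} (hl : l ∉ C) {y : H} (hy : y ∈ D.AA) (h0 : br y l = 0) :
    y = 1 := by
  let N : Subgroup H :=
    { carrier := {y | y ∈ D.AA ∧ br y l = 0}
      one_mem' := ⟨one_mem _, br_one l⟩
      mul_mem' := fun {x y} hx hy => ⟨mul_mem hx.1 hy.1, by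
        rw [br_AA_mul D hx.1 hy.1, hx.2, hy.2, add_zero]⟩
      inv_mem' := fun {x} hx => ⟨inv_mem hx.1, by rw [D.inv_B (D.AA_le hx.1)]; exact hx.2⟩ }
  have hNA : N ≤ D.AA := fun y hy => hy.1
  have hN : ∀ k ∈ Y, ∀ n ∈ N, k * n * k⁻¹ ∈ N := fun k hk n hn =>
    ⟨D.AA_conj hk hn.1, by rw [D.br_conj hk (D.AA_le hn.1), hn.2, smul_zero]⟩
  rcases D.irr hNA hN with h1 | h1
  · have h2 : y ∈ N := ⟨hy, h0⟩
    rwa [h1, mem_bot] at h2
  · exfalso
    obtain ⟨a, ha, ha'⟩ := D.exists_notMem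
    have h2 : a ∈ N := by rw [h1]; exact ha
    exact hl (D.mem_C_of (D.AA_le ha) ha' h2.2)

/-- `V₁ = [U, AA]` -/
def V1 : AddSubgroup U := AddSubgroup.closure {v | ∃ y ∈ D.AA, ∃ u : U, v = br y u}

theorem br_mem_V1 {y : H} (hy : y ∈ D.AA) (u : U) : br y u ∈ V1 D :=
  AddSubgroup.subset_closure ⟨y, hy, u, rfl⟩

theorem V1_le : V1 D ≤ V := by
  refine (AddSubgroup.closure_le _).2 ?_
  rintro _ ⟨y, hy, u, rfl⟩
  exact D.AA_V hy u

theorem V1_inv {K : Subgroup H} (kA : ∀ k ∈ K, ∀ x ∈ D.AA, k * x * k⁻¹ ∈ D.AA) (kV : ∀ k ∈ K, ∀ u : U, br k u ∈ V)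
    {k : H} (hk : k ∈ K) {v : U} (hv : v ∈ V1 D) : k • v ∈ V1 D := by
  induction hv using AddSubgroup.closure_induction with
  | mem v hv =>
    obtain ⟨y, hy, u, rfl⟩ := hv
    rw [← D.br_conj' (fun u => D.VC (kV _ (inv_mem hk) u)) (D.AA_le hy)]
    exact br_mem_V1 D (kA k hk y hy) u
  | zero => rw [smul_zero]; exact zero_mem _
  | add a b _ _ ha hb => rw [smul_add]; exact add_mem ha hb
  | neg a _ ha => rw [smul_neg]; exact neg_mem ha

theorem V1_Y {k : H} (hk : k ∈ Y) {v : U} (hv : v ∈ V1 D) : k • v ∈ V1 D :=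
  V1_inv D (fun _ hk _ hx => D.AA_conj hk hx) D.yV hk hv

theorem V_le [Finite H] [Finite U] {v : U} (hv : v ∈ V) : ∃ w ∈ V1 D, ∃ f ∈ F, v = w + f := by
  obtain ⟨y, hy, l, hl, f, hf, e⟩ := D.V_span hv
  exact ⟨_, br_mem_V1 D hy l, f, hf, e⟩

/-- `[V, Y] ≤ V₁` -/
theorem br_Y_V1 [Finite H] [Finite U] {k : H} (hk : k ∈ Y) {v : U} (hv : v ∈ V) : br k v ∈ V1 D := by
  revert v
  refine D.gen_sep (p := fun k => ∀ {v : U}, v ∈ V → br k v ∈ V1 D) ?_ ?_ ?_ ?_ ?_ k hk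
  · intro v _; rw [br_one]; exact zero_mem _
  · intro a ha b hb h1 h2 v hv
    have e : br (a * b) v = a • br b v + br a v := by
      simp only [br_def, mul_smul, smul_sub]; abel
    rw [e]
    exact add_mem (V1_Y D ha (h2 hv)) (h1 hv)
  · intro a ha h1 v hv
    have e : br a⁻¹ v = - br a (a⁻¹ • v) := by
      rw [br_def, br_def, smul_inv_smul]; abel
    rw [e]
    exact neg_mem (h1 (D.smul_V (inv_mem ha) hv))
  · intro k hk n _ h1 v hv
    have e : v = k • (k⁻¹ • v) := (smul_inv_smul k v).symm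
    rw [e, br_conj_smul]
    exact V1_Y D hk (h1 (D.smul_V (inv_mem hk) hv))
  · intro d hd v hv
    obtain ⟨w, hw, f, hf, rfl⟩ := V_le D hv
    rw [br_add, br_eq_zero.2 (D.qF d hd f hf), add_zero, br_def]
    exact sub_mem (V1_Y D (D.QY hd) hw) hw

/-- `C_{V₁}(Y) = 0` -/
theorem V1_fix [Finite H] [Finite U] {v : U} (hv : v ∈ V1 D) (hf : ∀ k ∈ Y, k • v = v) : v = 0 := by
  classical
  -- a maximal `Y`-invariant subgroup without fixed points
  let P : Set (AddSubgroup U) := {X | X ≤ V1 D ∧ (∀ k ∈ Y, ∀ x ∈ X, k • x ∈ X) ∧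
    ∀ x ∈ X, (∀ k ∈ Y, k • x = x) → x = 0}
  have hP0 : (⊥ : AddSubgroup U) ∈ P := ⟨bot_le, fun k _ x hx => by
    rw [AddSubgroup.mem_bot] at hx ⊢; rw [hx, smul_zero], fun x hx _ => AddSubgroup.mem_bot.1 hx⟩
  obtain ⟨X, hXP, hmax⟩ := P.toFinite.exists_maximal ⟨_, hP0⟩
  have key : V1 D ≤ X := by
    refine (AddSubgroup.closure_le _).2 ?_
    rintro _ ⟨y0, hy0, u, rfl⟩
    by_contra hne
    -- `X + [u, AA]`
    have hdisj : ∀ y ∈ D.AA, br y u ∈ X → y = 1 := by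
      intro y hy hyX
      let N : Subgroup H :=
        { carrier := {y | y ∈ D.AA ∧ br y u ∈ X}
          one_mem' := ⟨one_mem _, by rw [br_one]; exact zero_mem _⟩
          mul_mem' := fun {x y} hx hy => ⟨mul_mem hx.1 hy.1, by
            rw [br_AA_mul D hx.1 hy.1]; exact add_mem hx.2 hy.2⟩
          inv_mem' := fun {x} hx => ⟨inv_mem hx.1, by rw [D.inv_B (D.AA_le hx.1)]; exact hx.2⟩ }
      rcases D.irr (N := N) (fun y hy => hy.1) (fun k hk n hn =>
        ⟨D.AA_conj hk hn.1, by rw [D.br_conj hk (D.AA_le hn.1)]; exact hXP.2.1 k hk _ hn.2⟩) with h1 | h1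
      · have h2 : y ∈ N := ⟨hy, hyX⟩
        rwa [h1, mem_bot] at h2
      · exact absurd (show y0 ∈ N by rw [h1]; exact hy0).2 hne
    let X' : AddSubgroup U :=
      { carrier := {w | ∃ x ∈ X, ∃ y ∈ D.AA, w = x + br y u}
        zero_mem' := ⟨0, zero_mem _, 1, one_mem _, by rw [br_one, add_zero]⟩
        add_mem' := by
          rintro _ _ ⟨x, hx, y, hy, rfl⟩ ⟨x', hx', y', hy', rfl⟩
          exact ⟨x + x', add_mem hx hx', y * y', mul_mem hy hy', by rw [br_AA_mul D hy hy']; abel⟩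
        neg_mem' := by
          rintro _ ⟨x, hx, y, hy, rfl⟩
          exact ⟨x, hx, y, hy, by rw [D.neg_eq]⟩ }
    have hX' : X' ∈ P := by
      refine ⟨?_, ?_, ?_⟩
      · rintro _ ⟨x, hx, y, hy, rfl⟩
        exact add_mem (hXP.1 hx) (br_mem_V1 D hy u)
      · rintro k hk _ ⟨x, hx, y, hy, rfl⟩
        exact ⟨k • x, hXP.2.1 k hk x hx, k * y * k⁻¹, D.AA_conj hk hy, by
          rw [D.br_conj hk (D.AA_le hy), smul_add]⟩
      · rintro _ ⟨x, hx, y, hy, rfl⟩ hfix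
        have h1 : ∀ k ∈ Y, k • x = x ∧ k * y * k⁻¹ = y := by
          intro k hk
          have h2 := hfix k hk
          rw [smul_add, ← D.br_conj hk (D.AA_le hy)] at h2
          have h3 : br (cm k y) u = br (k * y * k⁻¹) u + br y u := by
            unfold cm
            rw [D.inv_B (D.AA_le hy), br_AA_mul D (D.AA_conj hk hy) hy]
          have h4 : br (cm k y) u ∈ X := by
            have e : br (cm k y) u = x - k • x := by
              rw [h3, ← D.sub_eq_add (br (k * y * k⁻¹) u), sub_eq_sub_iff_add_eq_add, add_comm, h2]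
            rw [e]
            exact sub_mem hx (hXP.2.1 k hk x hx)
          have h5 : cm k y = 1 := hdisj _ (mul_mem (D.AA_conj hk hy) (inv_mem hy)) h4
          have h6 : k * y * k⁻¹ = y := mul_inv_eq_one.1 h5
          refine ⟨?_, h6⟩
          rw [h6] at h2
          exact add_right_cancel h2
        have h2 : x = 0 := hXP.2.2 x hx fun k hk => (h1 k hk).1
        have h3 : y = 1 := D.fix_eq_one hy fun k hk => (h1 k (Y0_le Y hk)).2
        rw [h2, h3, br_one, add_zero]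
    have h1 : X ≤ X' := fun x hx => ⟨x, hx, 1, one_mem _, by rw [br_one, add_zero]⟩
    have h2 : X' ≤ X := hmax hX' h1
    exact hne (h2 ⟨0, zero_mem _, y0, hy0, by rw [zero_add]⟩)
  exact hXP.2.2 v (key hv) hf

/-- A `Y`-invariant subgroup of `V`, not contained in `F`, contains some `[l, AA]`, `l ∈ L - F`. -/
theorem exists_sub [Finite H] [Finite U] {W : AddSubgroup U} (hWV : W ≤ V) (hW : ∀ k ∈ Y, ∀ w ∈ W, k • w ∈ W)
    (hF : ¬ W ≤ F) : ∃ l ∈ L, l ∉ C ∧ ∀ y ∈ D.AA, br y l ∈ W := by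
  obtain ⟨a, ha, ha'⟩ := D.exists_notMem
  obtain ⟨w, hw, hwF⟩ := SetLike.not_le_iff_exists.1 hF
  obtain ⟨l, hl, f, hf, e⟩ := D.span (D.AA_le ha) ha' (D.AA_V ha) (hWV hw)
  refine ⟨l, hl, fun hlC => hwF ?_, ?_⟩
  · rw [e, D.br_C (D.AA_le ha) hlC, zero_add]; exact hf
  let N : Subgroup H :=
    { carrier := {y | y ∈ D.AA ∧ br y l ∈ W}
      one_mem' := ⟨one_mem _, by rw [br_one]; exact zero_mem _⟩
      mul_mem' := fun {x y} hx hy => ⟨mul_mem hx.1 hy.1, by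
        rw [br_AA_mul D hx.1 hy.1]; exact add_mem hx.2 hy.2⟩
      inv_mem' := fun {x} hx => ⟨inv_mem hx.1, by rw [D.inv_B (D.AA_le hx.1)]; exact hx.2⟩ }
  have hN := (D.irr (N := N) (fun y hy => hy.1) (fun k hk n hn =>
    ⟨D.AA_conj hk hn.1, by rw [D.br_conj hk (D.AA_le hn.1)]; exact hW k hk _ hn.2⟩)).resolve_left ?_
  · intro y hy
    rw [← hN] at hy
    exact hy.2
  · obtain ⟨s, hs, hs1, hsF⟩ := D.ne
    obtain ⟨d, hd, e'⟩ := D.surj (D.AA_le ha) ha' (D.AA_V ha) (s := s) ⟨hs, hsF⟩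
    intro h0
    apply hs1
    have h1 : s ∈ N := by
      refine ⟨D.AZ_le_AA ⟨hs, hsF⟩, ?_⟩
      have h2 : br s l = br d w := by
        rw [← e', D.br_comm (D.QY hd) (D.AA_le ha), e, br_add, br_eq_zero.2 (D.qF d hd f hf), add_zero]
      rw [h2, br_def]
      exact sub_mem (hW d (D.QY hd) w hw) hw
    rwa [h0, mem_bot] at h1

/-- A non-zero `Y`-invariant subgroup of `V₁` is not contained in `F`. -/
theorem not_le_F [Finite H] [Finite U] {W : AddSubgroup U} (hWV : W ≤ V1 D) (hW : ∀ k ∈ Y, ∀ w ∈ W, k • w ∈ W)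
    (hne : W ≠ ⊥) : ¬ W ≤ F := by
  intro hWF
  apply hne
  rw [eq_bot_iff]
  intro w hw
  rw [AddSubgroup.mem_bot]
  refine V1_fix D (hWV hw) ?_
  have h1 : ∀ k ∈ Y, ∀ w ∈ W, k • w = w := by
    refine D.gen_sep (p := fun k => ∀ w ∈ W, k • w = w) ?_ ?_ ?_ ?_ ?_
    · intro w _; exact one_smul _ w
    · intro a _ b _ h1 h2 w hw
      rw [mul_smul, h2 w hw, h1 w hw]
    · intro a _ h1 w hw
      rw [inv_smul_eq_iff, h1 w hw]
    · intro k hk g _ h1 w hw
      rw [mul_smul, mul_smul, h1 _ (hW _ (inv_mem hk) w hw), smul_inv_smul]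
    · intro d hd w hw
      exact D.qF d hd w (hWF hw)
  exact fun k hk => h1 k hk w hw

end dat

/-! ### The frame with `M` -/

/-- The situation with `M`. -/
structure Blk {H : Type u} {U : Type v} [Group H] [AddCommGroup U] [DistribMulAction H U]
    (Y Q BB : Subgroup H) (V F L C : AddSubgroup U) (h : H) (M KV S O : Subgroup H) : Prop where
  dat : Dat Y Q BB V F L C h
  KM : KV ≤ M
  nK : ∀ m ∈ M, ∀ k ∈ KV, m * k * m⁻¹ ∈ KV
  mV : ∀ m ∈ M, ∀ v ∈ V, m • v ∈ V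
  kV : ∀ k ∈ KV, ∀ u : U, br k u ∈ V
  kB : ∀ k ∈ KV, ∀ b ∈ BB, k * b * k⁻¹ ∈ BB
  sn : Sn Y KV
  SM : S ≤ M
  S2 : IsPGroup 2 S
  syl : ¬ 2 ∣ S.relIndex M
  gen : ∀ W : AddSubgroup U, (∀ m ∈ M, ∀ w ∈ W, m • w ∈ W) → (∀ v ∈ V, (∀ s ∈ S, s • v = v) → v ∈ W) → V ≤ W
  OM : O ≤ M
  pr : ∃ m ∈ M, ∀ N : Subgroup H, N ≤ M → (∀ q ∈ Q, m * q * m⁻¹ ∈ N) → (∀ o ∈ O, ∀ n ∈ N, o * n * o⁻¹ ∈ N) →
    (∀ s ∈ S, ∀ n ∈ N, s * n * s⁻¹ ∈ N) → O ≤ N
  cz : ∀ z ∈ V, (∀ s ∈ S, s • z = z) → (∀ o ∈ O, o • z = z) → z = 0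

namespace Blk

variable {H : Type u} {U : Type v} [Group H] [AddCommGroup U] [DistribMulAction H U]
variable {Y Q BB : Subgroup H} {V F L C : AddSubgroup U} {h : H} {M KV S O : Subgroup H}
variable (B : Blk Y Q BB V F L C h M KV S O)
include B

theorem AA_K [Finite H] [Finite U] : ∀ k ∈ KV, ∀ x ∈ B.dat.AA, k * x * k⁻¹ ∈ B.dat.AA :=
  AA_KV B.dat B.sn B.kB B.kV

theorem V1_K [Finite H] [Finite U] {k : H} (hk : k ∈ KV) {v : U} (hv : v ∈ V1 B.dat) : k • v ∈ V1 B.dat :=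
  V1_inv B.dat B.AA_K B.kV hk hv

theorem YK : Y ≤ KV := B.sn.le

theorem br_K [Finite H] [Finite U] {k y : H} (hk : k ∈ KV) (hy : y ∈ B.dat.AA) (u : U) :
    br (k * y * k⁻¹) u = k • br y u :=
  B.dat.br_conj' (fun u => B.dat.VC (B.kV _ (inv_mem hk) u)) (B.dat.AA_le hy) u

theorem nK' {m : H} (hm : m ∈ M) {k : H} (hk : k ∈ KV) : m⁻¹ * k * m ∈ KV := by
  have := B.nK m⁻¹ (inv_mem hm) k hk
  rwa [inv_inv] at this

/-- `m V₁` is `KV`-invariant. -/
theorem smul_V1_K [Finite H] [Finite U] {m : H} (hm : m ∈ M) {k : H} (hk : k ∈ KV) {v : U}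
    (hv : v ∈ m • V1 B.dat) : k • v ∈ m • V1 B.dat := by
  obtain ⟨w, hw, rfl⟩ := (AddSubgroup.mem_smul_pointwise_iff_exists _ _ _).1 hv
  refine (AddSubgroup.mem_smul_pointwise_iff_exists _ _ _).2 ⟨(m⁻¹ * k * m) • w, B.V1_K (B.nK' hm hk) hw, ?_⟩
  rw [smul_smul, smul_smul]
  congr 1
  group

theorem smul_V1_le {m : H} (hm : m ∈ M) : m • V1 B.dat ≤ V := by
  intro v hv
  obtain ⟨w, hw, rfl⟩ := (AddSubgroup.mem_smul_pointwise_iff_exists _ _ _).1 hv
  exact B.mV m hm w (V1_le B.dat hw)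

/-- **Dichotomy**, half: `V₁ ∩ m V₁ ≠ 0` implies `m V₁ ≤ V₁`. -/
theorem le_of_inf_ne [Finite H] [Finite U] {m : H} (hm : m ∈ M) (hne : V1 B.dat ⊓ m • V1 B.dat ≠ ⊥) :
    m • V1 B.dat ≤ V1 B.dat := by
  have D := B.dat
  -- `[l, AA] ≤ V₁ ∩ m V₁`
  have hW : ∀ k ∈ KV, ∀ w ∈ V1 B.dat ⊓ m • V1 B.dat, k • w ∈ V1 B.dat ⊓ m • V1 B.dat :=
    fun k hk w hw => ⟨B.V1_K hk hw.1, B.smul_V1_K hm hk hw.2⟩
  obtain ⟨l, hl, hlC, hlW⟩ := exists_sub D (W := V1 B.dat ⊓ m • V1 B.dat) (inf_le_left.trans (V1_le D))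
    (fun k hk => hW k (B.YK hk)) (not_le_F D inf_le_left (fun k hk => hW k (B.YK hk)) hne)
  -- `W' = m⁻¹ [l, AA]`
  let W' : AddSubgroup U :=
    { carrier := {w | ∃ y ∈ D.AA, m • w = br y l}
      zero_mem' := ⟨1, one_mem _, by rw [smul_zero, br_one]⟩
      add_mem' := by
        rintro a b ⟨y, hy, e⟩ ⟨y', hy', e'⟩
        exact ⟨y * y', mul_mem hy hy', by rw [smul_add, e, e', br_AA_mul D hy hy']⟩
      neg_mem' := by
        rintro a ⟨y, hy, e⟩
        exact ⟨y, hy, by rw [smul_neg, e, D.neg_eq]⟩ }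
  have hW1 : W' ≤ V1 D := by
    rintro w ⟨y, hy, e⟩
    have h1 : m • w ∈ m • V1 B.dat := by rw [e]; exact (hlW y hy).2
    exact (AddSubgroup.smul_mem_pointwise_smul_iff).1 h1
  have hW2 : ∀ k ∈ KV, ∀ w ∈ W', k • w ∈ W' := by
    rintro k hk w ⟨y, hy, e⟩
    refine ⟨m * k * m⁻¹ * y * (m * k * m⁻¹)⁻¹, B.AA_K _ (B.nK m hm k hk) y hy, ?_⟩
    rw [B.br_K (B.nK m hm k hk) hy, ← e, smul_smul, smul_smul]
    congr 1
    group
  have hW3 : W' ≠ ⊥ := by
    obtain ⟨a, ha, ha'⟩ := D.exists_notMem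
    intro h0
    have h1 : m⁻¹ • br a l ∈ W' := ⟨a, ha, by rw [smul_inv_smul]⟩
    rw [h0, AddSubgroup.mem_bot] at h1
    have h2 : br a l = 0 := by rw [← smul_inv_smul m (br a l), h1, smul_zero]
    have h3 := eq_one_of_br D hlC ha h2
    exact ha' (h3 ▸ one_mem _)
  obtain ⟨l', hl', hlC', hlW'⟩ := exists_sub D (W := W') (hW1.trans (V1_le D)) (fun k hk => hW2 k (B.YK hk))
    (not_le_F D hW1 (fun k hk => hW2 k (B.YK hk)) hW3)
  -- the bijection
  have hex : ∀ y : D.AA, ∃ x : D.AA, m • br (y : H) l' = br (x : H) l := fun y => by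
    obtain ⟨x, hx, e⟩ := hlW' y y.2
    exact ⟨⟨x, hx⟩, e⟩
  choose θ hθ using hex
  have hinj : Function.Injective θ := by
    intro y y' e
    have h1 : m • br (y : H) l' = m • br (y' : H) l' := by rw [hθ, hθ, e]
    have h2 : br (y : H) l' = br (y' : H) l' := smul_left_cancel m h1
    have h3 : (y : H) * (y' : H) = 1 := by
      refine eq_one_of_br D hlC' (mul_mem y.2 y'.2) ?_
      rw [br_AA_mul D y.2 y'.2, h2, D.two]
    have h4 := D.sq_B (D.AA_le y'.2)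
    exact Subtype.ext (mul_right_cancel (h3.trans h4.symm))
  have hbij : Function.Bijective θ := (Finite.injective_iff_bijective).1 hinj
  have hθmul : ∀ y y' : D.AA, θ (y * y') = θ y * θ y' := by
    intro y y'
    have h1 : br ((θ (y * y') : D.AA) : H) l = br ((θ y * θ y' : D.AA) : H) l := by
      rw [← hθ, Subgroup.coe_mul, Subgroup.coe_mul, br_AA_mul D y.2 y'.2, br_AA_mul D (θ y).2 (θ y').2, smul_add,
        hθ, hθ]
    have h3 : ((θ (y * y') : D.AA) : H) * ((θ y * θ y' : D.AA) : H) = 1 := by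
      refine eq_one_of_br D hlC (mul_mem (θ (y * y')).2 (θ y * θ y').2) ?_
      rw [br_AA_mul D (θ (y * y')).2 (θ y * θ y').2, h1, D.two]
    have h4 := D.sq_B (D.AA_le (θ y * θ y').2)
    exact Subtype.ext (mul_right_cancel (h3.trans h4.symm))
  have hθK : ∀ k ∈ KV, ∀ y : D.AA, ∀ y' : D.AA, (y' : H) = k * y * k⁻¹ →
      ((θ y' : D.AA) : H) = m * k * m⁻¹ * (θ y : H) * (m * k * m⁻¹)⁻¹ := by
    intro k hk y y' e
    have hmk := B.nK m hm k hk
    have hx : m * k * m⁻¹ * (θ y : H) * (m * k * m⁻¹)⁻¹ ∈ D.AA := B.AA_K _ hmk _ (θ y).2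
    have h1 : br ((θ y' : D.AA) : H) l = br (m * k * m⁻¹ * (θ y : H) * (m * k * m⁻¹)⁻¹) l := by
      rw [← hθ, e, B.br_K hk y.2, B.br_K hmk (θ y).2, ← hθ, smul_smul, smul_smul]
      congr 1
      group
    have h3 : ((θ y' : D.AA) : H) * (m * k * m⁻¹ * (θ y : H) * (m * k * m⁻¹)⁻¹) = 1 := by
      refine eq_one_of_br D hlC (mul_mem (θ y').2 hx) ?_
      rw [br_AA_mul D (θ y').2 hx, h1, D.two]
    have h4 := D.sq_B (D.AA_le hx)
    exact mul_right_cancel (h3.trans h4.symm)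
  -- the homomorphisms
  intro v hv
  obtain ⟨w, hw, rfl⟩ := (AddSubgroup.mem_smul_pointwise_iff_exists _ _ _).1 hv
  clear hv
  induction hw using AddSubgroup.closure_induction with
  | zero => rw [smul_zero]; exact zero_mem _
  | add a b _ _ ha hb => rw [smul_add]; exact add_mem ha hb
  | neg a _ ha => rw [smul_neg]; exact neg_mem ha
  | mem w hw =>
    obtain ⟨x0, hx0, u, rfl⟩ := hw
    classical
    let ψ : D.AA → D.AA := fun y => (hbij.2 y).choose
    have hψ : ∀ y, θ (ψ y) = y := fun y => (hbij.2 y).choose_spec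
    let φ : H → U := fun y => if hy : y ∈ D.AA then m • br ((ψ ⟨y, hy⟩ : D.AA) : H) u else 0
    have hφ : ∀ y (hy : y ∈ D.AA), φ y = m • br ((ψ ⟨y, hy⟩ : D.AA) : H) u := fun y hy => dif_pos hy
    have hψmul : ∀ y y' : D.AA, ψ (y * y') = ψ y * ψ y' := fun y y' => hinj (by
      rw [hθmul, hψ, hψ, hψ])
    obtain ⟨l2, hl2, e2⟩ := exists_hom D (φ := φ) (fun x hx y hy => by
        rw [hφ x hx, hφ y hy, hφ _ (mul_mem hx hy)]
        have e : (⟨x * y, mul_mem hx hy⟩ : D.AA) = ⟨x, hx⟩ * ⟨y, hy⟩ := rfl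
        rw [e, hψmul, Subgroup.coe_mul, br_AA_mul D (ψ _).2 (ψ _).2, smul_add])
      (fun y hy => by rw [hφ y hy]; exact B.mV m hm _ (D.AA_V (ψ _).2 u))
      (fun k hk y hy => by
        have hkK := B.YK hk
        have hmk := B.nK' hm hkK
        rw [hφ y hy, hφ _ (D.AA_conj hk hy)]
        have hx : m⁻¹ * k * m * (ψ ⟨y, hy⟩ : H) * (m⁻¹ * k * m)⁻¹ ∈ D.AA := B.AA_K _ hmk _ (ψ _).2
        have h1 : ψ ⟨k * y * k⁻¹, D.AA_conj hk hy⟩ = ⟨_, hx⟩ := by
          apply hinj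
          rw [hψ]
          apply Subtype.ext
          rw [hθK _ hmk (ψ ⟨y, hy⟩) ⟨_, hx⟩ rfl, hψ]
          group
        rw [h1]
        change m • br (m⁻¹ * k * m * (ψ ⟨y, hy⟩ : H) * (m⁻¹ * k * m)⁻¹) u = _
        rw [B.br_K hmk (ψ _).2, smul_smul, smul_smul]
        congr 1
        group)
    have h1 := e2 (θ ⟨x0, hx0⟩) (θ ⟨x0, hx0⟩).2
    rw [hφ _ (θ ⟨x0, hx0⟩).2] at h1
    have h2 : ψ ⟨(θ ⟨x0, hx0⟩ : H), (θ ⟨x0, hx0⟩).2⟩ = ⟨x0, hx0⟩ := hinj (by rw [hψ])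
    rw [h2] at h1
    rw [h1]
    exact br_mem_V1 D (θ ⟨x0, hx0⟩).2 l2

omit B in
theorem card_smul (m : H) (X : AddSubgroup U) : Nat.card (m • X : AddSubgroup U) = Nat.card X :=
  Nat.card_congr ⟨fun x => ⟨m⁻¹ • (x : U), AddSubgroup.mem_pointwise_smul_iff_inv_smul_mem.1 x.2⟩,
    fun x => ⟨m • (x : U), AddSubgroup.smul_mem_pointwise_smul _ _ _ x.2⟩,
    fun _ => Subtype.ext (smul_inv_smul m _), fun _ => Subtype.ext (inv_smul_smul m _)⟩

theorem mem_smul {m : H} {v : U} : v ∈ m • V1 B.dat ↔ ∃ w ∈ V1 B.dat, m • w = v :=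
  AddSubgroup.mem_smul_pointwise_iff_exists _ _ _

/-- **Dichotomy** -/
theorem dich [Finite H] [Finite U] {m : H} (hm : m ∈ M) : m • V1 B.dat = V1 B.dat ∨ V1 B.dat ⊓ m • V1 B.dat = ⊥ := by
  by_cases hne : V1 B.dat ⊓ m • V1 B.dat = ⊥
  · exact Or.inr hne
  left
  have h1 := B.le_of_inf_ne hm hne
  refine AddSubgroup.eq_of_le_of_card_ge h1 (le_of_eq ?_)
  exact (card_smul m _).symm

/-- `Y^m` centralises `m' V₁ ≠ m V₁`. -/
theorem cent [Finite H] [Finite U] {m m' : H} (hm : m ∈ M) (hm' : m' ∈ M)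
    (hne : m • V1 B.dat ≠ m' • V1 B.dat) {k : H} (hk : k ∈ Y) {v : U} (hv : v ∈ m' • V1 B.dat) :
    (m * k * m⁻¹) • v = v := by
  have hn : m⁻¹ * m' ∈ M := mul_mem (inv_mem hm) hm'
  have h1 : V1 B.dat ⊓ (m⁻¹ * m') • V1 B.dat = ⊥ := by
    refine (B.dich hn).resolve_left fun h1 => hne ?_
    rw [mul_smul, inv_smul_eq_iff] at h1
    exact h1.symm
  have hv' : m⁻¹ • v ∈ (m⁻¹ * m') • V1 B.dat := by
    rw [mul_smul]
    exact AddSubgroup.smul_mem_pointwise_smul _ _ _ hv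
  have h2 : br k (m⁻¹ • v) ∈ V1 B.dat ⊓ (m⁻¹ * m') • V1 B.dat := by
    refine ⟨br_Y_V1 B.dat hk (B.smul_V1_le hn hv'), ?_⟩
    change br k (m⁻¹ • v) ∈ (m⁻¹ * m') • V1 B.dat
    rw [br_def]
    exact sub_mem (B.smul_V1_K hn (B.YK hk) hv') hv'
  rw [h1, AddSubgroup.mem_bot, br_eq_zero] at h2
  rw [mul_smul, mul_smul, h2, smul_inv_smul]

/-- the sum of the blocks different from `m V₁` -/
def rest (m : H) : AddSubgroup U := AddSubgroup.closure {v | ∃ m' ∈ M, m • V1 B.dat ≠ m' • V1 B.dat ∧ v ∈ m' • V1 B.dat}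

/-- the sum of all blocks -/
def all : AddSubgroup U := AddSubgroup.closure {v | ∃ m ∈ M, v ∈ m • V1 B.dat}

theorem le_rest {m m' : H} (hm' : m' ∈ M) (hne : m • V1 B.dat ≠ m' • V1 B.dat) : m' • V1 B.dat ≤ B.rest m :=
  fun _ hv => AddSubgroup.subset_closure ⟨m', hm', hne, hv⟩

theorem le_all {m : H} (hm : m ∈ M) : m • V1 B.dat ≤ B.all :=
  fun _ hv => AddSubgroup.subset_closure ⟨m, hm, hv⟩

theorem rest_le_all (m : H) : B.rest m ≤ B.all := by
  refine (AddSubgroup.closure_le _).2 ?_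
  rintro v ⟨m', hm', -, hv⟩
  exact B.le_all hm' hv

theorem all_le : B.all ≤ V := by
  refine (AddSubgroup.closure_le _).2 ?_
  rintro v ⟨m, hm, hv⟩
  exact B.smul_V1_le hm hv

theorem rest_le (m : H) : B.rest m ≤ V := (B.rest_le_all m).trans B.all_le

theorem cent_rest [Finite H] [Finite U] {m : H} (hm : m ∈ M) {k : H} (hk : k ∈ Y) {v : U} (hv : v ∈ B.rest m) :
    (m * k * m⁻¹) • v = v := by
  induction hv using AddSubgroup.closure_induction with
  | mem v hv =>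
    obtain ⟨m', hm', hne, hv⟩ := hv
    exact B.cent hm hm' hne hk hv
  | zero => exact smul_zero _
  | add a b _ _ ha hb => rw [smul_add, ha, hb]
  | neg a _ ha => rw [smul_neg, ha]

/-- **The sum of the blocks is direct.** -/
theorem indep [Finite H] [Finite U] {m : H} (hm : m ∈ M) : m • V1 B.dat ⊓ B.rest m = ⊥ := by
  rw [eq_bot_iff]
  rintro v ⟨hv1, hv2⟩
  obtain ⟨w, hw, rfl⟩ := B.mem_smul.1 hv1
  have h1 : w = 0 := V1_fix B.dat hw fun k hk => by
    have h2 := B.cent_rest hm hk hv2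
    rw [smul_smul, inv_mul_cancel_right, mul_smul] at h2
    exact smul_left_cancel m h2
  rw [h1, smul_zero]
  exact zero_mem _

theorem mem_all {v : U} (hv : v ∈ B.all) (m : H) : ∃ a ∈ m • V1 B.dat, ∃ b ∈ B.rest m, v = a + b := by
  classical
  induction hv using AddSubgroup.closure_induction with
  | mem v hv =>
    obtain ⟨m', hm', hv⟩ := hv
    by_cases hne : m • V1 B.dat = m' • V1 B.dat
    · exact ⟨v, hne ▸ hv, 0, zero_mem _, (add_zero v).symm⟩
    · exact ⟨0, zero_mem _, v, B.le_rest hm' hne hv, (zero_add v).symm⟩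
  | zero => exact ⟨0, zero_mem _, 0, zero_mem _, (add_zero 0).symm⟩
  | add a b _ _ ha hb =>
    obtain ⟨a1, ha1, a2, ha2, rfl⟩ := ha
    obtain ⟨b1, hb1, b2, hb2, rfl⟩ := hb
    exact ⟨_, add_mem ha1 hb1, _, add_mem ha2 hb2, by abel⟩
  | neg a _ ha =>
    obtain ⟨a1, ha1, a2, ha2, rfl⟩ := ha
    exact ⟨_, neg_mem ha1, _, neg_mem ha2, by abel⟩

/-- `M` permutes the blocks. -/
theorem all_M {m : H} (hm : m ∈ M) {v : U} (hv : v ∈ B.all) : m • v ∈ B.all := by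
  induction hv using AddSubgroup.closure_induction with
  | mem v hv =>
    obtain ⟨m', hm', hv⟩ := hv
    refine B.le_all (mul_mem hm hm') ?_
    rw [mul_smul]
    exact AddSubgroup.smul_mem_pointwise_smul _ _ _ hv
  | zero => rw [smul_zero]; exact zero_mem _
  | add a b _ _ ha hb => rw [smul_add]; exact add_mem ha hb
  | neg a _ ha => rw [smul_neg]; exact neg_mem ha

/-- the normal closure of `Y` in `M` -/
def YM (_B : Blk Y Q BB V F L C h M KV S O) : Subgroup H := closure {x | ∃ m ∈ M, ∃ k ∈ Y, x = m * k * m⁻¹}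

theorem YM_le : B.YM ≤ KV := by
  refine (closure_le _).2 ?_
  rintro _ ⟨m, hm, k, hk, rfl⟩
  exact B.nK m hm k (B.YK hk)

theorem YM_conj {m x : H} (hm : m ∈ M) (hx : x ∈ B.YM) : m * x * m⁻¹ ∈ B.YM := by
  induction hx using closure_induction with
  | mem x hx =>
    obtain ⟨g, hg, k, hk, rfl⟩ := hx
    exact subset_closure ⟨m * g, mul_mem hm hg, k, hk, by group⟩
  | one => rw [mul_one, mul_inv_cancel]; exact one_mem _
  | mul x y _ _ hx hy =>
    have e : m * (x * y) * m⁻¹ = m * x * m⁻¹ * (m * y * m⁻¹) := by group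
    rw [e]; exact mul_mem hx hy
  | inv x _ hx =>
    have e : m * x⁻¹ * m⁻¹ = (m * x * m⁻¹)⁻¹ := by group
    rw [e]; exact inv_mem hx

theorem conj_mem_YM {m k : H} (hm : m ∈ M) (hk : k ∈ Y) : m * k * m⁻¹ ∈ B.YM :=
  subset_closure ⟨m, hm, k, hk, rfl⟩

/-- `[V, Y^M] ≤ Σ m V₁` -/
theorem br_YM [Finite H] [Finite U] {x : H} (hx : x ∈ B.YM) {v : U} (hv : v ∈ V) : br x v ∈ B.all := by
  induction hx using closure_induction generalizing v with
  | mem x hx =>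
    obtain ⟨m, hm, k, hk, rfl⟩ := hx
    have e : v = m • (m⁻¹ • v) := (smul_inv_smul m v).symm
    rw [e, br_conj_smul]
    refine B.le_all hm (AddSubgroup.smul_mem_pointwise_smul _ _ _ ?_)
    exact br_Y_V1 B.dat hk (B.mV _ (inv_mem hm) v hv)
  | one => rw [br_one]; exact zero_mem _
  | mul a b ha _ iha ihb =>
    have e : br (a * b) v = a • br b v + br a v := by
      simp only [br_def, mul_smul, smul_sub]; abel
    rw [e]
    exact add_mem (B.all_M (B.KM (B.YM_le ha)) (ihb hv)) (iha hv)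
  | inv a ha iha =>
    have e : br a⁻¹ v = - br a (a⁻¹ • v) := by
      rw [br_def, br_def, smul_inv_smul]; abel
    rw [e]
    exact neg_mem (iha (B.mV _ (inv_mem (B.KM (B.YM_le ha))) v hv))

/-- `O ≤ Y^M` -/
theorem O_le : O ≤ B.YM := by
  obtain ⟨m, hm, hpr⟩ := B.pr
  exact hpr _ (B.YM_le.trans B.KM) (fun q hq => B.conj_mem_YM hm (B.dat.QY hq)) (fun o ho n hn => B.YM_conj (B.OM ho) hn)
    fun s hs n hn => B.YM_conj (B.SM hs) hn

/-- **Gaschütz** -/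
theorem le_sum [Finite H] [Finite U] : V ≤ B.all := by
  refine B.gen _ (fun m hm w hw => B.all_M hm hw) fun z hzV hz => ?_
  have hn : (B.YM.subgroupOf M).Normal := ⟨fun n hn g => by
    rw [mem_subgroupOf] at hn ⊢
    exact B.YM_conj g.2 hn⟩
  obtain ⟨z', h1, h2, h3⟩ := exists_fixed (M := M) (U := U) B.dat.two (S := S.subgroupOf M) (N := B.YM.subgroupOf M)
    (z := z) B.syl B.all (fun s hs => hz _ (mem_subgroupOf.1 hs)) fun n hn => B.br_YM (mem_subgroupOf.1 hn) hzV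
  have hz'V : z' ∈ V := by
    have e : z' = (z' - z) + z := by abel
    rw [e]; exact add_mem (B.all_le h3) hzV
  have h4 : z' = 0 := B.cz z' hz'V (fun s hs => h2 ⟨s, B.SM hs⟩ (mem_subgroupOf.2 hs)) fun o ho =>
    h1 ⟨o, B.OM ho⟩ (mem_subgroupOf.2 (B.O_le ho))
  rw [h4, zero_sub] at h3
  exact neg_mem_iff.1 h3

theorem all_eq [Finite H] [Finite U] : B.all = V := le_antisymm B.all_le B.le_sum

/-- `V = m V₁ + rest`. -/
theorem exists_add [Finite H] [Finite U] (m : H) {v : U} (hv : v ∈ V) :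
    ∃ a ∈ m • V1 B.dat, ∃ b ∈ B.rest m, v = a + b := B.mem_all (B.le_sum hv) m

/-- `KV` normalises every block. -/
theorem smul_eq_K [Finite H] [Finite U] {m k : H} (hm : m ∈ M) (hk : k ∈ KV) :
    k • m • V1 B.dat = m • V1 B.dat := by
  refine AddSubgroup.eq_of_le_of_card_ge (fun v hv => ?_) (le_of_eq ?_)
  · obtain ⟨w, hw, rfl⟩ := (AddSubgroup.mem_smul_pointwise_iff_exists _ _ _).1 hv
    exact B.smul_V1_K hm hk hw
  · exact (card_smul k _).symm

/-- **`S` is transitive on the blocks.** -/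
theorem trans [Finite H] [Finite U] {m m' : H} (hm : m ∈ M) (hm' : m' ∈ M) :
    ∃ s ∈ S, s • m • V1 B.dat = m' • V1 B.dat := by
  classical
  obtain ⟨m0, hm0, hpr⟩ := B.pr
  suffices key : ∀ m ∈ M, ∃ s ∈ S, s • m0 • V1 B.dat = m • V1 B.dat by
    obtain ⟨s, hs, e⟩ := key m hm
    obtain ⟨s', hs', e'⟩ := key m' hm'
    refine ⟨s' * s⁻¹, mul_mem hs' (inv_mem hs), ?_⟩
    rw [mul_smul, inv_smul_eq_iff.2 e.symm, e']
  intro m1 hm1
  by_contra hcon
  push Not at hcon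
  -- the sum of the other blocks
  let X : AddSubgroup U := AddSubgroup.closure {v | ∃ m ∈ M, (∀ s ∈ S, s • m0 • V1 B.dat ≠ m • V1 B.dat) ∧
    v ∈ m • V1 B.dat}
  have hXV : X ≤ V := by
    refine (AddSubgroup.closure_le _).2 ?_
    rintro v ⟨m, hm, -, hv⟩
    exact B.smul_V1_le hm hv
  have hXS : ∀ s ∈ S, ∀ x ∈ X, s • x ∈ X := by
    intro s hs x hx
    induction hx using AddSubgroup.closure_induction with
    | mem v hv =>
      obtain ⟨m, hm, hne, hv⟩ := hv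
      refine AddSubgroup.subset_closure ⟨s * m, mul_mem (B.SM hs) hm, fun t ht e => ?_, ?_⟩
      · refine hne (s⁻¹ * t) (mul_mem (inv_mem hs) ht) ?_
        rw [mul_smul, e, mul_smul, inv_smul_smul]
      · rw [mul_smul]
        exact AddSubgroup.smul_mem_pointwise_smul _ _ _ hv
    | zero => rw [smul_zero]; exact zero_mem _
    | add a b _ _ ha hb => rw [smul_add]; exact add_mem ha hb
    | neg a _ ha => rw [smul_neg]; exact neg_mem ha
  have hXK : ∀ k ∈ KV, ∀ x ∈ X, k • x ∈ X := by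
    intro k hk x hx
    induction hx using AddSubgroup.closure_induction with
    | mem v hv =>
      obtain ⟨m, hm, hne, hv⟩ := hv
      exact AddSubgroup.subset_closure ⟨m, hm, hne, B.smul_V1_K hm hk hv⟩
    | zero => rw [smul_zero]; exact zero_mem _
    | add a b _ _ ha hb => rw [smul_add]; exact add_mem ha hb
    | neg a _ ha => rw [smul_neg]; exact neg_mem ha
  have hXne : ∃ x ∈ X, x ≠ 0 := by
    obtain ⟨a, ha, ha'⟩ := B.dat.exists_notMem
    have h1 : ∃ u : U, br a u ≠ 0 := by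
      by_contra h0
      push Not at h0
      have h2 : a = 1 := B.dat.ext fun u => by rw [h0 u, br_one]
      exact ha' (h2 ▸ one_mem _)
    obtain ⟨u, hu⟩ := h1
    refine ⟨m1 • br a u, AddSubgroup.subset_closure ⟨m1, hm1, hcon,
      AddSubgroup.smul_mem_pointwise_smul _ _ _ (br_mem_V1 B.dat ha u)⟩, fun h0 => hu ?_⟩
    rw [← inv_smul_smul m1 (br a u), h0, smul_zero]
  -- `O` centralises `X`
  let N : Subgroup H :=
    { carrier := {n | n ∈ B.YM ∧ ∀ x ∈ X, n • x = x}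
      one_mem' := ⟨one_mem _, fun x _ => one_smul _ x⟩
      mul_mem' := fun {a b} ha hb => ⟨mul_mem ha.1 hb.1, fun x hx => by rw [mul_smul, hb.2 x hx, ha.2 x hx]⟩
      inv_mem' := fun {a} ha => ⟨inv_mem ha.1, fun x hx => by rw [inv_smul_eq_iff, ha.2 x hx]⟩ }
  have hconj : ∀ g ∈ M, (∀ x ∈ X, g⁻¹ • x ∈ X) → ∀ n ∈ N, g * n * g⁻¹ ∈ N := by
    intro g hg hgX n hn
    refine ⟨B.YM_conj hg hn.1, fun x hx => ?_⟩
    rw [mul_smul, mul_smul, hn.2 _ (hgX x hx), smul_inv_smul]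
  have hON : O ≤ N := by
    refine hpr N (fun n hn => B.KM (B.YM_le hn.1)) (fun q hq => ⟨B.conj_mem_YM hm0 (B.dat.QY hq), fun x hx => ?_⟩)
      (fun o ho => hconj o (B.OM ho) fun x hx => hXK _ (inv_mem (B.YM_le (B.O_le ho))) x hx)
      fun s hs => hconj s (B.SM hs) fun x hx => hXS _ (inv_mem hs) x hx
    induction hx using AddSubgroup.closure_induction with
    | mem v hv =>
      obtain ⟨m, hm, hne, hv⟩ := hv
      refine B.cent hm0 hm ?_ (B.dat.QY hq) hv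
      have := hne 1 (one_mem _)
      rwa [one_smul] at this
    | zero => exact smul_zero _
    | add a b _ _ ha hb => rw [smul_add, ha, hb]
    | neg a _ ha => rw [smul_neg, ha]
  -- a fixed point of `S` on `X`
  have : Fact (Nat.Prime 2) := ⟨Nat.prime_two⟩
  let act : MulAction S X :=
    { smul := fun s x => ⟨(s : H) • (x : U), hXS s s.2 x x.2⟩
      one_smul := fun x => Subtype.ext (one_smul H (x : U))
      mul_smul := fun s t x => Subtype.ext (mul_smul (s : H) (t : H) (x : U)) }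
  have hsmul : ∀ (s : S) (x : X), ((s • x : X) : U) = (s : H) • (x : U) := fun s x => rfl
  obtain ⟨x, hx, hx0⟩ := hXne
  have hXp : 2 ∣ Nat.card X := by
    have h1 : addOrderOf (⟨x, hx⟩ : X) = 2 := by
      refine addOrderOf_eq_prime ?_ fun h0 => hx0 (congrArg Subtype.val h0)
      rw [two_nsmul]
      exact Subtype.ext (B.dat.two x)
    rw [← h1]
    exact addOrderOf_dvd_natCard _
  have h0fix : (0 : X) ∈ MulAction.fixedPoints S X := fun s => Subtype.ext (smul_zero (s : H))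
  obtain ⟨z, hz, hzne⟩ := B.S2.exists_fixed_point_of_prime_dvd_card_of_fixed_point X hXp h0fix
  apply hzne
  have h1 : (z : U) = 0 := B.cz z (hXV z.2) (fun s hs => by
    have := hz ⟨s, hs⟩
    exact congrArg Subtype.val this) fun o ho => (hON ho).2 z z.2
  exact (Subtype.ext h1).symm

/-- `m V₁ ≤ F` for `m V₁ ≠ V₁`. -/
theorem le_F [Finite H] [Finite U] {m : H} (hm : m ∈ M) (hne : m • V1 B.dat ≠ V1 B.dat) : m • V1 B.dat ≤ F := by
  by_contra hnot
  obtain ⟨l, hl, hlC, hlW⟩ := exists_sub B.dat (W := m • V1 B.dat) (B.smul_V1_le hm)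
    (fun k hk w hw => B.smul_V1_K hm (B.YK hk) hw) hnot
  obtain ⟨a, ha, ha'⟩ := B.dat.exists_notMem
  have h1 : V1 B.dat ⊓ m • V1 B.dat = ⊥ := (B.dich hm).resolve_left hne
  have h2 : br a l ∈ V1 B.dat ⊓ m • V1 B.dat := ⟨br_mem_V1 B.dat ha l, hlW a ha⟩
  rw [h1, AddSubgroup.mem_bot] at h2
  exact ha' (eq_one_of_br B.dat hlC ha h2 ▸ one_mem _)

theorem rest_le_F [Finite H] [Finite U] : B.rest 1 ≤ F := by
  refine (AddSubgroup.closure_le _).2 ?_
  rintro v ⟨m, hm, hne, hv⟩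
  refine B.le_F hm (fun h1 => hne ?_) hv
  rw [one_smul, h1]

/-- `F = (F ∩ V₁) + (the other blocks)` -/
theorem F_eq [Finite H] [Finite U] {f : U} (hf : f ∈ F) : ∃ a ∈ V1 B.dat, a ∈ F ∧ ∃ b ∈ B.rest 1, f = a + b := by
  obtain ⟨a, ha, b, hb, e⟩ := B.exists_add 1 (B.dat.FV hf)
  rw [one_smul] at ha
  refine ⟨a, ha, ?_, b, hb, e⟩
  have e' : a = f - b := by rw [e]; abel
  rw [e']
  exact sub_mem hf (B.rest_le_F hb)

/-- An element of `M` fixing some nonzero vector of `V₁` normalises `V₁`. -/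
theorem smul_eq_of_fix [Finite H] [Finite U] {m : H} (hm : m ∈ M) {v : U} (hv : v ∈ V1 B.dat) (hv0 : v ≠ 0)
    (hmv : m • v = v) : m • V1 B.dat = V1 B.dat := by
  refine (B.dich hm).resolve_right fun h1 => hv0 ?_
  have h2 : v ∈ V1 B.dat ⊓ m • V1 B.dat := ⟨hv, B.mem_smul.2 ⟨v, hv, hmv⟩⟩
  rwa [h1, AddSubgroup.mem_bot] at h2

/-- `F ∩ V₁ ≠ 0` -/
theorem exists_F_V1 [Finite H] [Finite U] : ∃ v ∈ V1 B.dat, v ∈ F ∧ v ≠ 0 := by
  obtain ⟨s, hs, hs1, hsF⟩ := B.dat.ne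
  have h1 : ∃ l ∈ L, br s l ≠ 0 := by
    by_contra h0
    push Not at h0
    exact hs1 (B.dat.eq_one hs h0)
  obtain ⟨l, hl, hne⟩ := h1
  exact ⟨br s l, br_mem_V1 B.dat (B.dat.AZ_le_AA ⟨hs, hsF⟩) l, hsF l, hne⟩

/-- An element of `M` which is trivial on `F` normalises every block. -/
theorem fix_of_F [Finite H] [Finite U] {t : H} (ht : t ∈ M) (htF : ∀ f ∈ F, t • f = f) {m : H} (hm : m ∈ M) :
    t • m • V1 B.dat = m • V1 B.dat := by
  by_cases hne : m • V1 B.dat = V1 B.dat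
  · rw [hne]
    obtain ⟨v, hv, hvF, hv0⟩ := B.exists_F_V1
    exact B.smul_eq_of_fix ht hv hv0 (htF v hvF)
  · have h1 := B.le_F hm hne
    refine AddSubgroup.eq_of_le_of_card_ge (fun v hv => ?_) (le_of_eq ?_)
    · obtain ⟨w, hw, rfl⟩ := (AddSubgroup.mem_smul_pointwise_iff_exists _ _ _).1 hv
      rw [htF w (h1 hw)]
      exact hw
    · exact (card_smul t _).symm

end Blk

end Cfsg.Agent.Omega.NO3b.Exit.TBlk
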