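import Mathlib

/-!
# The local exit of NotFF: unipotent automorphisms (#18053 (5))

`U`, `F` finite elementary abelian 2-groups, `D ≤ Hom(U, F)` separates the points of `U`, `|U| = 2 |D|`, and
`2 |E| |⋂ ker E| ≤ |U|` for `0 ≠ E ≤ D` (`D` is not an offender).  Then every automorphism `μ` of `U` with `D μ ≤ D` is
unipotent: `μ^(2^s) = 1` for all large `s`.
-/

set_option autoImplicit false

namespace Cfsg.Agent.Omega.NO3b.Exit.Unip

variable {U F : Type*} [AddCommGroup U] [AddCommGroup F]

/-- the common kernel -/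
def kr (E : AddSubgroup (U →+ F)) : AddSubgroup U where
  carrier := {u | ∀ δ ∈ E, δ u = 0}
  zero_mem' := fun _ _ => map_zero _
  add_mem' := fun {a b} ha hb δ hδ => by rw [map_add, ha δ hδ, hb δ hδ, add_zero]
  neg_mem' := fun {a} ha δ hδ => by rw [map_neg, ha δ hδ, neg_zero]

theorem mem_kr {E : AddSubgroup (U →+ F)} {u : U} : u ∈ kr E ↔ ∀ δ ∈ E, δ u = 0 := Iff.rfl

theorem card_ker_range {G H : Type*} [AddCommGroup G] [AddCommGroup H] [Finite G] (n : G →+ H) :
    Nat.card G = Nat.card n.range * Nat.card n.ker := by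
  rw [mul_comm, ← AddSubgroup.card_mul_index n.ker, AddSubgroup.index_ker]

/-- an endomorphism without fixed points -/
theorem modEq_one {G : Type*} [AddCommGroup G] [Finite G] {r : ℕ} (hr : r.Prime) (σ : Equiv.Perm G) (hσ : σ ^ r = 1)
    (hfix : ∀ x, σ x = x ↔ x = 0) : Nat.card G ≡ 1 [MOD r] := by
  classical
  have : Fact r.Prime := ⟨hr⟩
  have : Fintype G := Fintype.ofFinite G
  have h2 := Equiv.Perm.card_compl_support_modEq (p := r) (n := 1) (σ := σ) (by rw [pow_one, hσ])
  have h3 : (Equiv.Perm.support σ)ᶜ = {0} := by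
    ext x
    rw [Finset.mem_compl, Equiv.Perm.mem_support, not_not, hfix, Finset.mem_singleton]
  rw [h3, Finset.card_singleton, ← Nat.card_eq_fintype_card] at h2
  exact h2.symm

theorem nsmul_odd {G : Type*} [AddCommGroup G] (h2 : ∀ x : G, x + x = 0) {r : ℕ} (hr : Odd r) (x : G) : r • x = x := by
  obtain ⟨k, rfl⟩ := hr
  rw [add_nsmul, one_nsmul, mul_comm, mul_nsmul, two_nsmul, h2, zero_add]

theorem end_mul (f g : AddMonoid.End U) (u : U) : (f * g) u = f (g u) := rfl

theorem unip [Finite U] [Finite F] (hU : ∀ u : U, u + u = 0) (hF : ∀ u : F, u + u = 0) (D : AddSubgroup (U →+ F))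
    (hcard : Nat.card U = 2 * Nat.card D) (hsep : kr D = ⊥)
    (nf : ∀ E ≤ D, E ≠ ⊥ → 2 * (Nat.card E * Nat.card (kr E)) ≤ Nat.card U) (μ : AddMonoid.End U)
    (hinj : Function.Injective μ) (hμ : ∀ δ ∈ D, (δ.comp μ : U →+ F) ∈ D) :
    ∃ s₀, ∀ s, s₀ ≤ s → μ ^ (2 ^ s) = 1 := by
  classical
  have hfinD : Finite (U →+ F) := Finite.of_injective (fun f : U →+ F => (f : U → F)) DFunLike.coe_injective
  have hfinA : Finite (AddMonoid.End U) :=
    Finite.of_injective (fun f : AddMonoid.End U => (f : U → U)) DFunLike.coe_injective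
  have hord0 : orderOf μ ≠ 0 := by
    have hb : Function.Bijective μ := Finite.injective_iff_bijective.1 hinj
    let e : U ≃+ U := AddEquiv.ofBijective μ hb
    let u : (AddMonoid.End U)ˣ := ⟨μ, (e.symm.toAddMonoidHom : AddMonoid.End U),
      AddMonoidHom.ext fun x => e.apply_symm_apply x, AddMonoidHom.ext fun x => e.symm_apply_apply x⟩
    have h1 : orderOf μ = orderOf u := (orderOf_units (y := u)).symm.symm ▸ rfl
    rw [h1]
    exact (orderOf_pos u).ne'
  have hD2 : ∀ δ : U →+ F, δ + δ = 0 := fun δ => AddMonoidHom.ext fun u => hF _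
  by_cases hpow : ∃ s, orderOf μ = 2 ^ s
  · obtain ⟨s, hs⟩ := hpow
    refine ⟨s, fun s' hs' => ?_⟩
    rw [← orderOf_dvd_iff_pow_eq_one, hs]
    exact pow_dvd_pow 2 hs'
  · exfalso
    -- an odd prime `r` dividing the order
    obtain ⟨r, hr, hr2, hdvd⟩ : ∃ r, r.Prime ∧ r ≠ 2 ∧ r ∣ orderOf μ := by
      by_contra hcon
      push Not at hcon
      apply hpow
      have h1 := Nat.eq_prime_pow_of_unique_prime_dvd (n := orderOf μ) (p := 2) hord0
        (fun {d} hd hdv => by
          by_contra h2
          exact hcon d hd h2 hdv)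
      exact ⟨_, h1⟩
    have hodd : Odd r := hr.odd_of_ne_two hr2
    set ν : AddMonoid.End U := μ ^ (orderOf μ / r) with hν
    have hordν : orderOf ν = r := orderOf_pow_orderOf_div hord0 hdvd
    have hνr : ν ^ r = 1 := by rw [← hordν]; exact pow_orderOf_eq_one ν
    have hν1 : ν ≠ 1 := by
      intro h
      rw [h, orderOf_one] at hordν
      exact hr.one_lt.ne hordν
    have hμpow : ∀ (k : ℕ) (δ : U →+ F), δ ∈ D → (δ.comp (μ ^ k) : U →+ F) ∈ D := by
      intro k
      induction k with
      | zero => intro δ hδ; exact hδ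
      | succ k ih =>
        intro δ hδ
        have h1 := hμ _ (ih δ hδ)
        have e : ((δ.comp (μ ^ k) : U →+ F).comp μ : U →+ F) = δ.comp (μ ^ (k + 1)) := by
          rw [pow_succ]; rfl
        rwa [e] at h1
    have hνpow : ∀ (i : ℕ) (δ : U →+ F), δ ∈ D → (δ.comp (ν ^ i) : U →+ F) ∈ D := by
      intro i δ hδ
      rw [hν, ← pow_mul]
      exact hμpow _ δ hδ
    -- the trace
    let N : U →+ U :=
      { toFun := fun u => ∑ i ∈ Finset.range r, (ν ^ i) u
        map_zero' := by simp
        map_add' := fun a b => by simp only [map_add, Finset.sum_add_distrib] }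
    have hNa : ∀ u, N u = ∑ i ∈ Finset.range r, (ν ^ i) u := fun u => rfl
    have hNδ : ∀ δ ∈ D, δ.comp N ∈ D := by
      intro δ hδ
      have e : δ.comp N = ∑ i ∈ Finset.range r, (δ.comp (ν ^ i) : U →+ F) := by
        apply AddMonoidHom.ext
        intro u
        rw [AddMonoidHom.comp_apply, hNa, map_sum, AddMonoidHom.finsetSum_apply]
        rfl
      rw [e]
      exact D.sum_mem fun i _ => hνpow i δ hδ
    have hNfix : ∀ u, ν u = u → N u = u := by
      intro u hu
      have h1 : ∀ i : ℕ, (ν ^ i) u = u := by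
        intro i
        induction i with
        | zero => rfl
        | succ i ih => rw [pow_succ, end_mul, hu, ih]
      rw [hNa, Finset.sum_congr rfl (fun i _ => h1 i), Finset.sum_const, Finset.card_range]
      exact nsmul_odd hU hodd u
    have hνN : ∀ u, ν (N u) = N u := by
      intro u
      rw [hNa, map_sum]
      have h1 : ∀ i, ν ((ν ^ i) u) = (ν ^ (i + 1)) u := fun i => by rw [pow_succ', end_mul]
      simp_rw [h1]
      have h2 := Finset.sum_range_succ (fun i => (ν ^ i) u) r
      have h3 := Finset.sum_range_succ' (fun i => (ν ^ i) u) r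
      rw [h2] at h3
      have h4 : (ν ^ r) u = (ν ^ 0) u := by rw [hνr, pow_zero]
      rw [h4] at h3
      exact (add_right_cancel h3).symm
    have hNN : ∀ u, N (N u) = N u := fun u => hNfix _ (hνN u)
    let E₁ : AddSubgroup (U →+ F) :=
      { carrier := {δ | δ ∈ D ∧ δ.comp N = δ}
        zero_mem' := ⟨D.zero_mem, rfl⟩
        add_mem' := fun {a b} ha hb => ⟨D.add_mem ha.1 hb.1, by rw [AddMonoidHom.add_comp, ha.2, hb.2]⟩
        neg_mem' := fun {a} ha => ⟨D.neg_mem ha.1, by
          rw [AddMonoidHom.neg_comp, ha.2]⟩ }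
    let E₂ : AddSubgroup (U →+ F) :=
      { carrier := {δ | δ ∈ D ∧ δ.comp N = 0}
        zero_mem' := ⟨D.zero_mem, rfl⟩
        add_mem' := fun {a b} ha hb => ⟨D.add_mem ha.1 hb.1, by
          rw [AddMonoidHom.add_comp, ha.2, hb.2, add_zero]⟩
        neg_mem' := fun {a} ha => ⟨D.neg_mem ha.1, by
          rw [AddMonoidHom.neg_comp, ha.2, neg_zero]⟩ }
    have hcardD : Nat.card D = Nat.card E₁ * Nat.card E₂ := by
      rw [← Nat.card_prod]
      have hNδN : ∀ δ : U →+ F, (δ.comp N).comp N = δ.comp N := by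
        intro δ
        apply AddMonoidHom.ext
        intro u
        show δ (N (N u)) = δ (N u)
        rw [hNN]
      refine Nat.card_congr ⟨fun δ => (⟨(δ : U →+ F).comp N, hNδ _ δ.2, hNδN _⟩,
        ⟨(δ : U →+ F) - (δ : U →+ F).comp N, D.sub_mem δ.2 (hNδ _ δ.2), by
          rw [AddMonoidHom.sub_comp, hNδN, sub_self]⟩),
        fun x => ⟨(x.1 : U →+ F) + x.2, D.add_mem x.1.2.1 x.2.2.1⟩, ?_, ?_⟩
      · intro δ
        apply Subtype.ext
        show (δ : U →+ F).comp N + ((δ : U →+ F) - (δ : U →+ F).comp N) = δ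
        abel
      · intro x
        have h1 : ((x.1 : U →+ F) + x.2).comp N = x.1 := by
          rw [AddMonoidHom.add_comp, x.1.2.2, x.2.2.2, add_zero]
        apply Prod.ext
        · exact Subtype.ext h1
        · apply Subtype.ext
          show (x.1 : U →+ F) + x.2 - ((x.1 : U →+ F) + x.2).comp N = x.2
          rw [h1]; abel
    have hcardU := card_ker_range N
    have hk1 : N.ker ≤ kr E₁ := by
      intro u hu δ hδ
      rw [← hδ.2, AddMonoidHom.comp_apply, AddMonoidHom.mem_ker.1 hu, map_zero]
    have hk2 : N.range ≤ kr E₂ := by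
      rintro _ ⟨u, rfl⟩ δ hδ
      have := DFunLike.congr_fun hδ.2 u
      exact this
    have hp : ∀ {H : AddSubgroup U}, 0 < Nat.card H := fun {H} => Nat.card_pos
    have hle : ∀ {H K : AddSubgroup U}, H ≤ K → Nat.card H ≤ Nat.card K := fun {H K} h =>
      Nat.card_le_card_of_injective (AddSubgroup.inclusion h) (AddSubgroup.inclusion_injective h)
    have hE1 : E₁ ≠ ⊥ → 2 * Nat.card E₁ ≤ Nat.card N.range := by
      intro h
      have h1 := nf E₁ (fun δ hδ => hδ.1) h
      rw [hcardU] at h1
      have h2 := hle hk1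
      refine Nat.le_of_mul_le_mul_right ?_ (hp (H := N.ker))
      calc 2 * Nat.card E₁ * Nat.card N.ker = 2 * (Nat.card E₁ * Nat.card N.ker) := by ring
        _ ≤ 2 * (Nat.card E₁ * Nat.card (kr E₁)) := Nat.mul_le_mul_left _ (Nat.mul_le_mul_left _ h2)
        _ ≤ _ := h1
    have hE2 : E₂ ≠ ⊥ → 2 * Nat.card E₂ ≤ Nat.card N.ker := by
      intro h
      have h1 := nf E₂ (fun δ hδ => hδ.1) h
      rw [hcardU] at h1
      have h2 := hle hk2
      refine Nat.le_of_mul_le_mul_right ?_ (hp (H := N.range))
      calc 2 * Nat.card E₂ * Nat.card N.range = 2 * (Nat.card E₂ * Nat.card N.range) := by ring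
        _ ≤ 2 * (Nat.card E₂ * Nat.card (kr E₂)) := Nat.mul_le_mul_left _ (Nat.mul_le_mul_left _ h2)
        _ ≤ Nat.card N.range * Nat.card N.ker := h1
        _ = _ := mul_comm _ _
    have hE2ne : E₂ ≠ ⊥ := by
      intro h
      -- `N` is injective
      apply hν1
      have h1 : ∀ δ ∈ D, δ.comp N = δ := by
        intro δ hδ
        have h2 : δ - δ.comp N ∈ E₂ := ⟨D.sub_mem hδ (hNδ _ hδ), by
          rw [AddMonoidHom.sub_comp, sub_eq_zero]
          apply AddMonoidHom.ext
          intro u
          show δ (N u) = δ (N (N u))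
          rw [hNN]⟩
        rw [h, AddSubgroup.mem_bot, sub_eq_zero] at h2
        exact h2.symm
      have h2 : ∀ u, N u = u := by
        intro u
        have h3 : u - N u ∈ kr D := by
          intro δ hδ
          rw [map_sub, sub_eq_zero]
          have := DFunLike.congr_fun (h1 δ hδ) u
          exact this.symm
        rw [hsep, AddSubgroup.mem_bot, sub_eq_zero] at h3
        exact h3.symm
      apply AddMonoidHom.ext
      intro u
      have h3 := hνN u
      rw [h2] at h3
      exact h3
    have hE1e : E₁ = ⊥ := by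
      by_contra h
      have h1 := Nat.mul_le_mul (hE1 h) (hE2 hE2ne)
      rw [← hcardU, hcard, hcardD] at h1
      have p1 : 0 < Nat.card E₁ * Nat.card E₂ := Nat.mul_pos Nat.card_pos Nat.card_pos
      have e1 : 2 * Nat.card E₁ * (2 * Nat.card E₂) = 4 * (Nat.card E₁ * Nat.card E₂) := by ring
      rw [e1] at h1
      omega
    have hN0 : ∀ δ ∈ D, δ.comp N = 0 := by
      intro δ hδ
      have h2 : δ.comp N ∈ E₁ := ⟨hNδ _ hδ, by
        apply AddMonoidHom.ext
        intro u
        show δ (N (N u)) = δ (N u)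
        rw [hNN]⟩
      rw [hE1e, AddSubgroup.mem_bot] at h2
      exact h2
    have hNu : ∀ u, N u = 0 := by
      intro u
      have h3 : N u ∈ kr D := fun δ hδ => by
        have := DFunLike.congr_fun (hN0 δ hδ) u
        exact this
      rwa [hsep, AddSubgroup.mem_bot] at h3
    -- fixed points
    have hνinv : ∀ u, ν ((ν ^ (r - 1)) u) = u := by
      intro u
      have : ν ((ν ^ (r - 1)) u) = (ν ^ r) u := by
        rw [← end_mul, ← pow_succ', Nat.sub_add_cancel hr.one_lt.le]
      rw [this, hνr]; rfl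
    have hνinv' : ∀ u, (ν ^ (r - 1)) (ν u) = u := by
      intro u
      have : (ν ^ (r - 1)) (ν u) = (ν ^ r) u := by
        rw [← end_mul, ← pow_succ, Nat.sub_add_cancel hr.one_lt.le]
      rw [this, hνr]; rfl
    have hm1 : Nat.card U ≡ 1 [MOD r] := by
      let σ : Equiv.Perm U := ⟨ν, (ν ^ (r - 1) : AddMonoid.End U), hνinv', hνinv⟩
      refine modEq_one hr σ ?_ fun u => ⟨fun h => ?_, fun h => ?_⟩
      · apply Equiv.ext
        intro u
        have h1 : ∀ i : ℕ, (σ ^ i) u = (ν ^ i) u := by
          intro i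
          induction i with
          | zero => rfl
          | succ i ih => rw [pow_succ', pow_succ', Equiv.Perm.mul_apply, ih, end_mul]; rfl
        rw [h1, hνr]; rfl
      · have h' : ν u = u := h
        rw [← hNfix u h', hNu]
      · rw [h]; exact map_zero ν
    have hm2 : Nat.card D ≡ 1 [MOD r] := by
      let σ : Equiv.Perm D :=
        ⟨fun δ => ⟨((δ : U →+ F).comp ν : U →+ F), by
            have := hνpow 1 δ δ.2
            rwa [pow_one] at this⟩,
          fun δ => ⟨((δ : U →+ F).comp (ν ^ (r - 1)) : U →+ F), hνpow _ δ δ.2⟩, by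
            intro δ
            apply Subtype.ext
            apply AddMonoidHom.ext
            intro u
            show (δ : U →+ F) (ν ((ν ^ (r - 1)) u)) = (δ : U →+ F) u
            rw [hνinv], by
            intro δ
            apply Subtype.ext
            apply AddMonoidHom.ext
            intro u
            show (δ : U →+ F) ((ν ^ (r - 1)) (ν u)) = (δ : U →+ F) u
            rw [hνinv']⟩
      refine modEq_one hr σ ?_ fun δ => ⟨fun h => ?_, fun h => ?_⟩
      · apply Equiv.ext
        intro δ
        apply Subtype.ext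
        apply AddMonoidHom.ext
        intro u
        have h1 : ∀ (i : ℕ) (u : U), ((σ ^ i) δ : U →+ F) u = (δ : U →+ F) ((ν ^ i) u) := by
          intro i
          induction i with
          | zero => intro u; rfl
          | succ i ih =>
            intro u
            rw [pow_succ', Equiv.Perm.mul_apply]
            show ((σ ^ i) δ : U →+ F) (ν u) = _
            rw [ih, pow_succ, end_mul]
        rw [h1, hνr]; rfl
      · have h1 : ((δ : U →+ F).comp ν : U →+ F) = δ := congrArg Subtype.val h
        have h2 : ∀ (i : ℕ) (u : U), (δ : U →+ F) ((ν ^ i) u) = (δ : U →+ F) u := by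
          intro i
          induction i with
          | zero => intro u; rfl
          | succ i ih =>
            intro u
            rw [pow_succ, end_mul, ih]
            exact DFunLike.congr_fun h1 u
        apply Subtype.ext
        apply AddMonoidHom.ext
        intro u
        have h3 := DFunLike.congr_fun (hN0 δ δ.2) u
        rw [AddMonoidHom.comp_apply, hNa, map_sum, Finset.sum_congr rfl (fun i _ => h2 i u), Finset.sum_const,
          Finset.card_range, nsmul_odd hF hodd] at h3
        exact h3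
      · rw [h]; apply Subtype.ext; apply AddMonoidHom.ext; intro u; rfl
    -- contradiction
    rw [hcard] at hm1
    have h1 : 2 * Nat.card D ≡ 2 * 1 [MOD r] := hm2.mul_left 2
    have h2 : (1 : ℕ) ≡ 2 * 1 [MOD r] := hm1.symm.trans h1
    rw [mul_one] at h2
    have h3 := (Nat.modEq_iff_dvd' (by norm_num : 1 ≤ 2)).1 h2
    norm_num at h3
    exact hr.one_lt.ne' h3

end Cfsg.Agent.Omega.NO3b.Exit.Unip
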