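import Cfsg.Agent.Omega.NO3b.Exit.TypeTwo
import Cfsg.Agent.Omega.NO3b.Exit.Unip

/-!
# The local exit of NotFF: two conjugates of a group of TYPE 2 (#18053 (4), helper999)

`Pair B B' V F x₀ x₁` : `B`, `B'` of TYPE 2, `V₀ = V^x₀` is fixed by `B` and moved by `B'`, `V₁ = V^x₁` is fixed by `B'`
and moved by `B`, `L = ⟨B, B'⟩` is not a 2-group.  `B₀ = B ∩ O₂(X)`, `C = C_W(L)`.

* `Pair.ded` : `C_W(B) = V₀ C`; `Pair.top` : `W = V₀ V₁ C`; `Pair.inf_C` : `V₀ ∩ C = F`;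
* `Pair.inj` : `v ∈ V₁`, `b ∈ B - B₀`, `[v, b] ∈ C` imply `v ∈ F`; `Pair.surj` : `V₀ ≤ [V₁, b] C`;
  `Pair.fe_eq` : `C_W(b) = C_W(B)` for `b ∈ B - B₀`;
* `Pair.full` : `κ ∈ X` with `[W, κ] ≤ F`, `[C_W(B), κ] = 1` is in `B₀`;
* `Pair.comm_mem` : `[b, d] ∈ B₀` for `b ∈ B`, `d ∈ B'₀`; `Pair.comm_surj` : `[b, B'₀] = B₀` for `b ∈ B - B₀`.
-/

set_option autoImplicit false
set_option linter.unusedSectionVars false

namespace Cfsg.Agent.Omega.NO3b.Exit.TT

open Cfsg.Agent.Omega.FF.Basic Cfsg.Agent.Omega.FF.Quad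
open Cfsg (pCore)
open scoped Pointwise

variable {X : Type*} [Group X] {W : Type*} [AddCommGroup W] [DistribMulAction X W]

/-- The elements which are trivial on `C` and on `W / C`. -/
def KC (X : Type*) [Group X] {W : Type*} [AddCommGroup W] [DistribMulAction X W] (C : AddSubgroup W) : Subgroup X where
  carrier := {x | (∀ c ∈ C, x • c = c) ∧ ∀ w : W, x • w - w ∈ C}
  one_mem' := ⟨fun c _ => one_smul _ _, fun w => by rw [one_smul, sub_self]; exact C.zero_mem⟩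
  mul_mem' := fun {a b} ha hb => ⟨fun c hc => by rw [mul_smul, hb.1 c hc, ha.1 c hc], fun w => by
    have e : (a * b) • w - w = (a • (b • w - w)) + (a • w - w) := by rw [mul_smul, smul_sub]; abel
    rw [e, ha.1 _ (hb.2 w)]; exact C.add_mem (hb.2 w) (ha.2 w)⟩
  inv_mem' := fun {a} ha => ⟨fun c hc => by rw [inv_smul_eq_iff, ha.1 c hc], fun w => by
    have h1 := ha.2 (a⁻¹ • w)
    rw [smul_inv_smul] at h1
    have e : a⁻¹ • w - w = -(w - a⁻¹ • w) := by abel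
    rw [e]; exact C.neg_mem h1⟩

/-- Two conjugates of a group of TYPE 2. -/
structure Pair {X : Type*} [Group X] {W : Type*} [AddCommGroup W] [DistribMulAction X W] (B B' : Subgroup X)
    (V F : AddSubgroup W) (x₀ x₁ : X) : Prop where
  m : MB W B
  m' : MB W B'
  t : T2 B V F
  t' : T2 B' V F
  n0 : B ≤ nf X (x₀ • V)
  n0' : ¬ B' ≤ nf X (x₀ • V)
  n1 : B' ≤ nf X (x₁ • V)
  n1' : ¬ B ≤ nf X (x₁ • V)
  np : ¬ IsPGroup 2 ↥(B ⊔ B')

variable [Finite X] [Finite W] {S : Sylow 2 X} {V F : AddSubgroup W} {B B' : Subgroup X} {x₀ x₁ : X}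

namespace Dat

variable (h : Dat S V F)
include h

omit [Finite X] [Finite W] in
theorem sub_eq_add (a b : W) : a - b = a + b := by
  rw [sub_eq_add_neg]
  congr 1
  exact (neg_eq_of_add_eq_zero_left (h.two b))

omit [Finite X] [Finite W] in
theorem KC_isPGroup (C : AddSubgroup W) : IsPGroup 2 (KC X C) := by
  intro x
  refine ⟨1, Subtype.ext ?_⟩
  rw [pow_one]
  show ((x ^ 2 : KC X C) : X) = 1
  rw [Subgroup.coe_pow, pow_two]
  apply h.faith
  intro w
  have h1 := x.2.1 _ (x.2.2 w)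
  rw [smul_sub] at h1
  have h2 : (x : X) • (x : X) • w = ((x : X) • w - w) + (x : X) • w := by rw [← h1]; abel
  rw [mul_smul, h2]
  have e : ((x : X) • w - w) + (x : X) • w = ((x : X) • w + (x : X) • w) - w := by abel
  rw [e, h.two, zero_sub]
  exact neg_eq_of_add_eq_zero_left (h.two w)

omit [Finite X] [Finite W] in
theorem KF_comm {x y : X} (hx : x ∈ KF X F h.Fx) (hy : y ∈ KF X F h.Fx) : x * y = y * x := by
  have h1 : x * x = 1 := h.KF_two hx
  have h2 : y * y = 1 := h.KF_two hy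
  have h3 : (x * y) * (x * y) = 1 := h.KF_two ((KF X F h.Fx).mul_mem hx hy)
  have e1 : x⁻¹ = x := inv_eq_of_mul_eq_one_left h1
  have e2 : y⁻¹ = y := inv_eq_of_mul_eq_one_left h2
  have e3 : (x * y)⁻¹ = x * y := inv_eq_of_mul_eq_one_left h3
  rw [mul_inv_rev, e1, e2] at e3
  exact e3.symm

omit [Finite X] [Finite W] in
theorem KF_conj {x : X} (hx : x ∈ KF X F h.Fx) (g : X) : g * x * g⁻¹ ∈ KF X F h.Fx := by
  intro w
  have h1 := hx (g⁻¹ • w)
  have h2 := h.Fx g _ h1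
  have e : (g * x * g⁻¹) • w - w = g • (x • g⁻¹ • w - g⁻¹ • w) := by
    rw [smul_sub, smul_inv_smul, mul_smul, mul_smul]
  rw [e, h2]; exact h1

end Dat

namespace Pair

variable (p : Pair B B' V F x₀ x₁) (h : Dat S V F)
include p

omit [Finite X] [Finite W] in
theorem symm : Pair B' B V F x₁ x₀ :=
  ⟨p.m', p.m, p.t', p.t, p.n1, p.n1', p.n0, p.n0', by rw [sup_comm]; exact p.np⟩

omit [Finite X] [Finite W] in
theorem a0 : T2x B' V F x₀ := p.t'.all x₀ p.n0'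

omit [Finite X] [Finite W] in
theorem a1 : T2x B V F x₁ := p.t.all x₁ p.n1'

include h

theorem v0 : x₀ • V ≤ fx W B := le_cf.1 (h.bo_cent p.m.bo p.n0)

theorem v1 : x₁ • V ≤ fx W B' := p.symm.v0 h

theorem ded : fx W B = x₀ • V ⊔ fx W (B ⊔ B') := by
  apply le_antisymm
  · intro w hw
    have h1 : w ∈ x₀ • V ⊔ fx W B' := by rw [p.a0.sup]; exact AddSubgroup.mem_top w
    obtain ⟨v, hv, c, hc, rfl⟩ := mem_sup h1
    have h2 : c ∈ fx W B := by
      have : c = (v + c) - v := by abel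
      rw [this]
      exact AddSubgroup.sub_mem _ hw (p.v0 h hv)
    refine AddSubgroup.add_mem _ ((le_sup_left : x₀ • V ≤ _) hv) ((le_sup_right : fx W (B ⊔ B') ≤ _) ?_)
    rw [fx_sup]
    exact ⟨h2, hc⟩
  · exact sup_le (p.v0 h) (fx_anti le_sup_left)

theorem top : x₀ • V ⊔ x₁ • V ⊔ fx W (B ⊔ B') = ⊤ := by
  rw [eq_top_iff, ← p.a0.sup, p.symm.ded h, sup_comm B' B, sup_assoc]

theorem inf_C : x₀ • V ⊓ fx W (B ⊔ B') = F := by
  apply le_antisymm
  · rw [← p.a0.inf]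
    exact inf_le_inf_left _ (fx_anti le_sup_right)
  · exact le_inf (h.F_le x₀) (h.F_fx _)

theorem commF {b : X} (hb : b ∈ B ⊓ pCore 2 X) : b ∈ KF X F h.Fx := fun w =>
  MB.T2.comm_core p.m h p.t p.m h p.n1' hb w

theorem commF' {b : X} (hb : b ∈ B' ⊓ pCore 2 X) : b ∈ KF X F h.Fx := p.symm.commF h hb

theorem card0 : Nat.card V = 2 * (Nat.card ↥(B ⊓ pCore 2 X) * Nat.card F) := by
  rw [← p.t.card, ← p.t.idx]; ring

/-- an element of `B - O₂(X)` generates `B` over `B ∩ O₂(X)` -/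
theorem coset {b c : X} (hb : b ∈ B) (hbQ : b ∉ pCore 2 X) (hc : c ∈ B) :
    c ∈ B ⊓ pCore 2 X ∨ c * b ∈ B ⊓ pCore 2 X := by
  have hidx : ((pCore 2 X).subgroupOf B).index = 2 := by
    have h1 := Subgroup.card_mul_index ((pCore 2 X).subgroupOf B)
    have h2 : Nat.card ((pCore 2 X).subgroupOf B) = Nat.card ↥(B ⊓ pCore 2 X) := by
      refine Nat.card_congr ⟨fun x => ⟨(x : B), (x : B).2, x.2⟩, fun x => ⟨⟨x, x.2.1⟩, x.2.2⟩, fun _ => rfl, fun _ => rfl⟩
    rw [h2, ← p.t.idx, mul_comm 2] at h1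
    exact Nat.eq_of_mul_eq_mul_left Nat.card_pos h1
  have h3 := Subgroup.mul_mem_iff_of_index_two hidx (a := (⟨c, hc⟩ : B)) (b := (⟨b, hb⟩ : B))
  rw [Subgroup.mem_subgroupOf, Subgroup.mem_subgroupOf, Subgroup.mem_subgroupOf] at h3
  by_cases h4 : c ∈ pCore 2 X
  · exact Or.inl ⟨hc, h4⟩
  · right
    refine ⟨B.mul_mem hc hb, ?_⟩
    exact h3.2 ⟨fun h5 => absurd h5 h4, fun h5 => absurd h5 hbQ⟩

theorem F_le_C : F ≤ fx W (B ⊔ B') := h.F_fx _

/-- `β` is injective -/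
theorem inj {b : X} (hb : b ∈ B) (hbQ : b ∉ pCore 2 X) {v : W} (hv : v ∈ x₁ • V)
    (hc : b • v - v ∈ fx W (B ⊔ B')) : v ∈ F := by
  by_contra hvF
  have hbv : b • v ∈ (b * x₁) • V := by rw [mul_smul]; exact smul_mem' hv
  have hbB' : b • v ∈ fx W B' := by
    have h1 : b • v = (b • v - v) + v := by abel
    rw [h1]
    exact AddSubgroup.add_mem _ (fx_anti le_sup_right hc) (p.v1 h hv)
  by_cases hfix : B' ≤ nf X ((b * x₁) • V)
  swap
  · have h1 := (p.t'.all _ hfix).inf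
    have h2 : b • v ∈ F := by rw [← h1]; exact ⟨hbv, hbB'⟩
    apply hvF
    have h3 := h.Fx b⁻¹ _ h2
    rw [inv_smul_smul] at h3
    rw [h3]; exact h2
  -- `β = 0`
  have h1 : (b * x₁) • V ≤ fx W B' := le_cf.1 (h.bo_cent p.m'.bo hfix)
  have hb1 : ∀ u ∈ x₁ • V, b • u - u ∈ fx W (B ⊔ B') := by
    intro u hu
    rw [fx_sup]
    refine ⟨fun c hc => p.m.quad h b hb c hc u, ?_⟩
    apply AddSubgroup.sub_mem _ (h1 ?_) (p.v1 h hu)
    rw [mul_smul]; exact smul_mem' hu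
  have hbW : ∀ w : W, b • w - w ∈ fx W (B ⊔ B') := by
    intro w
    have hw : w ∈ x₁ • V ⊔ fx W B := by rw [p.a1.sup]; exact AddSubgroup.mem_top w
    obtain ⟨v, hv, c, hc, rfl⟩ := mem_sup hw
    have e : b • (v + c) - (v + c) = (b • v - v) + (b • c - c) := by rw [smul_add]; abel
    rw [e, hc b hb, sub_self, add_zero]
    exact hb1 v hv
  have hBK : B ≤ KC X (fx W (B ⊔ B')) := by
    intro c hc
    refine ⟨fun w hw => hw c ((le_sup_left : B ≤ B ⊔ B') hc), fun w => ?_⟩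
    rcases p.coset h hb hbQ hc with h2 | h2
    · exact p.F_le_C h (p.commF h h2 w)
    · have h3 := p.F_le_C h (p.commF h h2 (b⁻¹ • w))
      have h4 := hbW (b⁻¹ • w)
      rw [smul_inv_smul] at h4
      rw [mul_smul, smul_inv_smul] at h3
      have e : c • w - w = (c • w - b⁻¹ • w) - (w - b⁻¹ • w) := by abel
      rw [e]; exact AddSubgroup.sub_mem _ h3 h4
  apply p.np
  have hn : B' ≤ Subgroup.normalizer (KC X (fx W (B ⊔ B')) : Set X) := by
    have key : ∀ g ∈ B', ∀ x ∈ KC X (fx W (B ⊔ B')), g * x * g⁻¹ ∈ KC X (fx W (B ⊔ B')) := by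
      intro g hg x hx
      have hgC : ∀ c ∈ fx W (B ⊔ B'), g • c = c := fun c hc => hc g ((le_sup_right : B' ≤ B ⊔ B') hg)
      have hgC' : ∀ c ∈ fx W (B ⊔ B'), g⁻¹ • c = c :=
        fun c hc => hc g⁻¹ ((le_sup_right : B' ≤ B ⊔ B') (B'.inv_mem hg))
      refine ⟨fun c hc => ?_, fun w => ?_⟩
      · rw [mul_smul, mul_smul, hgC' c hc, hx.1 c hc, hgC c hc]
      · have h2 := hx.2 (g⁻¹ • w)
        have e : (g * x * g⁻¹) • w - w = g • (x • g⁻¹ • w - g⁻¹ • w) := by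
          rw [smul_sub, smul_inv_smul, mul_smul, mul_smul]
        rw [e, hgC _ h2]; exact h2
    intro g hg
    rw [Subgroup.mem_normalizer_iff]
    intro x
    refine ⟨fun hx => key g hg x hx, fun hx => ?_⟩
    have h2 := key g⁻¹ (B'.inv_mem hg) _ hx
    have e : g⁻¹ * (g * x * g⁻¹) * g⁻¹⁻¹ = x := by group
    rwa [e] at h2
  have h2 : IsPGroup 2 ↥(KC X (fx W (B ⊔ B')) ⊔ B') := by
    rw [sup_comm]
    exact IsPGroup.to_sup_of_normal_right' p.m'.bo.ea.isPGroup (h.KC_isPGroup _) hn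
  exact h2.to_le (sup_le_sup_right hBK _)

theorem inj' {b : X} (hb : b ∈ B') (hbQ : b ∉ pCore 2 X) {v : W} (hv : v ∈ x₀ • V)
    (hc : b • v - v ∈ fx W (B ⊔ B')) : v ∈ F := by
  rw [sup_comm] at hc
  exact p.symm.inj h hb hbQ hv hc

/-- `C_W(b) = C_W(B)` -/
theorem fe_eq {b : X} (hb : b ∈ B) (hbQ : b ∉ pCore 2 X) {w : W} (hw : b • w = w) : w ∈ fx W B := by
  have h1 : w ∈ x₁ • V ⊔ fx W B := by rw [p.a1.sup]; exact AddSubgroup.mem_top w
  obtain ⟨v, hv, c, hc, rfl⟩ := mem_sup h1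
  have h2 : b • v = v := by
    rw [smul_add, hc b hb] at hw
    exact add_right_cancel hw
  have h3 := p.inj h hb hbQ hv (by rw [h2, sub_self]; exact AddSubgroup.zero_mem _)
  exact AddSubgroup.add_mem _ (h.F_fx B h3) hc

/-- `β` is surjective -/
theorem surj {b : X} (hb : b ∈ B) (hbQ : b ∉ pCore 2 X) {u : W} (hu : u ∈ x₀ • V) :
    ∃ v ∈ x₁ • V, b • v - v - u ∈ fx W (B ⊔ B') := by
  set C := fx W (B ⊔ B') with hC
  let f : ↥(x₁ • V) →+ W :=
    { toFun := fun v => b • (v : W) - v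
      map_zero' := by simp
      map_add' := fun v w => by
        show b • ((v : W) + w) - (v + w) = (b • (v : W) - v) + (b • (w : W) - w)
        rw [smul_add]; abel }
  have hfx : ∀ v : ↥(x₁ • V), f v = b • (v : W) - v := fun _ => rfl
  have hker : Nat.card f.ker = Nat.card F := by
    refine Nat.card_congr ⟨fun v => ⟨((v : ↥(x₁ • V)) : W), p.inj h hb hbQ (v : ↥(x₁ • V)).2 (by
      have h1 := v.2
      rw [AddMonoidHom.mem_ker, hfx] at h1
      rw [h1]; exact AddSubgroup.zero_mem _)⟩, fun v => ⟨⟨v, h.F_le x₁ v.2⟩, by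
      rw [AddMonoidHom.mem_ker, hfx]
      show b • (v : W) - v = 0
      rw [h.Fx b v v.2, sub_self]⟩, fun _ => rfl, fun _ => rfl⟩
  have h1 := Unip.card_ker_range f
  rw [card_smul', hker] at h1
  have hD : f.range ⊓ C = ⊥ := by
    rw [eq_bot_iff]
    rintro _ ⟨⟨v, rfl⟩, h2⟩
    have h3 := p.inj h hb hbQ v.2 h2
    rw [AddSubgroup.mem_bot, hfx, h.Fx b v h3, sub_self]
  have h2 := card_sup_inf f.range C
  rw [hD, AddSubgroup.card_bot, mul_one] at h2
  have h3 := card_sup_inf (x₀ • V) C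
  rw [p.inf_C h, card_smul', ← p.ded h] at h3
  have hle : f.range ⊔ C ≤ fx W B := by
    refine sup_le ?_ (fx_anti le_sup_left)
    rintro _ ⟨v, rfl⟩
    exact fun c hc => p.m.quad h b hb c hc v
  have heq : f.range ⊔ C = fx W B := by
    apply eq_of_card_le hle
    have pF : 0 < Nat.card F := Nat.card_pos
    refine Nat.le_of_mul_le_mul_right ?_ pF
    rw [h3, h2, h1]
    exact le_of_eq (by ring)
  have h4 : u ∈ f.range ⊔ C := by rw [heq]; exact p.v0 h hu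
  obtain ⟨_, ⟨v, rfl⟩, c, hc, he⟩ := mem_sup h4
  refine ⟨v, v.2, ?_⟩
  have e : b • (v : W) - v - u = -c := by rw [← he, hfx]; abel
  rw [e]; exact AddSubgroup.neg_mem _ hc

/-- `B₀` is the full group of elements with `[W, κ] ≤ F`, `[C_W(B), κ] = 1`. -/
theorem full {k : X} (hk : k ∈ KF X F h.Fx) (hfix : ∀ w ∈ fx W B, k • w = w) : k ∈ B ⊓ pCore 2 X := by
  set K := KF X F h.Fx with hK
  set B₀ := B ⊓ pCore 2 X with hB₀
  set D := K ⊓ cf X (x₁ • V) with hD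
  have hBK : B₀ ≤ K := fun b hb => p.commF h hb
  have pF : 0 < Nat.card F := Nat.card_pos
  have hB1 : B₀ ≠ ⊥ := by
    intro h0
    have h1 := h.two_lt
    rw [p.card0 h, ← hB₀, h0, Subgroup.card_bot, one_mul] at h1
    exact lt_irrefl _ h1
  have hmv : ¬ K ≤ cf X (x₁ • V) := by
    intro h0
    apply hB1
    rw [← p.a1.cf_eq, ← hB₀]
    exact (inf_eq_left.2 (hBK.trans h0)).symm
  have hKp : IsPGroup 2 K := by
    intro x
    refine ⟨1, Subtype.ext ?_⟩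
    have := h.KF_two x.2
    simpa [pow_two] using this
  have hKn : K ≤ nf X (x₁ • V) := by
    have key : ∀ x ∈ K, ∀ w ∈ x₁ • V, x • w ∈ x₁ • V := by
      intro x hx w hw
      have e : x • w = (x • w - w) + w := by abel
      rw [e]
      exact AddSubgroup.add_mem _ (h.F_le x₁ (hx w)) hw
    intro x hx
    rw [mem_nf]
    apply le_antisymm
    · intro w hw
      have h1 := key x hx _ (mem_smul.1 hw)
      rwa [smul_inv_smul] at h1
    · intro w hw
      rw [mem_smul]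
      exact key _ (K.inv_mem hx) _ hw
  have h1 := h.nff' x₁ hKp hKn (fun a ha v _ => by
    rw [smul_smul, h.KF_two ha, one_smul]) hmv
  have h2 : Nat.card F ≤ Nat.card ↥(x₁ • V ⊓ fx W K) := card_le (le_inf (h.F_le x₁) (h.F_fx _))
  have h3 : Nat.card K * Nat.card F < Nat.card V * Nat.card D := lt_of_le_of_lt (Nat.mul_le_mul_left _ h2) h1
  have hf : Fact (Nat.Prime 2) := ⟨Nat.prime_two⟩
  have h4 : 2 * (Nat.card K * Nat.card F) ≤ Nat.card V * Nat.card D := by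
    refine two_mul_le_of_pow ?_ ?_ h3
    · obtain ⟨a, ha⟩ := IsPGroup.iff_card.1 hKp
      obtain ⟨b, hb⟩ := card_pow h.two F
      exact ⟨a + b, by rw [ha, hb, pow_add]⟩
    · obtain ⟨a, ha⟩ := IsPGroup.iff_card.1 (hKp.to_le (inf_le_left : D ≤ K))
      obtain ⟨b, hb⟩ := card_pow h.two V
      exact ⟨b + a, by rw [ha, hb, pow_add]⟩
  have h5 : Nat.card K ≤ Nat.card B₀ * Nat.card D := by
    rw [p.card0 h, ← hB₀] at h4
    have p2 : 0 < 2 * Nat.card F := by positivity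
    refine Nat.le_of_mul_le_mul_left ?_ p2
    calc 2 * Nat.card F * Nat.card K = 2 * (Nat.card K * Nat.card F) := by ring
      _ ≤ 2 * (Nat.card B₀ * Nat.card F) * Nat.card D := h4
      _ = _ := by ring
  have hBD : B₀ ⊓ cf X (x₁ • V) = ⊥ := p.a1.cf_eq
  let f : B₀ × D → K := fun x => ⟨(x.1 : X) * (x.2 : X), K.mul_mem (hBK x.1.2) x.2.2.1⟩
  have hinj : Function.Injective f := by
    rintro ⟨a, c⟩ ⟨a', c'⟩ he
    have he' : (a : X) * c = a' * c' := congrArg Subtype.val he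
    have h6 : (a' : X)⁻¹ * a ∈ B₀ ⊓ cf X (x₁ • V) := by
      refine ⟨B₀.mul_mem (B₀.inv_mem a'.2) a.2, ?_⟩
      have e : (a' : X)⁻¹ * a = c' * (c : X)⁻¹ := by
        have : (a' : X) * c' * (c : X)⁻¹ = a := by rw [← he']; group
        rw [← this]; group
      rw [e]
      exact (cf X (x₁ • V)).mul_mem c'.2.2 ((cf X (x₁ • V)).inv_mem c.2.2)
    rw [hBD, Subgroup.mem_bot, inv_mul_eq_one] at h6
    have h7 : (c : X) = c' := by rw [h6] at he'; exact mul_left_cancel he'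
    exact Prod.ext (Subtype.ext h6.symm) (Subtype.ext h7)
  have hbij : Function.Bijective f := by
    rw [Nat.bijective_iff_injective_and_card]
    refine ⟨hinj, le_antisymm (Nat.card_le_card_of_injective f hinj) ?_⟩
    rw [Nat.card_prod]; exact h5
  obtain ⟨⟨a, c⟩, hac⟩ := hbij.2 ⟨k, hk⟩
  have hac' : (a : X) * c = k := congrArg Subtype.val hac
  have hc1 : (c : X) = 1 := by
    apply h.faith
    intro w
    have hw : w ∈ x₁ • V ⊔ fx W B := by rw [p.a1.sup]; exact AddSubgroup.mem_top w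
    obtain ⟨v, hv, d, hd, rfl⟩ := mem_sup hw
    have h6 : (c : X) • d = d := by
      have e : (c : X) = (a : X)⁻¹ * k := by rw [← hac']; group
      rw [e, mul_smul, hfix d hd, inv_smul_eq_iff]
      exact (hd a a.2.1).symm
    rw [smul_add, h6, c.2.2 v hv]
  rw [← hac', hc1, mul_one]
  exact a.2

/-- `[b, d] ∈ B₀` for `d ∈ B'₀` -/
theorem comm_mem {b d : X} (hb : b ∈ B) (hd : d ∈ B' ⊓ pCore 2 X) : b * d * b⁻¹ * d⁻¹ ∈ B ⊓ pCore 2 X := by
  have hdK := p.commF' h hd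
  apply p.full h
  · exact (KF X F h.Fx).mul_mem (h.KF_conj hdK b) ((KF X F h.Fx).inv_mem hdK)
  · intro w hw
    have h1 : d⁻¹ • w ∈ fx W B := by
      have h2 := (KF X F h.Fx).inv_mem hdK w
      have e : d⁻¹ • w = (d⁻¹ • w - w) + w := by abel
      rw [e]
      exact AddSubgroup.add_mem _ (h.F_fx B h2) hw
    rw [mul_smul, mul_smul, mul_smul, h1 b⁻¹ (B.inv_mem hb), smul_inv_smul, hw b hb]

/-- `[b, B'₀] = B₀` for `b ∈ B - B₀` -/
theorem comm_surj {b : X} (hb : b ∈ B) (hbQ : b ∉ pCore 2 X) {c : X} (hc : c ∈ B ⊓ pCore 2 X) :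
    ∃ d ∈ B' ⊓ pCore 2 X, b * d * b⁻¹ * d⁻¹ = c := by
  let f : ↥(B' ⊓ pCore 2 X) → ↥(B ⊓ pCore 2 X) := fun d => ⟨b * d * b⁻¹ * (d : X)⁻¹, p.comm_mem h hb d.2⟩
  have hinj : Function.Injective f := by
    intro d e hde
    have h1 : b * d * b⁻¹ * (d : X)⁻¹ = b * e * b⁻¹ * (e : X)⁻¹ := congrArg Subtype.val hde
    have hdK := p.commF' h d.2
    have heK := p.commF' h e.2
    -- `[b, e⁻¹ d] = 1`
    have h2 : (e : X)⁻¹ * d * b = b * ((e : X)⁻¹ * d) := by
      have hc1 : (b * d * b⁻¹) * (d : X)⁻¹ * (e : X) = (e : X) * ((b * d * b⁻¹) * (d : X)⁻¹) :=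
        h.KF_comm ((KF X F h.Fx).mul_mem (h.KF_conj hdK b) ((KF X F h.Fx).inv_mem hdK)) heK
      have hc2 : (d : X) * e = e * d := h.KF_comm hdK heK
      have h3 : b * d * b⁻¹ * (d : X)⁻¹ * e = b * e * b⁻¹ := by rw [h1]; group
      rw [hc1] at h3
      -- e * (b d b⁻¹ d⁻¹) = b e b⁻¹
      have h4 : (b * e * b⁻¹)⁻¹ * (b * d * b⁻¹) = (e : X)⁻¹ * d := by
        have hbd : (b * d * b⁻¹) * (d : X)⁻¹ = (d : X)⁻¹ * (b * d * b⁻¹) :=
          h.KF_comm (h.KF_conj hdK b) ((KF X F h.Fx).inv_mem hdK)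
        have h5 : (b * e * b⁻¹) * ((e : X)⁻¹ * d) = b * d * b⁻¹ := by
          rw [← h3, hbd]
          have hc3 : (e : X) * ((d : X)⁻¹ * (b * d * b⁻¹)) = ((b * d * b⁻¹) * (d : X)⁻¹) * e := by
            rw [← hbd, ← hc1]
          rw [hc3]
          have : b * d * b⁻¹ * (d : X)⁻¹ * e * ((e : X)⁻¹ * d) = b * d * b⁻¹ := by group
          exact this
        rw [← h5]; group
      have h6 : b * ((e : X)⁻¹ * d) * b⁻¹ = (e : X)⁻¹ * d := by
        have : (b * e * b⁻¹)⁻¹ * (b * d * b⁻¹) = b * ((e : X)⁻¹ * d) * b⁻¹ := by group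
        rw [this] at h4
        exact h4
      have h7 : b * ((e : X)⁻¹ * d) = (e : X)⁻¹ * d * b := by
        calc b * ((e : X)⁻¹ * d) = (b * ((e : X)⁻¹ * d) * b⁻¹) * b := by group
          _ = _ := by rw [h6]
      exact h7.symm
    -- so `e⁻¹ d` centralises `V₀`
    have h3 : (e : X)⁻¹ * d ∈ (B' ⊓ pCore 2 X) ⊓ cf X (x₀ • V) := by
      refine ⟨(B' ⊓ pCore 2 X).mul_mem ((B' ⊓ pCore 2 X).inv_mem e.2) d.2, ?_⟩
      set k := (e : X)⁻¹ * d with hk
      have hkB' : k ∈ B' := ((B' ⊓ pCore 2 X).mul_mem ((B' ⊓ pCore 2 X).inv_mem e.2) d.2).1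
      intro u hu
      obtain ⟨v, hv, hvc⟩ := p.surj h hb hbQ hu
      have h4 : k • v = v := p.v1 h hv k hkB'
      have h5 : k • (b • v - v) = b • v - v := by
        rw [smul_sub, smul_smul, h2, mul_smul, h4]
      have h6 : k • (b • v - v - u) = b • v - v - u := hvc k ((le_sup_right : B' ≤ B ⊔ B') hkB')
      rw [smul_sub, h5] at h6
      exact sub_right_injective h6
    have h4 := p.a0.cf_eq
    rw [h4, Subgroup.mem_bot, inv_mul_eq_one] at h3
    exact Subtype.ext h3.symm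
  have hcard : Nat.card ↥(B' ⊓ pCore 2 X) = Nat.card ↥(B ⊓ pCore 2 X) := by
    have h1 := p.card0 h
    rw [p.symm.card0 h] at h1
    have pF : 0 < Nat.card F := Nat.card_pos
    have h2 : Nat.card ↥(B' ⊓ pCore 2 X) * Nat.card F = Nat.card ↥(B ⊓ pCore 2 X) * Nat.card F := by omega
    exact Nat.eq_of_mul_eq_mul_right pF h2
  have hbij : Function.Bijective f := by
    rw [Nat.bijective_iff_injective_and_card]
    exact ⟨hinj, hcard⟩
  obtain ⟨d, hd⟩ := hbij.2 ⟨c, hc⟩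
  exact ⟨d, d.2, congrArg Subtype.val hd⟩

end Pair

end Cfsg.Agent.Omega.NO3b.Exit.TT
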